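import Cfsg.Agent.CharBase.Ortho
import Cfsg.Agent.Char.AvgN
import Cfsg.Agent.Char.Linear

/-!
The alternating and symmetric squares of a character.
-/

set_option autoImplicit false

open scoped ComplexConjugate Kronecker

namespace Cfsg.Agent.BT

open Cfsg

universe u

section

variable {G : Type u} [Group G]

/-- the swap matrix. -/
def swapM (n : ℕ) : Matrix (Fin n × Fin n) (Fin n × Fin n) ℂ :=
  Matrix.of fun i j => if i = j.swap then 1 else 0

theorem swapM_apply {n : ℕ} (i j : Fin n × Fin n) :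
    swapM n i j = if i = j.swap then 1 else 0 := rfl

theorem mul_swapM_apply {n : ℕ} (B : Matrix (Fin n × Fin n) (Fin n × Fin n) ℂ)
    (i j : Fin n × Fin n) : (B * swapM n) i j = B i j.swap := by
  rw [Matrix.mul_apply, Finset.sum_eq_single j.swap]
  · rw [swapM_apply, if_pos rfl, mul_one]
  · intro k _ hk
    rw [swapM_apply, if_neg hk, mul_zero]
  · intro h
    exact absurd (Finset.mem_univ _) h

theorem swapM_mul_apply {n : ℕ} (B : Matrix (Fin n × Fin n) (Fin n × Fin n) ℂ)
    (i j : Fin n × Fin n) : (swapM n * B) i j = B i.swap j := by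
  rw [Matrix.mul_apply, Finset.sum_eq_single i.swap]
  · rw [swapM_apply, if_pos (by simp), one_mul]
  · intro k _ hk
    rw [swapM_apply, if_neg, zero_mul]
    intro h
    apply hk
    rw [h]; simp
  · intro h
    exact absurd (Finset.mem_univ _) h

theorem swapM_sq (n : ℕ) : swapM n * swapM n = 1 := by
  ext i j
  rw [mul_swapM_apply, swapM_apply, Matrix.one_apply]
  simp

theorem swapM_comm {n : ℕ} (A : Matrix (Fin n) (Fin n) ℂ) :
    swapM n * (A ⊗ₖ A) = (A ⊗ₖ A) * swapM n := by
  ext i j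
  rw [mul_swapM_apply, swapM_mul_apply, Matrix.kroneckerMap_apply, Matrix.kroneckerMap_apply]
  simp only [Prod.fst_swap, Prod.snd_swap]
  ring

theorem trace_swapM {n : ℕ} (A : Matrix (Fin n) (Fin n) ℂ) :
    ((A ⊗ₖ A) * swapM n).trace = (A * A).trace := by
  unfold Matrix.trace
  have h1 : ∀ q : Fin n × Fin n, ((A ⊗ₖ A) * swapM n).diag q = A q.1 q.2 * A q.2 q.1 := by
    intro q
    rw [Matrix.diag_apply, mul_swapM_apply, Matrix.kroneckerMap_apply]
    rfl
  rw [Finset.sum_congr rfl (fun q _ => h1 q), Fintype.sum_prod_type]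
  refine Finset.sum_congr rfl fun i _ => ?_
  rw [Matrix.diag_apply, Matrix.mul_apply]

/-- the hom from `ℤˣ`. -/
noncomputable def signM (n : ℕ) : ℤˣ →* Matrix (Fin n × Fin n) (Fin n × Fin n) ℂ where
  toFun u := if u = 1 then 1 else swapM n
  map_one' := by simp
  map_mul' a b := by
    rcases Int.units_eq_one_or a with rfl | rfl <;> rcases Int.units_eq_one_or b with rfl | rfl
    · simp
    · simp
    · simp
    · have h : ((-1 : ℤˣ) : ℤˣ) ≠ 1 := by decide
      rw [if_neg h]
      simp [swapM_sq]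

/-- the tensor square with the swap. -/
noncomputable def sqHom {n : ℕ} (M : G →* Matrix (Fin n) (Fin n) ℂ) :
    G × ℤˣ →* Matrix (Fin n × Fin n) (Fin n × Fin n) ℂ where
  toFun q := (M q.1 ⊗ₖ M q.1) * signM n q.2
  map_one' := by
    simp only [Prod.fst_one, Prod.snd_one, map_one, mul_one]
    exact Matrix.one_kronecker_one
  map_mul' a b := by
    have hc : signM n a.2 * (M b.1 ⊗ₖ M b.1) = (M b.1 ⊗ₖ M b.1) * signM n a.2 := by
      change (if a.2 = 1 then 1 else swapM n) * _ = _ * (if a.2 = 1 then 1 else swapM n)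
      split_ifs
      · rw [one_mul, mul_one]
      · exact swapM_comm _
    simp only [Prod.fst_mul, Prod.snd_mul, map_mul]
    rw [Matrix.mul_kronecker_mul, mul_assoc, mul_assoc, ← mul_assoc (M b.1 ⊗ₖ M b.1), ← hc,
      mul_assoc]

/-- the character of the tensor square with the swap. -/
theorem sq_isCharacter {χ : G → ℂ} (hχ : IsCharacter G χ) :
    IsCharacter (G × ℤˣ) (fun q => if q.2 = 1 then χ q.1 ^ 2 else χ (q.1 * q.1)) := by
  obtain ⟨n, ρ, rfl⟩ := hχ
  let M : G →* Matrix (Fin n) (Fin n) ℂ :=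
    (LinearMap.toMatrixAlgEquiv' (R := ℂ) (n := Fin n)).toMonoidHom.comp ρ
  let R : Representation ℂ (G × ℤˣ) (Fin n × Fin n → ℂ) :=
    (Matrix.toLinAlgEquiv' (R := ℂ) (n := Fin n × Fin n)).toMonoidHom.comp (sqHom M)
  have h := CharBase.isCharacter_of_rep R
  have hM : ∀ g, ρ.character g = (M g).trace := by
    intro g
    change LinearMap.trace ℂ _ (ρ g) = _
    rw [LinearMap.trace_eq_matrix_trace ℂ (Pi.basisFun ℂ (Fin n))]
    rfl
  have hR : R.character = (fun q : G × ℤˣ => if q.2 = 1 then ρ.character q.1 ^ 2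
      else ρ.character (q.1 * q.1)) := by
    funext q
    have h1 : R.character q = (sqHom M q).trace := by
      change LinearMap.trace ℂ _ (Matrix.toLinAlgEquiv' (sqHom M q)) = _
      rw [LinearMap.trace_eq_matrix_trace ℂ (Pi.basisFun ℂ (Fin n × Fin n))]
      congr 1
      exact LinearMap.toMatrixAlgEquiv'_toLinAlgEquiv' _
    rw [h1]
    change ((M q.1 ⊗ₖ M q.1) * (if q.2 = 1 then 1 else swapM n)).trace = _
    split_ifs with h2
    · rw [mul_one, Matrix.trace_kronecker, hM, pow_two]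
    · rw [trace_swapM, hM, map_mul]
  rwa [hR] at h

/-- the sign character. -/
noncomputable def sgnHom : G × ℤˣ →* ℂ where
  toFun q := ((q.2 : ℤ) : ℂ)
  map_one' := by simp
  map_mul' a b := by simp

theorem half_isCharacter [Finite G] {Θ : G × ℤˣ → ℂ} (hΘ : IsCharacter (G × ℤˣ) Θ) :
    IsCharacter G (fun g => (Θ (g, 1) + Θ (g, -1)) / 2) := by
  classical
  have := Fintype.ofFinite G
  let N : Subgroup (G × ℤˣ) := (MonoidHom.fst G ℤˣ).ker
  have := Fintype.ofFinite N
  have hN : N.Normal := MonoidHom.normal_ker _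
  have h1 := Char.avgN_isCharacter N hΘ
  have h2 := CharBase.isCharacter_comp h1 (MonoidHom.inl G ℤˣ)
  let e : ℤˣ ≃ N :=
    { toFun := fun u => ⟨(1, u), rfl⟩
      invFun := fun x => x.1.2
      left_inv := fun u => rfl
      right_inv := fun x => by
        apply Subtype.ext
        have h3 : x.1.1 = 1 := x.2
        apply Prod.ext
        · exact h3.symm
        · rfl }
  have h3 : Nat.card N = 2 := by
    rw [← Nat.card_congr e, Nat.card_eq_fintype_card]
    exact Fintype.card_units_int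
  have h4 : (Char.avgN N Θ ∘ (MonoidHom.inl G ℤˣ)) = (fun g => (Θ (g, 1) + Θ (g, -1)) / 2) := by
    funext g
    rw [Function.comp_apply, Char.avgN_apply, h3,
      ← Fintype.sum_equiv e (fun u => Θ ((1, u) * (g, 1))) _ (fun u => rfl)]
    have h5 : (Finset.univ : Finset ℤˣ) = {1, -1} := by decide
    rw [h5, Finset.sum_pair (by decide)]
    simp only [Prod.mk_mul_mk, one_mul, mul_one]
    push_cast
    ring
  rwa [h4] at h2

/-- the symmetric square is a character. -/
theorem sym2_isCharacter [Finite G] {χ : G → ℂ} (hχ : IsCharacter G χ) :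
    IsCharacter G (fun g => (χ g ^ 2 + χ (g * g)) / 2) := by
  have h := half_isCharacter (sq_isCharacter hχ)
  have h1 : ((-1 : ℤˣ) : ℤˣ) ≠ 1 := by decide
  simp only [if_true, if_neg h1] at h
  exact h

/-- the alternating square is a character. -/
theorem alt2_isCharacter [Finite G] {χ : G → ℂ} (hχ : IsCharacter G χ) :
    IsCharacter G (fun g => (χ g ^ 2 - χ (g * g)) / 2) := by
  have h0 : IsCharacter (G × ℤˣ) (sgnHom : G × ℤˣ → ℂ) := Char.isCharacter_of_hom _
  have h := half_isCharacter (CharBase.isCharacter_mul (sq_isCharacter hχ) h0)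
  have h1 : ((-1 : ℤˣ) : ℤˣ) ≠ 1 := by decide
  have h2 : (fun g => (((fun q : G × ℤˣ => if q.2 = 1 then χ q.1 ^ 2 else χ (q.1 * q.1)) *
      (sgnHom : G × ℤˣ → ℂ)) (g, 1) + ((fun q : G × ℤˣ => if q.2 = 1 then χ q.1 ^ 2
        else χ (q.1 * q.1)) * (sgnHom : G × ℤˣ → ℂ)) (g, -1)) / 2) =
      (fun g => (χ g ^ 2 - χ (g * g)) / 2) := by
    funext g
    simp only [Pi.mul_apply, if_true, if_neg h1]
    change (χ g ^ 2 * (((1 : ℤˣ) : ℤ) : ℂ) + χ (g * g) * (((-1 : ℤˣ) : ℤ) : ℂ)) / 2 = _
    push_cast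
    ring
  rwa [h2] at h

end

end Cfsg.Agent.BT
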