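import Cfsg.Agent.BR.Frob
import Cfsg.Agent.BR.Invol
import Cfsg.Agent.BT.Alt2
import Cfsg.Agent.Char.Galois
import Cfsg.Agent.H79.Linearity

/-!
Groups with a self-centralizing Sylow `p`-subgroup of order `p`: general relations among the
characters of the principal block.
-/

set_option autoImplicit false

open scoped ComplexConjugate

namespace Cfsg.Agent.BT

open Cfsg Subgroup Cfsg.Agent.BR
open Cfsg.Agent.CharBase (oneIrr)

universe u

/-- The common setting. -/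
structure Ex {G : Type u} [Group G] [Finite G] (p : ℕ) (P : Subgroup G) where
  hP : Sp p P
  hC : centralizer (P : Set G) = P
  B : Data p P
  hp3 : 3 ≤ p

section

variable {G : Type u} [Group G] [Fintype G] {p : ℕ} [hp : Fact p.Prime] {P : Subgroup G}
  (st : Ex p P)

include st

theorem Ex.sum_split [Fintype (IrrCharacter G)] (F : IrrCharacter G → ℂ)
    (h : ∀ χ, χ ∉ st.B.X → χ ∉ st.B.Y → F χ = 0) :
    ∑ χ : IrrCharacter G, F χ = ∑ χ ∈ st.B.X, F χ + ∑ ψ ∈ st.B.Y, F ψ := by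
  classical
  rw [← Finset.sum_union st.B.disj]
  symm
  refine Finset.sum_subset (Finset.subset_univ _) fun χ _ hχ => ?_
  rw [Finset.mem_union, not_or] at hχ
  exact h χ hχ.1 hχ.2

theorem Ex.exists_Y : ∃ ψ, ψ ∈ st.B.Y := st.B.Y_nonempty (by have := st.hp3; omega)

theorem Ex.δ_sq {χ : IrrCharacter G} (hχ : χ ∈ st.B.X) : (st.B.δ χ : ℂ) * st.B.δ χ = 1 := by
  rcases st.B.sgn χ hχ with h | h <;> rw [h] <;> norm_num

theorem Ex.sum_Y {x : G} (hx : x ∈ P) (hx1 : x ≠ 1) :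
    ∑ ξ ∈ st.B.Y, (ξ : G → ℂ) x = st.B.δ₀ := by
  classical
  have := Fintype.ofFinite (IrrCharacter G)
  obtain ⟨ψ, hψ⟩ := st.exists_Y
  have h1 := CharBase.sum_degree_mul (G := G) x
  rw [if_neg hx1, st.sum_split _ (fun χ h h' => by
      rw [st.B.out st.hC χ h h' x hx hx1, mul_zero]),
    Finset.sum_congr rfl (fun χ hχ => by rw [st.B.val_one hχ hx hx1, dg_eq]),
    Finset.sum_congr (s₁ := st.B.Y) rfl (fun ξ hξ => by rw [dg_eq, st.B.dg_Y hξ hψ]),
    ← Finset.mul_sum] at h1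
  have h2 := st.B.degEq hψ
  have h3 : ∑ χ ∈ st.B.X, (dg χ : ℂ) * (st.B.δ χ : ℂ) + (st.B.δ₀ : ℂ) * (dg ψ : ℂ) = 0 := by
    have h4 : ((∑ χ ∈ st.B.X, st.B.δ χ * (dg χ : ℤ) + st.B.δ₀ * (dg ψ : ℤ) : ℤ) : ℂ) = 0 := by
      rw [h2]; simp
    push_cast at h4
    rw [← h4]
    congr 1
    exact Finset.sum_congr rfl fun χ _ => by ring
  have h4 : (dg ψ : ℂ) * (∑ ξ ∈ st.B.Y, (ξ : G → ℂ) x) = (dg ψ : ℂ) * st.B.δ₀ := by
    linear_combination h1 - h3
  have h5 : (dg ψ : ℂ) ≠ 0 := by exact_mod_cast (dg_pos ψ).ne'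
  exact mul_left_cancel₀ h5 h4

theorem Ex.sum_Y_conj {x : G} (hx : x ∈ P) (hx1 : x ≠ 1) :
    ∑ ξ ∈ st.B.Y, (ξ : G → ℂ) x * conj ((ξ : G → ℂ) x) = (p : ℂ) - ind P := by
  classical
  have := Fintype.ofFinite (IrrCharacter G)
  have h1 := CharBase.column_orthogonality_of_isConj (G := G) (IsConj.refl x)
  rw [st.hP.centralizer_eq hx hx1, st.hC, st.hP.card,
    st.sum_split _ (fun χ h h' => by rw [st.B.out st.hC χ h h' x hx hx1, zero_mul])] at h1
  have h2 : ∑ χ ∈ st.B.X, (χ : G → ℂ) x * conj ((χ : G → ℂ) x) = ind P := by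
    rw [Finset.sum_congr rfl (g := fun _ => (1 : ℂ))]
    · rw [Finset.sum_const, st.B.cardX, nsmul_eq_mul, mul_one]
    · intro χ hχ
      rw [st.B.val_one hχ hx hx1, map_intCast]
      exact st.δ_sq hχ
  rw [h2] at h1
  linear_combination h1

theorem Ex.card_N : Nat.card (normalizer (P : Set G)) = p * ind P := BR.card_N st.hP st.hC

theorem Ex.card_G : Nat.card G = p * ind P * (normalizer (P : Set G)).index :=
  BR.card_G st.hP st.hC

theorem Ex.P_comm : ∀ a ∈ P, ∀ b ∈ P, a * b = b * a := by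
  intro a ha b hb
  have h1 : a ∈ centralizer (P : Set G) := by rw [st.hC]; exact ha
  exact (Subgroup.mem_centralizer_iff.mp h1 b hb).symm

open Classical in
/-- inner products with a class function supported on the `p`-singular elements. -/
theorem Ex.inner_P {Φ χ : G → ℂ} (hΦ : IsClassFunction G Φ) (hχ : IsClassFunction G χ)
    (h0 : ∀ g, ¬ p ∣ orderOf g → Φ g = 0) :
    ((p * ind P : ℕ) : ℂ) * classInner Φ χ =
      ∑ x ∈ Finset.univ.filter (fun x : G => x ∈ P ∧ x ≠ 1), Φ x * conj (χ x) := by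
  have h1 : ∑ g : G, Φ g * conj (χ g) =
      ∑ g ∈ Finset.univ.filter (fun g : G => orderOf g = p), Φ g * conj (χ g) := by
    rw [Finset.sum_filter]
    refine Finset.sum_congr rfl fun g _ => ?_
    split_ifs with h
    · rfl
    · rcases orderOf_or st.hP st.hC g with h' | h'
      · exact absurd h' h
      · rw [h0 g h', zero_mul]
  have h2 := st.hP.sum_order (fun g => Φ g * conj (χ g)) (fun g h => by
    rw [hΦ g h, hχ g h])
  have hG : (Nat.card G : ℂ) = ((p * ind P : ℕ) : ℂ) * ((normalizer (P : Set G)).index : ℂ) := by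
    rw [st.card_G, Nat.cast_mul]
  unfold classInner
  rw [h1, h2, hG]
  have h3 : ((normalizer (P : Set G)).index : ℂ) ≠ 0 := by
    exact_mod_cast Subgroup.FiniteIndex.index_ne_zero
  have h4 : ((p * ind P : ℕ) : ℂ) ≠ 0 := by
    exact_mod_cast (Nat.mul_pos hp.out.pos (ind_pos P)).ne'
  field_simp

theorem Ex.inner_agree {Φ χ χ' : G → ℂ} (hΦ : IsClassFunction G Φ) (hχ : IsClassFunction G χ)
    (hχ' : IsClassFunction G χ') (h0 : ∀ g, ¬ p ∣ orderOf g → Φ g = 0)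
    (h : ∀ x ∈ P, x ≠ 1 → χ x = χ' x) : classInner Φ χ = classInner Φ χ' := by
  classical
  have h1 := st.inner_P hΦ hχ h0
  have h2 := st.inner_P hΦ hχ' h0
  have h4 : ((p * ind P : ℕ) : ℂ) ≠ 0 := by
    exact_mod_cast (Nat.mul_pos hp.out.pos (ind_pos P)).ne'
  apply mul_left_cancel₀ h4
  rw [h1, h2]
  refine Finset.sum_congr rfl fun x hx => ?_
  rw [Finset.mem_filter] at hx
  rw [h x hx.2.1 hx.2.2]

omit st in
/-- the norm of a character on an abelian group is at least its degree. -/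
theorem norm_ge {A : Subgroup G} (hA : ∀ a ∈ A, ∀ b ∈ A, a * b = b * a) [Fintype A] {χ : G → ℂ}
    (hχ : IsCharacter G χ) :
    ∃ m : ℕ, ∑ x : A, χ x * conj (χ x) = (Nat.card A : ℂ) * m ∧ charDegree χ ≤ m := by
  have hr := CharBase.isCharacter_restrict hχ A
  obtain ⟨r, hr1, hr2⟩ := H79.degree_le_norm_of_linear hr (fun φ _ =>
    H79.linear_of_comm (fun a b => Subtype.ext (hA a a.2 b b.2)) φ)
  refine ⟨r, ?_, ?_⟩
  · have h0 : (Nat.card A : ℂ) ≠ 0 := by exact_mod_cast Nat.card_pos.ne'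
    rw [← hr1]
    unfold classInner
    rw [← mul_assoc, mul_inv_cancel₀ h0, one_mul]
  · have h2 : charDegree (fun h : A => χ h) = charDegree χ := by
      unfold charDegree
      rfl
    rwa [h2] at hr2

/-- the norm of an exceptional character on `P`. -/
theorem Ex.norm_Y [Fintype P] {ψ : IrrCharacter G} (hψ : ψ ∈ st.B.Y)
    (hd : (st.B.δ₀ = -1 ∧ dg ψ = ind P) ∨ (st.B.δ₀ = 1 ∧ dg ψ + ind P = p)) :
    ∑ x : P, (ψ : G → ℂ) x * conj ((ψ : G → ℂ) x) = (p : ℂ) * dg ψ := by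
  classical
  choose m hm1 hm2 using fun ξ : IrrCharacter G =>
    norm_ge (A := P) st.P_comm (CharBase.irr_isCharacter ξ)
  have h1 : ∑ ξ ∈ st.B.Y, ∑ x : P, (ξ : G → ℂ) x * conj ((ξ : G → ℂ) x) =
      (st.B.Y.card : ℂ) * ((p : ℂ) * dg ψ) := by
    rw [Finset.sum_comm, sum_P_split (fun x : P => ∑ ξ ∈ st.B.Y,
      (ξ : G → ℂ) x * conj ((ξ : G → ℂ) x))]
    rw [Finset.sum_congr rfl (fun (x : P) hx => st.sum_Y_conj x.2 (fun h =>
      (Finset.mem_erase.mp hx).1 (Subtype.ext h)))]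
    rw [Finset.sum_const, Finset.card_erase_of_mem (Finset.mem_univ _), Finset.card_univ,
      ← Nat.card_eq_fintype_card, st.hP.card]
    have h2 : ∀ ξ ∈ st.B.Y, (ξ : G → ℂ) ((1 : P) : G) * conj ((ξ : G → ℂ) ((1 : P) : G)) =
        (dg ψ : ℂ) * dg ψ := by
      intro ξ hξ
      have h3 : (ξ : G → ℂ) ((1 : P) : G) = (dg ψ : ℂ) := by
        rw [Subgroup.coe_one, dg_eq, st.B.dg_Y hξ hψ]
      rw [h3, Complex.conj_natCast]
    rw [Finset.sum_congr rfl h2, Finset.sum_const, nsmul_eq_mul, nsmul_eq_mul,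
      ← st.B.cardY]
    have hte : ((st.B.Y.card * ind P : ℕ) : ℂ) = (p : ℂ) - 1 := by
      rw [st.B.cardY, Nat.cast_sub hp.out.one_lt.le]; simp
    push_cast at hte ⊢
    rcases hd with ⟨-, h⟩ | ⟨-, h⟩
    · rw [h]; ring
    · have h4 : (dg ψ : ℂ) + ind P = p := by exact_mod_cast h
      have h5 : (p : ℂ) - ind P = dg ψ := by rw [← h4]; ring
      rw [h5, ← h4]; ring
  have h2 : ∑ ξ ∈ st.B.Y, m ξ = st.B.Y.card * dg ψ := by
    have h3 : ∑ ξ ∈ st.B.Y, ∑ x : P, (ξ : G → ℂ) x * conj ((ξ : G → ℂ) x) =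
        (p : ℂ) * ((∑ ξ ∈ st.B.Y, m ξ : ℕ) : ℂ) := by
      rw [Nat.cast_sum, Finset.mul_sum]
      refine Finset.sum_congr rfl fun ξ _ => ?_
      rw [hm1 ξ, st.hP.card]
    rw [h3] at h1
    have hp0 : (p : ℂ) ≠ 0 := by exact_mod_cast hp.out.ne_zero
    have h4 : (p : ℂ) * ((∑ ξ ∈ st.B.Y, m ξ : ℕ) : ℂ) =
        (p : ℂ) * ((st.B.Y.card * dg ψ : ℕ) : ℂ) := by
      rw [h1]; push_cast; ring
    exact_mod_cast mul_left_cancel₀ hp0 h4
  have h3 : ∀ ξ ∈ st.B.Y, m ξ = dg ψ := by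
    have h4 : ∑ ξ ∈ st.B.Y, (m ξ - dg ψ) = 0 := by
      have h5 : ∑ ξ ∈ st.B.Y, (m ξ - dg ψ) + ∑ ξ ∈ st.B.Y, dg ψ = ∑ ξ ∈ st.B.Y, m ξ := by
        rw [← Finset.sum_add_distrib]
        refine Finset.sum_congr rfl fun ξ hξ => ?_
        have := hm2 ξ
        rw [show charDegree (ξ : G → ℂ) = dg ψ from st.B.dg_Y hξ hψ] at this
        omega
      rw [Finset.sum_const, smul_eq_mul, h2] at h5
      omega
    intro ξ hξ
    have h5 := Finset.sum_eq_zero_iff.mp h4 ξ hξ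
    have := hm2 ξ
    rw [show charDegree (ξ : G → ℂ) = dg ψ from st.B.dg_Y hξ hψ] at this
    omega
  rw [hm1 ψ, st.hP.card, h3 ψ hψ]

/-- pairs of conjugates with a given product. -/
theorem Ex.card_pairs [Fintype (IrrCharacter G)] [DecidableEq G] {g h x : G}
    (hg : ¬ p ∣ orderOf g) (hh : ¬ p ∣ orderOf h) (hx : x ∈ P) (hx1 : x ≠ 1)
    {ψ : IrrCharacter G} (hψ : ψ ∈ st.B.Y) :
    (((Finset.univ : Finset (G × G)).filter
      (fun q => q.1 * g * q.1⁻¹ * (q.2 * h * q.2⁻¹) = x)).card : ℂ) =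
    (Nat.card G : ℂ) * (∑ χ ∈ st.B.X, (st.B.δ χ : ℂ) * (χ : G → ℂ) g * (χ : G → ℂ) h /
      (dg χ : ℂ) + st.B.δ₀ * (ψ : G → ℂ) g * (ψ : G → ℂ) h / (dg ψ : ℂ)) := by
  have hxi : x⁻¹ ∈ P := P.inv_mem hx
  have hxi1 : x⁻¹ ≠ 1 := inv_ne_one.mpr hx1
  rw [H79.card_pairs, st.sum_split _ (fun χ h h' => by
    rw [st.B.out st.hC χ h h' _ hxi hxi1, mul_zero, zero_div])]
  congr 2
  · refine Finset.sum_congr rfl fun χ hχ => ?_
    rw [st.B.val_one hχ hxi hxi1, dg_eq]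
    ring
  · have h1 : ∀ ξ ∈ st.B.Y, (ξ : G → ℂ) g * (ξ : G → ℂ) h * (ξ : G → ℂ) x⁻¹ / (ξ : G → ℂ) 1 =
        ((ψ : G → ℂ) g * (ψ : G → ℂ) h / (dg ψ : ℂ)) * (ξ : G → ℂ) x⁻¹ := by
      intro ξ hξ
      rw [st.B.Y_eq hξ hψ hg, st.B.Y_eq hξ hψ hh, dg_eq, st.B.dg_Y hξ hψ]
      ring
    rw [Finset.sum_congr rfl h1, ← Finset.mul_sum, st.sum_Y hxi hxi1]
    ring

/-- values outside `P` in the normalizer are bounded by the dimension of the `P`-fixed space. -/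
theorem Ex.norm_le_fix [Fintype P] {y : G} (hy : y ∈ normalizer (P : Set G)) (hyP : y ∉ P)
    {χ : G → ℂ} (hχ : IsCharacter G χ) {c : ℕ} (hc : ∑ x : P, χ x = (p : ℂ) * c) :
    ‖χ y‖ ≤ c := by
  classical
  have hcf := CharBase.isClassFunction_of_isCharacter hχ
  set L := normalizer (P : Set G) with hL
  have := Fintype.ofFinite L
  have := Fintype.ofFinite (P.subgroupOf L)
  have hχL : IsCharacter L (fun l : L => χ l) := CharBase.isCharacter_restrict hχ L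
  have e : ∀ w : L, ∑ x : P, χ (x * w) = ∑ x : P.subgroupOf L, χ (((x : L) * w : L) : G) := by
    intro w
    refine Fintype.sum_equiv
      (Subgroup.subgroupOfEquivOfLe (Subgroup.le_normalizer (H := P))).symm.toEquiv _ _ ?_
    intro x
    rfl
  have hcard : (Nat.card (P.subgroupOf L) : ℂ) = p := by
    rw [Nat.card_congr (Subgroup.subgroupOfEquivOfLe (Subgroup.le_normalizer (H := P))).toEquiv,
      st.hP.card]
  have hp0 : (p : ℂ) ≠ 0 := by exact_mod_cast hp.out.ne_zero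
  have h1 := Char.avgN_isCharacter (P.subgroupOf L) hχL
  have h2 : Char.avgN (P.subgroupOf L) (fun l : L => χ l) 1 = c := by
    rw [Char.avgN_apply, ← e 1, hcard]
    simp only [OneMemClass.coe_one, mul_one]
    rw [hc, ← mul_assoc, inv_mul_cancel₀ hp0, one_mul]
  have h3 : Char.avgN (P.subgroupOf L) (fun l : L => χ l) ⟨y, hy⟩ = χ y := by
    rw [Char.avgN_apply, ← e ⟨y, hy⟩, hcard]
    have h4 : ∀ x : P, χ (x * y) = χ y := by
      intro x
      obtain ⟨a, -, ha⟩ := coset_conj st.hP st.hC hy hyP (z := x * y) (by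
        rw [mul_inv_cancel_right]; exact x.2)
      rw [ha]
      exact hcf y a
    rw [Finset.sum_congr rfl (fun x _ => h4 x), Finset.sum_const, Finset.card_univ,
      ← Nat.card_eq_fintype_card, st.hP.card, nsmul_eq_mul, ← mul_assoc, inv_mul_cancel₀ hp0,
      one_mul]
  obtain ⟨n, hn1, hn2⟩ := CharBase.norm_le_of_isCharacter h1 ⟨y, hy⟩
  rw [h2] at hn1
  rw [h3] at hn2
  have : c = n := by exact_mod_cast hn1
  rw [this]
  exact hn2

theorem Ex.mem_or (χ : IrrCharacter G) : χ ∈ st.B.X ∨ χ ∈ st.B.Y ∨ p ∣ dg χ := by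
  classical
  by_cases h1 : χ ∈ st.B.X
  · exact Or.inl h1
  by_cases h2 : χ ∈ st.B.Y
  · exact Or.inr (Or.inl h2)
  right; right
  have := Fintype.ofFinite P
  obtain ⟨m, hm⟩ := st.hP.exists_sum (CharBase.irr_isCharacter χ)
  rw [sum_P_split (fun x : P => (χ : G → ℂ) x)] at hm
  rw [Finset.sum_eq_zero, add_zero, Subgroup.coe_one, dg_eq] at hm
  · refine ⟨m, ?_⟩
    exact_mod_cast hm
  · intro x hx
    exact st.B.out st.hC χ h1 h2 x x.2 (fun h => (Finset.mem_erase.mp hx).1 (Subtype.ext h))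

/-- exceptional characters are rational integers on `p`-regular elements. -/
theorem Ex.int_val {ψ : IrrCharacter G} (hψ : ψ ∈ st.B.Y) (hX : ∀ χ ∈ st.B.X, dg χ ≠ dg ψ)
    (hpd : ¬ p ∣ dg ψ) {g : G} (hg : ¬ p ∣ orderOf g) : ∃ m : ℤ, (ψ : G → ℂ) g = m := by
  refine Char.exists_int_of_fixed (n := Nat.card G) Nat.card_pos.ne' _
    (Char.char_mem_closure (CharBase.irr_isCharacter ψ) g dvd_rfl) ?_
  intro k σ hk hσ
  rw [Char.map_char_eq (CharBase.irr_isCharacter ψ) g (orderOf_dvd_natCard g) σ hσ]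
  have h1 := Char.isIrrCharacter_pow ψ.2 hk
  let ψ' : IrrCharacter G := ⟨_, h1⟩
  have h2 : dg ψ' = dg ψ := by
    have h3 : (ψ' : G → ℂ) 1 = (ψ : G → ℂ) 1 := by
      change (ψ : G → ℂ) (1 ^ k) = _
      rw [one_pow]
    rw [dg_eq, dg_eq] at h3
    exact_mod_cast h3
  have h3 : ψ' ∈ st.B.Y := by
    rcases st.mem_or ψ' with h | h | h
    · exact absurd h2 (hX _ h)
    · exact h
    · rw [h2] at h
      exact absurd h hpd
  exact st.B.Y_eq h3 hψ hg

end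

end Cfsg.Agent.BT
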