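import Cfsg.Agent.BT.CaseTwo2

/-!
The case `δ₀ = -1`, `2 e + 1 = p`: degrees in the principal block.
-/

set_option autoImplicit false

open scoped ComplexConjugate

namespace Cfsg.Agent.BT

open Cfsg Subgroup Cfsg.Agent.BR
open Cfsg.Agent.CharBase (oneIrr)

universe u

section

variable {G : Type u} [Group G] [Fintype G] {p : ℕ} [hp : Fact p.Prime] {P : Subgroup G}
  (st : Ex p P)

theorem Ex.case1 (hperf : commutator G = ⊤) (hδ : st.B.δ₀ = -1)
    (hd : ∀ ψ ∈ st.B.Y, dg ψ = ind P) (he : 2 * ind P + 1 = p) :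
    (∀ χ ∈ st.Xp, dg χ = p + 1) ∧ (∀ χ ∈ st.Xm, dg χ + 1 = p) ∧
      2 * st.Xp.card + 1 = ind P ∧ st.B.Y.card = 2 ∧
      ∀ ψ ∈ st.B.Y, ∀ g : G, (ψ : G → ℂ) g * conj ((ψ : G → ℂ) g) =
        1 + ∑ χ ∈ st.Xp, (χ : G → ℂ) g := by
  classical
  have hfin : Fintype (IrrCharacter G) := Fintype.ofFinite _
  have hfP : Fintype P := Fintype.ofFinite _
  have hepos := ind_pos P
  have hcY : st.B.Y.card = 2 := by
    have h1 := st.B.cardY
    have h2 : p - 1 = 2 * ind P := by omega
    rw [h2] at h1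
    exact Nat.eq_of_mul_eq_mul_right hepos h1
  have hpe : (p : ℤ) = 2 * ind P + 1 := by omega
  have hp1 : (p : ℤ) - 1 = 2 * ind P := by omega
  have hpZ : (p : ℤ) ≠ 0 := by exact_mod_cast hp.out.ne_zero
  have hpC : (p : ℂ) ≠ 0 := by exact_mod_cast hp.out.ne_zero
  -- all `P`-fixed spaces in `Y` are trivial
  have hfY : ∀ η ∈ st.B.Y, st.fx η = 0 := by
    intro η hη
    have h1 := st.fx_Y hη
    rw [hδ, hd η hη] at h1
    have h3 : (st.fx η : ℤ) = 0 := by
      have h4 : (p : ℤ) * st.fx η = p * 0 := by rw [h1]; ring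
      exact mul_left_cancel₀ hpZ h4
    exact_mod_cast h3
  -- main claim for a pair `ψ ≠ ξ`
  have main : ∀ ψ ξ : IrrCharacter G, ψ ≠ ξ → st.B.Y = {ψ, ξ} →
      (∀ χ ∈ st.Xp, dg χ = p + 1) ∧ (∀ χ ∈ st.Xm, dg χ + 1 = p) ∧
      (∀ g : G, (ψ : G → ℂ) g * conj ((ψ : G → ℂ) g) = 1 + ∑ χ ∈ st.Xp, (χ : G → ℂ) g) := by
    intro ψ ξ hne hY
    have hψ : ψ ∈ st.B.Y := by rw [hY]; simp
    have hξ : ξ ∈ st.B.Y := by rw [hY]; simp
    obtain ⟨m, hm, hsum⟩ := CharBase.exists_mult_of_isCharacter (pr_isCharacter ψ ψ)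
    obtain ⟨m', hm', hsum'⟩ := CharBase.exists_mult_of_isCharacter (pr_isCharacter ψ ξ)
    obtain ⟨hm1, hell⟩ := st.sum_ell_pr hψ (Or.inl ⟨hδ, hd ψ hψ⟩) hm hsum
    have hX : ∀ χ ∈ st.B.X, (m χ : ℤ) - m' χ = st.B.δ χ := by
      intro χ hχ
      have h1 := st.pr_sub_X (ψ := ψ) hψ hξ hχ
      rw [hm, hm', CharBase.classInner_irr_self, CharBase.classInner_irr_of_ne hne, sub_zero,
        mul_one] at h1
      exact_mod_cast h1
    have helY : ∀ η ∈ st.B.Y, st.ell η = 2 * ind P := by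
      intro η hη
      rw [st.ell_Y hη, hfY η hη, hd η hη]
      push_cast
      ring
    have hnn : ∀ χ : IrrCharacter G, 0 ≤ (m χ : ℤ) * st.ell χ := by
      intro χ
      apply mul_nonneg (by positivity)
      by_cases h1 : χ = oneIrr G
      · rw [h1, st.ell_one]
      by_cases h2 : χ ∈ st.B.X
      · rcases st.B.sgn χ h2 with h3 | h3
        · obtain ⟨k, hk1, -, hk⟩ := st.deg_Xp hperf (st.mem_Xp.mpr ⟨h2, h1, h3⟩)
          rw [hk]
          apply mul_nonneg <;> omega
        · obtain ⟨k, hk1, -, hk⟩ := st.deg_Xm (st.mem_Xm.mpr ⟨h2, h3⟩)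
          rw [hk]
          apply mul_nonneg <;> omega
      · by_cases h3 : χ ∈ st.B.Y
        · rw [helY χ h3]; positivity
        · rw [st.ell_out h2 h3]
          apply mul_nonneg <;> omega
    have hell' : ∑ χ : IrrCharacter G, (m χ : ℤ) * st.ell χ = 0 := by
      rw [hell, hd ψ hψ, hpe]; ring
    have hz : ∀ χ : IrrCharacter G, (m χ : ℤ) * st.ell χ = 0 := fun χ =>
      (Finset.sum_eq_zero_iff_of_nonneg (fun χ _ => hnn χ)).mp hell' χ (Finset.mem_univ χ)
    have hYm : ∀ η ∈ st.B.Y, m η = 0 := by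
      intro η hη
      have h1 := hz η
      rw [helY η hη, mul_eq_zero] at h1
      rcases h1 with h1 | h1
      · exact_mod_cast h1
      · exfalso; omega
    have hOm : ∀ χ : IrrCharacter G, χ ∉ st.B.X → χ ∉ st.B.Y → m χ = 0 := by
      intro χ h2 h3
      have h1 := hz χ
      rw [st.ell_out h2 h3, mul_eq_zero, mul_eq_zero] at h1
      have h4 := st.fx_pos_out h2 h3
      rcases h1 with h1 | h1 | h1
      · exact_mod_cast h1
      · exfalso; omega
      · exfalso; omega
    have hXm : ∀ χ ∈ st.Xm, m χ = 0 := by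
      intro χ hχ
      obtain ⟨k, hk1, -, hk⟩ := st.deg_Xm hχ
      have h1 := hz χ
      rw [hk, mul_eq_zero, mul_eq_zero] at h1
      rcases h1 with h1 | h1 | h1
      · exact_mod_cast h1
      · exfalso; omega
      · exfalso; omega
    have hXp : ∀ χ ∈ st.Xp, 1 ≤ m χ ∧ dg χ = p + 1 := by
      intro χ hχ
      obtain ⟨k, hk1, hkd, hk⟩ := st.deg_Xp hperf hχ
      obtain ⟨h1, h2, h3⟩ := st.mem_Xp.mp hχ
      have h4 := hX χ h1
      rw [h3] at h4
      have h5 : 1 ≤ m χ := by omega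
      refine ⟨h5, ?_⟩
      have h6 := hz χ
      rw [hk, hp1, mul_eq_zero, mul_eq_zero] at h6
      have h7 : k = 1 := by
        rcases h6 with h6 | h6 | h6
        · exfalso; omega
        · omega
        · exfalso; omega
      rw [hkd, h7, one_mul]
    -- the sum over `P` of `ψ ξ̄` vanishes
    have hP0 : ∑ x : P, pr ψ ξ x = 0 := by
      have h1 := st.norm_Y hψ (Or.inl ⟨hδ, hd ψ hψ⟩)
      have h2 : ∑ x : P, ((ψ : G → ℂ) x * conj ((ψ : G → ℂ) x) +
          (ψ : G → ℂ) x * conj ((ξ : G → ℂ) x)) = (p : ℂ) * ind P := by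
        rw [sum_P_split (fun x : P => (ψ : G → ℂ) x * conj ((ψ : G → ℂ) x) +
          (ψ : G → ℂ) x * conj ((ξ : G → ℂ) x)),
          Finset.sum_congr rfl (g := fun x : P => -(ψ : G → ℂ) x)]
        · have h3 := st.sum_fx ψ
          rw [hfY ψ hψ, sum_P_split (fun x : P => (ψ : G → ℂ) x)] at h3
          rw [Finset.sum_neg_distrib]
          have h4 : ∑ x ∈ (Finset.univ : Finset P).erase 1, (ψ : G → ℂ) x = -(ψ : G → ℂ) 1 := by
            rw [Subgroup.coe_one] at h3
            push_cast at h3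
            linear_combination h3
          rw [h4, Subgroup.coe_one, dg_eq, dg_eq, hd ψ hψ, hd ξ hξ, Complex.conj_natCast]
          have h5 : (p : ℂ) = 2 * ind P + 1 := by exact_mod_cast hpe
          rw [h5]; ring
        · intro x hx
          have hx1 : (x : G) ≠ 1 := fun h => (Finset.mem_erase.mp hx).1 (Subtype.ext h)
          have h6 := st.sum_Y x.2 hx1
          rw [hY, Finset.sum_pair hne, hδ] at h6
          rw [← mul_add, ← map_add, h6]
          simp
      rw [Finset.sum_add_distrib, h1, hd ψ hψ] at h2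
      have h7 : ∑ x : P, (ψ : G → ℂ) x * conj ((ξ : G → ℂ) x) = 0 := by
        linear_combination h2
      exact h7
    have hP1 : ∑ χ : IrrCharacter G, m' χ * st.fx χ = 0 := by
      have h1 : ∑ x : P, pr ψ ξ x = (p : ℂ) * ((∑ χ : IrrCharacter G, m' χ * st.fx χ : ℕ) : ℂ) := by
        have h2 : ∀ x : P, pr ψ ξ x = ∑ χ : IrrCharacter G, (m' χ : ℂ) * (χ : G → ℂ) x := by
          intro x
          have h3 := congrFun hsum' (x : G)
          rw [h3, Finset.sum_apply]
          refine Finset.sum_congr rfl fun χ _ => ?_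
          rw [Pi.smul_apply, nsmul_eq_mul]
        rw [Finset.sum_congr rfl (fun x _ => h2 x), Finset.sum_comm]
        push_cast
        rw [Finset.mul_sum]
        refine Finset.sum_congr rfl fun χ _ => ?_
        rw [← Finset.mul_sum, st.sum_fx]
        ring
      rw [hP0] at h1
      have h2 := (mul_eq_zero.mp h1.symm).resolve_left hpC
      exact_mod_cast h2
    have hz' : ∀ χ : IrrCharacter G, m' χ * st.fx χ = 0 := fun χ =>
      (Finset.sum_eq_zero_iff.mp hP1) χ (Finset.mem_univ χ)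
    have hm1' : ∀ χ ∈ st.Xp, m χ = 1 := by
      intro χ hχ
      obtain ⟨h1, h2, h3⟩ := st.mem_Xp.mp hχ
      have h4 := st.fx_X h1
      rw [h3, (hXp χ hχ).2] at h4
      have h5 : (st.fx χ : ℤ) = 2 := by
        apply mul_left_cancel₀ hpZ
        rw [h4]; push_cast; ring
      have h6 := hz' χ
      have h7 : st.fx χ = 2 := by exact_mod_cast h5
      rw [h7] at h6
      have h8 := hX χ h1
      rw [h3] at h8
      omega
    refine ⟨fun χ hχ => (hXp χ hχ).2, ?_, ?_⟩
    · intro χ hχ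
      obtain ⟨h1, h3⟩ := st.mem_Xm.mp hχ
      have h8 := hX χ h1
      rw [h3, hXm χ hχ] at h8
      have h6 := hz' χ
      have h7 : m' χ = 1 := by omega
      rw [h7, one_mul] at h6
      have h4 := st.fx_X h1
      rw [h3, h6] at h4
      push_cast at h4
      omega
    · intro g
      have h3 := congrFun hsum g
      have h4 : pr ψ ψ g = (ψ : G → ℂ) g * conj ((ψ : G → ℂ) g) := rfl
      rw [← h4, h3, Finset.sum_apply, st.sum_all_split, hm1, Finset.sum_eq_zero (s := st.Xm),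
        Finset.sum_eq_zero (s := st.B.Y), Finset.sum_eq_zero (s := (st.B.X ∪ st.B.Y)ᶜ), add_zero,
        add_zero, add_zero, Pi.smul_apply, CharBase.oneIrr_apply, one_smul]
      · congr 1
        refine Finset.sum_congr rfl fun χ hχ => ?_
        rw [hm1' χ hχ, one_smul]
      · intro χ hχ
        rw [Finset.mem_compl, Finset.mem_union, not_or] at hχ
        rw [hOm χ hχ.1 hχ.2, zero_smul, Pi.zero_apply]
      · intro χ hχ
        rw [hYm χ hχ, zero_smul, Pi.zero_apply]
      · intro χ hχ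
        rw [hXm χ hχ, zero_smul, Pi.zero_apply]
  obtain ⟨ψ, ξ, hne, hY⟩ := Finset.card_eq_two.mp hcY
  obtain ⟨h1, h2, h3⟩ := main ψ ξ hne hY
  obtain ⟨-, -, h4⟩ := main ξ ψ hne.symm (by rw [hY, Finset.pair_comm])
  have hψ : ψ ∈ st.B.Y := by rw [hY]; simp
  refine ⟨h1, h2, ?_, hcY, ?_⟩
  · have h5 := h3 1
    rw [dg_eq, hd ψ hψ, Complex.conj_natCast, Finset.sum_congr rfl (g := fun _ => ((p + 1 : ℕ) : ℂ)),
      Finset.sum_const, nsmul_eq_mul] at h5
    · have h6 : ind P * ind P = 1 + st.Xp.card * (p + 1) := by exact_mod_cast h5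
      have h7 : (ind P - 1) * (ind P + 1) = (2 * st.Xp.card) * (ind P + 1) := by
        have h8 : (ind P - 1) * (ind P + 1) + 1 = ind P * ind P := by
          obtain ⟨k, hk⟩ : ∃ k, ind P = k + 1 := ⟨ind P - 1, by omega⟩
          rw [hk, Nat.add_sub_cancel]
          ring
        have h9 : p + 1 = 2 * (ind P + 1) := by omega
        rw [h9] at h6
        linarith [h6, h8]
      have h8 := Nat.eq_of_mul_eq_mul_right (by omega) h7
      omega
    · intro χ hχ
      rw [dg_eq, h1 χ hχ]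
  · intro η hη g
    rw [hY, Finset.mem_insert, Finset.mem_singleton] at hη
    rcases hη with rfl | rfl
    · exact h3 g
    · exact h4 g

end

end Cfsg.Agent.BT
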