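import Cfsg.Agent.BT.Tools
import Cfsg.Agent.H79.Count
import Cfsg.Agent.Char.FrobTI

/-!
The case `δ₀ = -1`, `2 e + 1 = p`, `|G| = p 2^d e`: then `|G| = p (p + 1) e`.
-/

set_option autoImplicit false

open scoped ComplexConjugate

namespace Cfsg.Agent.BT

open Cfsg Subgroup Cfsg.Agent.BR
open Cfsg.Agent.CharBase (oneIrr)

universe u

section

variable {G : Type u} [Group G] [Fintype G] {p : ℕ} [hp : Fact p.Prime] {P : Subgroup G}
  (st : Ex p P)

theorem normSq_eq' (z : ℂ) : z * conj z = ((Complex.normSq z : ℝ) : ℂ) := Complex.mul_conj z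

theorem Ex.case1_index [IsSimpleGroup G] (hperf : commutator G = ⊤) (hδ : st.B.δ₀ = -1)
    (hd : ∀ ψ ∈ st.B.Y, dg ψ = ind P) (he : 2 * ind P + 1 = p) {d : ℕ}
    (hG : Nat.card G = p * 2 ^ d * ind P) :
    (normalizer (P : Set G)).index = 1 + 1 * p := by
  classical
  have hfin : Fintype (IrrCharacter G) := Fintype.ofFinite _
  obtain ⟨hXp, hXm, hcard, hcY, hsq⟩ := st.case1 hperf hδ hd he
  have hp3 := st.hp3
  have he2 := two_le_ind st.hP hperf
  have hcG : (Nat.card G : ℂ) ≠ 0 := by exact_mod_cast (Nat.card_pos (α := G)).ne'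
  obtain ⟨e, hedef⟩ : ∃ e, e = ind P := ⟨_, rfl⟩
  rw [← hedef] at he hcard he2 hG
  have hodd : ¬ 2 ∣ e := by omega
  have hcop2 : e.Coprime 2 := ((Nat.prime_two.coprime_iff_not_dvd).mpr hodd).symm
  have hcopp : e.Coprime p := ((hp.out.coprime_iff_not_dvd).mpr (fun h => by
    have := Nat.le_of_dvd (by omega) h
    omega)).symm
  have hidx : (normalizer (P : Set G)).index = 2 ^ d := by
    have h1 := st.card_G
    rw [hG, ← hedef] at h1
    have h2 : (p * e) * 2 ^ d = (p * e) * (normalizer (P : Set G)).index := by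
      rw [← h1]; ring
    exact (Nat.eq_of_mul_eq_mul_left (Nat.mul_pos hp.out.pos (by omega)) h2).symm
  obtain ⟨n, hD⟩ := exists_index st.hP
  have hn1 := one_le_n st.hP hperf hD
  have hd0 : d ≠ 0 := by
    rintro rfl
    rw [pow_zero] at hidx
    rw [hidx] at hD
    have : 1 * p ≤ n * p := Nat.mul_le_mul_right _ hn1
    omega
  obtain ⟨ψ₀, hψ₀⟩ := st.exists_Y
  -- elements commuting with elements of order prime to `p`
  have hpC : ∀ g : G, ¬ p ∣ orderOf g → g ≠ 1 → ¬ p ∣ Nat.card (centralizer ({g} : Set G)) := by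
    intro g hg hg1 hdv
    obtain ⟨y, hy⟩ := exists_prime_orderOf_dvd_card' p hdv
    have hyo : orderOf (y : G) = p := by rw [Subgroup.orderOf_coe]; exact hy
    obtain ⟨c, hc⟩ := st.hP.exists_conj hyo
    have hyc := Subgroup.mem_centralizer_iff.mp y.2 g (Set.mem_singleton g)
    have hc1 : c⁻¹ * (y : G) * c ≠ 1 := by
      intro h
      have h2 : (y : G) = 1 := by
        calc (y : G) = c * (c⁻¹ * (y : G) * c) * c⁻¹ := by group
          _ = 1 := by rw [h]; group
      rw [h2, orderOf_one] at hyo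
      exact hp.out.one_lt.ne hyo
    have h3 : c⁻¹ * g * c ∈ centralizer ({c⁻¹ * (y : G) * c} : Set G) := by
      rw [Subgroup.mem_centralizer_iff]
      intro w hw
      rw [Set.mem_singleton_iff.mp hw]
      calc c⁻¹ * (y : G) * c * (c⁻¹ * g * c) = c⁻¹ * (y * g) * c := by group
        _ = c⁻¹ * (g * y) * c := by rw [hyc]
        _ = c⁻¹ * g * c * (c⁻¹ * (y : G) * c) := by group
    rw [st.hP.centralizer_eq hc hc1, st.hC] at h3
    have h4 : c⁻¹ * g * c ≠ 1 := by
      intro h
      apply hg1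
      calc g = c * (c⁻¹ * g * c) * c⁻¹ := by group
        _ = 1 := by rw [h]; group
    have h5 := st.hP.orderOf_eq h3 h4
    have h6 : orderOf (c⁻¹ * g * c) = orderOf g := by
      have : c⁻¹ * g * c = MulAut.conj c⁻¹ g := by rw [MulAut.conj_apply, inv_inv]
      rw [this, MulEquiv.orderOf_eq]
    rw [h6] at h5
    exact hg (by rw [h5])
  have hf2 : Fact (Nat.Prime 2) := ⟨Nat.prime_two⟩
  have h2G : 2 ∣ Nat.card G := by
    rw [hG]
    exact ((dvd_pow_self 2 hd0).mul_left p).mul_right _
  obtain ⟨z, hz, hzi⟩ := exists_central_elt h2G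
  have hz1 : z ≠ 1 := by
    rintro rfl
    rw [orderOf_one] at hz
    norm_num at hz
  have hzz : z * z = 1 := by
    have := pow_orderOf_eq_one z
    rwa [hz, pow_two] at this
  have hzc : z ∉ center G := by rw [center_eq_bot hperf, Subgroup.mem_bot]; exact hz1
  have hzreg : ¬ p ∣ orderOf z := by
    rw [hz]
    intro h
    have := Nat.le_of_dvd (by norm_num) h
    omega
  -- the index of `C(z)` divides `p e`
  have hzidx : (centralizer ({z} : Set G)).index ∣ p * e := by
    have h1 : (centralizer ({z} : Set G)).index ∣ 2 ^ d * (p * e) := by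
      have := Subgroup.index_dvd_card (centralizer ({z} : Set G))
      rw [hG] at this
      convert this using 1
      ring
    have h2 : ((centralizer ({z} : Set G)).index).Coprime (2 ^ d) :=
      Nat.Coprime.pow_right d ((Nat.prime_two.coprime_iff_not_dvd).mpr hzi).symm
    exact h2.dvd_of_dvd_mul_left h1
  have hzd : 2 ^ d ∣ Nat.card (centralizer ({z} : Set G)) := by
    have h1 := Subgroup.card_mul_index (centralizer ({z} : Set G))
    have h2 : 2 ^ d ∣ Nat.card (centralizer ({z} : Set G)) * (centralizer ({z} : Set G)).index := by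
      rw [h1, hG]
      exact ⟨p * e, by ring⟩
    have h3 : (2 ^ d).Coprime ((centralizer ({z} : Set G)).index) :=
      Nat.Coprime.pow_left d ((Nat.prime_two.coprime_iff_not_dvd).mpr hzi)
    exact h3.dvd_of_dvd_mul_right h2
  have hz0 : ∀ χ ∈ st.Xp, (χ : G → ℂ) z = 0 := by
    intro χ hχ
    refine eq_zero_of_coprime (fun g hg => faithful_of_simple (st.mem_Xp.mp hχ).2.1 hg) hzc ?_
    rw [hXp χ hχ]
    have h1 : (p + 1).Coprime (p * e) := by
      have h2 : p + 1 = 2 * (e + 1) := by omega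
      refine Nat.Coprime.mul_right ?_ ?_
      · exact (Nat.coprime_self_add_right (m := p) (n := 1)).mpr (Nat.coprime_one_right p) |>.symm
      · rw [h2]
        refine Nat.Coprime.mul_left hcop2.symm ?_
        exact (Nat.coprime_self_add_right (m := e) (n := 1)).mpr (Nat.coprime_one_right e) |>.symm
    exact Nat.Coprime.coprime_dvd_right hzidx h1
  obtain ⟨x, hx, hx1⟩ := exists_ne_one st.hP
  obtain ⟨r, hr, hre⟩ := Nat.exists_prime_and_dvd (show e ≠ 1 by omega)
  have hr2 : r ≠ 2 := by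
    rintro rfl
    exact hodd hre
  have hrp : r ≠ p := by
    rintro rfl
    have := Nat.le_of_dvd (by omega) hre
    omega
  -- the `r`-singular elements
  have hdefY : ∀ h : G, orderOf h = r → ∀ χ : IrrCharacter G, (dg χ = e ∨ dg χ = 2 * e) →
      (χ : G → ℂ) h = 0 := by
    intro h ho χ hχ
    obtain ⟨v, w, hw, hv⟩ := Nat.exists_eq_pow_mul_and_not_dvd (show e ≠ 0 by omega) r hr.ne_one
    refine Char.DZ.eq_zero_of_defect_zero r v hr ?_ χ.2 (dg_eq χ) ?_ h (by rw [ho])
    · intro hdv
      rw [hG, hv, pow_succ] at hdv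
      have h1 : r ^ v * r ∣ r ^ v * (p * 2 ^ d * w) := by
        convert hdv using 1; ring
      have h2 := Nat.dvd_of_mul_dvd_mul_left (Nat.pow_pos hr.pos) h1
      rcases (hr.dvd_mul).mp h2 with h3 | h3
      · rcases (hr.dvd_mul).mp h3 with h4 | h4
        · exact hrp ((Nat.prime_dvd_prime_iff_eq hr hp.out).mp h4)
        · exact hr2 ((Nat.prime_dvd_prime_iff_eq hr Nat.prime_two).mp (hr.dvd_of_dvd_pow h4))
      · exact hw h3
    · have h1 : r ^ v ∣ e := by rw [hv]; exact Dvd.intro _ rfl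
      rcases hχ with h | h <;> rw [h]
      · exact h1
      · exact h1.mul_left 2
  have hXm0 : ∀ h : G, orderOf h = r → ∀ χ ∈ st.Xm, (χ : G → ℂ) h = 0 := by
    intro h ho χ hχ
    have := hXm χ hχ
    exact hdefY h ho χ (Or.inr (by omega))
  have hY0 : ∀ h : G, orderOf h = r → ∀ χ ∈ st.B.Y, (χ : G → ℂ) h = 0 := by
    intro h ho χ hχ
    exact hdefY h ho χ (Or.inl (by rw [hd χ hχ, hedef]))
  have hreg : ∀ h : G, orderOf h = r → ¬ p ∣ orderOf h := by
    intro h ho hdv
    rw [ho] at hdv
    exact hrp ((Nat.prime_dvd_prime_iff_eq hp.out hr).mp hdv).symm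
  have hne1 : ∀ h : G, orderOf h = r → h ≠ 1 := by
    rintro h ho rfl
    rw [orderOf_one] at ho
    exact hr.one_lt.ne ho
  -- the orders of the centralizers
  have hcent : ∀ h : G, orderOf h = r → e ∣ Nat.card (centralizer ({h} : Set G)) →
      Nat.card (centralizer ({z} : Set G)) = 2 ^ d ∧
      Nat.card (centralizer ({h} : Set G)) = e := by
    intro h ho hdv
    have h1 := st.card_pairs hzreg (hreg h ho) hx hx1 hψ₀
    rw [st.sum_X_split, st.B.δ_one st.hP, dg_one, hY0 h ho ψ₀ hψ₀, CharBase.oneIrr_apply,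
      Finset.sum_eq_zero (s := st.Xp), Finset.sum_eq_zero (s := st.Xm),
      CharBase.oneIrr_apply] at h1
    · have h2 : ((Finset.univ : Finset (G × G)).filter
        (fun q => q.1 * z * q.1⁻¹ * (q.2 * h * q.2⁻¹) = x)).card = Nat.card G := by
        have h3 : (((Finset.univ : Finset (G × G)).filter
          (fun q => q.1 * z * q.1⁻¹ * (q.2 * h * q.2⁻¹) = x)).card : ℂ) = Nat.card G := by
          rw [h1]; norm_num
        exact_mod_cast h3
      have h3 := card_pairs_dvd z h x
      rw [h2] at h3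
      obtain ⟨a, ha⟩ := hzd
      obtain ⟨b, hb⟩ := hdv
      have h4 : a * b ∣ p := by
        have h5 : (2 ^ d * e) * (a * b) ∣ (2 ^ d * e) * p := by
          have h6 : Nat.card (centralizer ({z} : Set G)) * Nat.card (centralizer ({h} : Set G)) =
            (2 ^ d * e) * (a * b) := by rw [ha, hb]; ring
          rw [← h6]
          refine h3.trans (dvd_of_eq ?_)
          rw [hG]; ring
        exact Nat.dvd_of_mul_dvd_mul_left (Nat.mul_pos (by positivity) (by omega)) h5
      have h7 : ¬ p ∣ a := fun h => hpC z hzreg hz1 (by rw [ha]; exact h.mul_left _)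
      have h8 : ¬ p ∣ b := fun h' => hpC h (hreg h ho) (hne1 h ho) (by rw [hb]; exact h'.mul_left _)
      have h9 : a * b = 1 := by
        rcases (Nat.dvd_prime hp.out).mp h4 with h9 | h9
        · exact h9
        · exfalso
          rcases (hp.out.dvd_mul).mp (dvd_of_eq h9.symm) with h10 | h10
          · exact h7 h10
          · exact h8 h10
      rw [ha, hb, Nat.eq_one_of_mul_eq_one_right h9, Nat.eq_one_of_mul_eq_one_left h9]
      exact ⟨mul_one _, mul_one _⟩
    · intro χ hχ
      rw [hXm0 h ho χ hχ, mul_zero, zero_div]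
    · intro χ hχ
      rw [hz0 χ hχ, mul_zero, zero_mul, zero_div]
  obtain ⟨O, hOdef⟩ : ∃ O : Finset (IrrCharacter G), O = (st.B.X ∪ st.B.Y)ᶜ := ⟨_, rfl⟩
  -- the sum of squares outside the principal block
  have hout : ∀ h : G, orderOf h = r → e ∣ Nat.card (centralizer ({h} : Set G)) →
      ∑ χ ∈ O, Complex.normSq ((χ : G → ℂ) h) = 1 := by
    intro h ho hdv
    obtain ⟨hc1, hc2⟩ := hcent h ho hdv
    have hoi : orderOf h⁻¹ = r := by rw [orderOf_inv, ho]
    have h1 := st.card_pairs (hreg h ho) (hreg _ hoi) hx hx1 hψ₀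
    obtain ⟨A, hA⟩ : ∃ A : ℝ, A = ∑ χ ∈ st.Xp, Complex.normSq ((χ : G → ℂ) h) := ⟨_, rfl⟩
    have hA0 : 0 ≤ A := by rw [hA]; exact Finset.sum_nonneg fun _ _ => Complex.normSq_nonneg _
    have hsum : ∑ χ ∈ st.Xp, (st.B.δ χ : ℂ) * (χ : G → ℂ) h * (χ : G → ℂ) h⁻¹ / (dg χ : ℂ) =
        ((A / (p + 1) : ℝ) : ℂ) := by
      rw [hA]
      push_cast
      rw [Finset.sum_div]
      refine Finset.sum_congr rfl fun χ hχ => ?_
      rw [(st.mem_Xp.mp hχ).2.2, hXp χ hχ, CharBase.irr_inv, mul_assoc, normSq_eq']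
      push_cast
      ring
    rw [st.sum_X_split, hsum, st.B.δ_one st.hP, dg_one, hY0 h ho ψ₀ hψ₀, CharBase.oneIrr_apply,
      CharBase.oneIrr_apply, Finset.sum_eq_zero (s := st.Xm)] at h1
    swap
    · intro χ hχ
      rw [hXm0 h ho χ hχ, mul_zero, zero_mul, zero_div]
    obtain ⟨N, hN⟩ := card_pairs_dvd h h⁻¹ x
    have hci : Nat.card (centralizer ({h⁻¹} : Set G)) = e := by
      rw [← hc2]
      congr 2
      ext y
      rw [Subgroup.mem_centralizer_iff, Subgroup.mem_centralizer_iff]
      constructor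
      · intro hy w hw
        rw [Set.mem_singleton_iff.mp hw]
        have := hy h⁻¹ (Set.mem_singleton _)
        calc h * y = h * (y * h⁻¹) * h := by group
          _ = h * (h⁻¹ * y) * h := by rw [this]
          _ = y * h := by group
      · intro hy w hw
        rw [Set.mem_singleton_iff.mp hw]
        have := hy h (Set.mem_singleton _)
        calc h⁻¹ * y = h⁻¹ * (y * h) * h⁻¹ := by group
          _ = h⁻¹ * (h * y) * h⁻¹ := by rw [this]
          _ = y * h⁻¹ := by group
    rw [hc2, hci] at hN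
    rw [hN] at h1
    have hp1 : (0 : ℝ) < (p : ℝ) + 1 := by positivity
    have h2 : ((e * e * N : ℕ) : ℝ) = (Nat.card G : ℝ) * (1 + A / (p + 1)) := by
      have h3 : (((e * e * N : ℕ) : ℝ) : ℂ) = (((Nat.card G : ℝ) * (1 + A / (p + 1)) : ℝ) : ℂ) := by
        push_cast at h1 ⊢
        rw [h1]
        ring
      exact_mod_cast h3
    -- `A` is rational
    have h3 : (p : ℝ) * 2 ^ d * (p + 1 + A) = e * N * (p + 1) := by
      rw [hG] at h2
      have he0 : (e : ℝ) ≠ 0 := by
        have : e ≠ 0 := by omega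
        exact_mod_cast this
      apply mul_left_cancel₀ he0
      have h4 : (1 + A / (p + 1)) * ((p : ℝ) + 1) = p + 1 + A := by field_simp
      push_cast at h2
      calc (e : ℝ) * (p * 2 ^ d * (p + 1 + A)) = (p * 2 ^ d * e * (1 + A / (p + 1))) * (p + 1) := by
            rw [← h4]; ring
        _ = e * e * N * (p + 1) := by rw [← h2]
        _ = _ := by ring
    have hAint : ∃ a : ℤ, A = a := by
      have h4 : IsIntegral ℤ (A : ℂ) := by
        rw [hA]
        push_cast
        refine IsIntegral.sum _ fun χ _ => ?_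
        rw [← normSq_eq', ← CharBase.irr_inv]
        exact (CharBase.irr_isIntegral χ h).mul (CharBase.irr_isIntegral χ h⁻¹)
      have h5 : (A : ℂ) = (((e * N * (p + 1) : ℚ) / (p * 2 ^ d) - (p + 1) : ℚ) : ℂ) := by
        have hpd : (p : ℝ) * 2 ^ d ≠ 0 := by
          have := hp.out.pos
          positivity
        have h6 : A = (e * N * (p + 1) : ℝ) / (p * 2 ^ d) - (p + 1) := by
          rw [← h3]
          field_simp
          ring
        rw [h6]
        push_cast
        ring
      obtain ⟨a, ha⟩ := Char.FT.int_of_rat_isIntegral _ h5 h4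
      exact ⟨a, by exact_mod_cast ha⟩
    obtain ⟨a, ha⟩ := hAint
    rw [ha] at h3 hA0
    have ha0 : 0 ≤ a := by exact_mod_cast hA0
    have h4 : (p : ℤ) * 2 ^ d * (p + 1 + a) = e * N * (p + 1) := by exact_mod_cast h3
    have h5 : (e : ℤ) ∣ a + 2 := by
      have h6 : (e : ℤ) ∣ (p : ℤ) * 2 ^ d * (p + 1 + a) := by
        rw [h4]
        exact ⟨N * (p + 1), by ring⟩
      have h7 : IsCoprime (e : ℤ) ((p : ℤ) * 2 ^ d) := by
        have : e.Coprime (p * 2 ^ d) := hcopp.mul_right (hcop2.pow_right d)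
        exact_mod_cast Nat.isCoprime_iff_coprime.mpr this
      have h8 := h7.dvd_of_dvd_mul_left h6
      have h9 : (p : ℤ) + 1 + a = 2 * e + (a + 2) := by
        have : (p : ℤ) = 2 * e + 1 := by exact_mod_cast he.symm
        rw [this]; ring
      rw [h9] at h8
      have h10 := dvd_sub h8 (Dvd.intro_left (2 : ℤ) rfl : (e : ℤ) ∣ 2 * e)
      simpa using h10
    -- column orthogonality
    have h6 := CharBase.column_orthogonality_of_isConj (G := G) (IsConj.refl h)
    rw [hc2] at h6
    have h7 : ∑ χ : IrrCharacter G, Complex.normSq ((χ : G → ℂ) h) = (e : ℝ) := by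
      have h8 : ((∑ χ : IrrCharacter G, Complex.normSq ((χ : G → ℂ) h) : ℝ) : ℂ) = ((e : ℝ) : ℂ) := by
        push_cast
        rw [← h6]
        exact Finset.sum_congr rfl fun χ _ => (normSq_eq' _).symm
      exact_mod_cast h8
    rw [st.sum_all_split, Finset.sum_eq_zero (s := st.Xm), Finset.sum_eq_zero (s := st.B.Y), ← hA,
      ← hOdef, CharBase.oneIrr_apply, map_one, ha] at h7
    · have hOnn : 0 ≤ ∑ χ ∈ O, Complex.normSq ((χ : G → ℂ) h) :=
        Finset.sum_nonneg fun _ _ => Complex.normSq_nonneg _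
      have h8 : (a : ℝ) + 1 ≤ e := by linarith
      have h9 : a + 1 ≤ e := by exact_mod_cast h8
      have h10 : a + 2 = e := by
        obtain ⟨k, hk⟩ := h5
        have hk1 : k = 1 := by
          rcases lt_trichotomy k 1 with h | h | h
          · exfalso
            have : (e : ℤ) * k ≤ (e : ℤ) * 0 := mul_le_mul_of_nonneg_left (by omega) (by positivity)
            omega
          · exact h
          · exfalso
            have : (e : ℤ) * 2 ≤ (e : ℤ) * k := mul_le_mul_of_nonneg_left (by omega) (by positivity)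
            omega
        rw [hk1, mul_one] at hk
        exact hk
      have h11 : (a : ℝ) + 2 = e := by exact_mod_cast h10
      linarith
    · intro χ hχ
      rw [hY0 h ho χ hχ, map_zero]
    · intro χ hχ
      rw [hXm0 h ho χ hχ, map_zero]
  -- the Steinberg character
  obtain ⟨h, ho, hdv⟩ := st.exists_elt hr (hedef ▸ hre)
  rw [← hedef] at hdv
  have hcopG : ∀ k : ℕ, k.Coprime (Nat.card G) → ∑ χ ∈ O, Complex.normSq ((χ : G → ℂ) (h ^ k)) = 1 := by
    intro k hk
    have hk2 : (orderOf h).Coprime k := (hk.coprime_dvd_right (orderOf_dvd_natCard h)).symm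
    refine hout _ ?_ ?_
    · rw [hk2.orderOf_pow, ho]
    · refine hdv.trans (Subgroup.card_dvd_of_le ?_)
      intro y hy
      rw [Subgroup.mem_centralizer_iff] at hy ⊢
      intro w hw
      rw [Set.mem_singleton_iff.mp hw]
      have hc : Commute h y := hy h (Set.mem_singleton h)
      exact (hc.pow_left k)
  obtain ⟨S, hSO, hS1, hSu⟩ := unique_of_norm_sum hcopG
  obtain ⟨hc1, hc2⟩ := hcent h ho hdv
  have hdS := dg_pos S
  -- values
  have hsumXp : ∑ χ ∈ st.Xp, (χ : G → ℂ) h = -1 := by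
    have h1 := hsq ψ₀ hψ₀ h
    rw [hY0 h ho ψ₀ hψ₀, zero_mul] at h1
    linear_combination -h1
  have hsplitO : ∀ F : IrrCharacter G → ℂ, (∀ χ ∈ O, χ ≠ S → F χ = 0) → ∑ χ ∈ O, F χ = F S :=
    fun F hF => Finset.sum_eq_single_of_mem S hSO hF
  have hXpeq : ∀ χ ∈ st.Xp, (χ : G → ℂ) 1 * (χ : G → ℂ) h = ((p : ℂ) + 1) * (χ : G → ℂ) h := by
    intro χ hχ
    rw [dg_eq, hXp χ hχ]
    push_cast
    rfl
  have hS2 : (dg S : ℂ) * (S : G → ℂ) h = p := by
    have h1 := CharBase.sum_degree_mul (G := G) h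
    rw [if_neg (hne1 h ho), st.sum_all_split, Finset.sum_eq_zero (s := st.Xm),
      Finset.sum_eq_zero (s := st.B.Y), ← hOdef, hsplitO _ (fun χ hχ hne => by
        rw [hSu χ hχ hne, mul_zero]), dg_eq S, CharBase.oneIrr_apply, CharBase.oneIrr_apply,
      Finset.sum_congr rfl hXpeq, ← Finset.mul_sum, hsumXp] at h1
    · linear_combination h1
    · intro χ hχ
      rw [hY0 h ho χ hχ, mul_zero]
    · intro χ hχ
      rw [hXm0 h ho χ hχ, mul_zero]
  have hSdeg : dg S = p := by
    have h1 := congrArg Complex.normSq hS2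
    rw [map_mul, hS1, mul_one, Complex.normSq_natCast, Complex.normSq_natCast] at h1
    have h2 : dg S * dg S = p * p := by exact_mod_cast h1
    exact Nat.mul_self_inj.mp h2
  have hpC0 : (p : ℂ) ≠ 0 := by exact_mod_cast hp.out.ne_zero
  have hSh : (S : G → ℂ) h = 1 := by
    rw [hSdeg] at hS2
    apply mul_left_cancel₀ hpC0
    rw [hS2, mul_one]
  have hSz : (S : G → ℂ) z = -1 := by
    have hnc : ¬ IsConj z h := by
      intro hc
      obtain ⟨c, hc⟩ := isConj_iff.mp hc
      have : orderOf h = orderOf z := by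
        rw [← hc, ← MulAut.conj_apply, MulEquiv.orderOf_eq]
      rw [ho, hz] at this
      exact hr2 this
    have h1 := CharBase.column_orthogonality_of_not_isConj (G := G) hnc
    rw [st.sum_all_split, Finset.sum_eq_zero (s := st.Xm), Finset.sum_eq_zero (s := st.Xp),
      Finset.sum_eq_zero (s := st.B.Y), ← hOdef, hsplitO _ (fun χ hχ hne => by
        rw [hSu χ hχ hne, map_zero, mul_zero]), hSh, CharBase.oneIrr_apply,
      CharBase.oneIrr_apply] at h1
    · simp only [map_one, mul_one, add_zero] at h1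
      linear_combination h1
    · intro χ hχ
      rw [hY0 h ho χ hχ, map_zero, mul_zero]
    · intro χ hχ
      rw [hz0 χ hχ, zero_mul]
    · intro χ hχ
      rw [hXm0 h ho χ hχ, map_zero, mul_zero]
  -- the final count
  have hfinal : ((Finset.univ : Finset (G × G)).filter
      (fun q => q.1 * z * q.1⁻¹ * (q.2 * z * q.2⁻¹) = h⁻¹)).card = e * 2 ^ d * (p + 1) := by
    have h1 := H79.card_pairs (G := G) z z h⁻¹
    rw [inv_inv, st.sum_all_split, Finset.sum_eq_zero (s := st.Xm),
      Finset.sum_eq_zero (s := st.Xp), Finset.sum_eq_zero (s := st.B.Y), ← hOdef,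
      hsplitO _ (fun χ hχ hne => by rw [hSu χ hχ hne, mul_zero, zero_div]), hSh, hSz, dg_eq S,
      hSdeg, CharBase.oneIrr_apply, CharBase.oneIrr_apply, CharBase.oneIrr_apply, hG] at h1
    · have h2 : (((Finset.univ : Finset (G × G)).filter
        (fun q => q.1 * z * q.1⁻¹ * (q.2 * z * q.2⁻¹) = h⁻¹)).card : ℂ) =
        ((e * 2 ^ d * (p + 1) : ℕ) : ℂ) := by
        rw [h1]
        push_cast
        field_simp
        ring
      exact_mod_cast h2
    · intro χ hχ
      rw [hY0 h ho χ hχ, mul_zero, zero_div]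
    · intro χ hχ
      rw [hz0 χ hχ, zero_mul, zero_mul, zero_div]
    · intro χ hχ
      rw [hXm0 h ho χ hχ, mul_zero, zero_div]
  have hlast := card_pairs_dvd z z h⁻¹
  rw [hfinal, hc1] at hlast
  have h2 : 2 ^ d ∣ p + 1 := by
    have h3 : 2 ^ d * 2 ^ d ∣ 2 ^ d * (e * (p + 1)) := by
      convert hlast using 1; ring
    have h4 := Nat.dvd_of_mul_dvd_mul_left (by positivity) h3
    exact (hcop2.symm.pow_left d).dvd_of_dvd_mul_left h4
  have h3 := Nat.le_of_dvd (by omega) h2
  rw [hD] at hidx ⊢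
  rw [← hidx] at h3
  have h4 : n * p ≤ 1 * p := by omega
  have h5 : n ≤ 1 := Nat.le_of_mul_le_mul_right h4 hp.out.pos
  have h6 : n = 1 := by omega
  rw [h6]

end

end Cfsg.Agent.BT
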