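import Cfsg.Agent.H75.Tools
import Cfsg.Agent.H79.Linearity
import Cfsg.Agent.BR.Data
import Cfsg.Agent.Char.ClassSum

/-!
Kernels; characters of simple groups.
-/

set_option autoImplicit false

open scoped ComplexConjugate

namespace Cfsg.Agent.BT

open Cfsg Subgroup Cfsg.Agent.BR
open Cfsg.Agent.CharBase (oneIrr)

universe u

theorem exists_kernel {G : Type u} [Group G] [Finite G] (χ : IrrCharacter G) : ∃ K : Subgroup G,
    K.Normal ∧ ∀ g, g ∈ K ↔ (χ : G → ℂ) g = (χ : G → ℂ) 1 := by
  obtain ⟨n, ρ, hρ, h⟩ := χ.2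
  refine ⟨ρ.ker, inferInstance, fun g => ?_⟩
  rw [← h]
  exact (Cfsg.Agent.H75.rep_eq_char_one_iff ρ g).symm

/-- a nonprincipal irreducible character of a simple group is faithful. -/
theorem faithful_of_simple {G : Type u} [Group G] [Finite G] [IsSimpleGroup G] {χ : IrrCharacter G}
    (h1 : χ ≠ oneIrr G) {g : G} (hg : (χ : G → ℂ) g = (χ : G → ℂ) 1) : g = 1 := by
  have := Fintype.ofFinite G
  obtain ⟨K, hK, hKm⟩ := exists_kernel χ
  rcases hK.eq_bot_or_eq_top with h | h
  · rw [← Subgroup.mem_bot, ← h]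
    exact (hKm g).mpr hg
  · exfalso
    have h2 : ∀ g, (χ : G → ℂ) g = (χ : G → ℂ) 1 := fun g => (hKm g).mp (by rw [h]; trivial)
    apply h1
    by_contra hne
    have h3 := CharBase.classInner_irr_of_ne hne
    have h4 : classInner (χ : G → ℂ) ((oneIrr G : IrrCharacter G) : G → ℂ) = (χ : G → ℂ) 1 := by
      unfold classInner
      have hG : (Nat.card G : ℂ) ≠ 0 := by exact_mod_cast Nat.card_pos.ne'
      rw [Finset.sum_congr rfl (g := fun _ => (χ : G → ℂ) 1) (fun g _ => by
        rw [h2 g, CharBase.oneIrr_apply, map_one, mul_one]), Finset.sum_const, Finset.card_univ,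
        ← Nat.card_eq_fintype_card, nsmul_eq_mul, ← mul_assoc, inv_mul_cancel₀ hG, one_mul]
    rw [h4, dg_eq] at h3
    exact (dg_pos χ).ne' (by exact_mod_cast h3)

/-- a class of size coprime to the degree: the value is zero. -/
theorem eq_zero_of_coprime {G : Type u} [Group G] [Finite G] {χ : IrrCharacter G}
    (hf : ∀ g : G, (χ : G → ℂ) g = (χ : G → ℂ) 1 → g = 1) {g : G} (hg : g ∉ center G)
    (hcop : Nat.Coprime (dg χ) (centralizer ({g} : Set G)).index) : (χ : G → ℂ) g = 0 := by
  have := Fintype.ofFinite G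
  obtain ⟨n, ρ, hρ, hch, hn, hpos⟩ := H79.irr_exists_rep χ
  have h0 : Module.finrank ℂ (Fin n → ℂ) = dg χ := by
    rw [Module.finrank_fin_fun]
    exact hn.symm
  have h1 := Char.character_eq_zero_or_norm_eq ρ g (by rw [h0]; exact hcop)
  rw [hch, h0] at h1
  rcases h1 with h | h
  · exact h
  · exact absurd (H79.mem_center_of_norm_eq χ hf h) hg

end Cfsg.Agent.BT
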