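import Cfsg.Agent.BT.E2b
import Cfsg.Agent.BT.Kernel

/-!
Involutions inverting `P` (general inertial index).
-/

set_option autoImplicit false

open scoped ComplexConjugate

namespace Cfsg.Agent.BT

open Cfsg Subgroup Cfsg.Agent.BR
open Cfsg.Agent.CharBase (oneIrr)

universe u

section

variable {G : Type u} [Group G] [Fintype G] {p : ℕ} [hp : Fact p.Prime] {P : Subgroup G}
  (st : Ex p P)

include st

/-- an element inverting a nontrivial element of `P` is in `N ∖ P`. -/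
theorem Ex.mem_of_invert {g x : G} (hx : x ∈ P) (hx1 : x ≠ 1) (h : g * x * g⁻¹ = x⁻¹) :
    g ∈ normalizer (P : Set G) ∧ g ∉ P := by
  constructor
  · rw [← inv_mem_iff, ← st.hP.conj_iff hx hx1, inv_inv, h]
    exact P.inv_mem hx
  · intro hg
    rw [st.P_comm g hg x hx, mul_inv_cancel_right] at h
    have h2 : x ^ 2 = 1 := by
      rw [sq]; nth_rewrite 2 [h]; exact mul_inv_cancel x
    have h3 := orderOf_dvd_of_pow_eq_one h2
    rw [st.hP.orderOf_eq hx hx1] at h3
    have := Nat.le_of_dvd (by norm_num) h3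
    have := st.hp3
    omega

theorem Ex.invert_all {g x : G} (hx : x ∈ P) (hx1 : x ≠ 1) (h : g * x * g⁻¹ = x⁻¹) {y : G}
    (hy : y ∈ P) : g * y * g⁻¹ = y⁻¹ := by
  rw [← st.hP.zpowers_eq hx hx1] at hy
  obtain ⟨k, rfl⟩ := Subgroup.mem_zpowers_iff.mp hy
  have h1 : g * x ^ k * g⁻¹ = (g * x * g⁻¹) ^ k := by
    rw [← MulAut.conj_apply, ← MulAut.conj_apply, map_zpow]
  rw [h1, h, inv_zpow]

/-- two elements inverting `P` are conjugate. -/
theorem Ex.conj_of_invert {g h x : G} (hx : x ∈ P) (hx1 : x ≠ 1) (hg : g * x * g⁻¹ = x⁻¹)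
    (hh : h * x * h⁻¹ = x⁻¹) : IsConj g h := by
  obtain ⟨hgN, hgP⟩ := st.mem_of_invert hx hx1 hg
  obtain ⟨y, -, hy⟩ := coset_conj st.hP st.hC hgN hgP (z := h) (by
    apply mem_P_of_comm st.hP st.hC hx hx1
    have h1 : g⁻¹ * x * g = x⁻¹ := by
      have : x = g⁻¹ * (g * x * g⁻¹) * g := by group
      rw [hg] at this
      have h2 : g⁻¹ * x * g = (g⁻¹ * x⁻¹ * g)⁻¹ := by group
      rw [h2, ← this]
    have h3 : h * (g⁻¹ * x * g) * h⁻¹ = x := by
      rw [h1]
      have : h * x⁻¹ * h⁻¹ = (h * x * h⁻¹)⁻¹ := by group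
      rw [this, hh, inv_inv]
    calc x * (h * g⁻¹) = (h * (g⁻¹ * x * g) * h⁻¹) * (h * g⁻¹) := by rw [h3]
      _ = h * g⁻¹ * x := by group)
  rw [isConj_iff]
  exact ⟨y, hy.symm⟩

omit st in
/-- a product of two involutions is inverted by the first. -/
theorem invert_of_pair {a b x : G} (ha : a * a = 1) (hb : b * b = 1) (h : a * b = x) :
    a * x * a⁻¹ = x⁻¹ := by
  have hi1 : a⁻¹ = a := inv_eq_of_mul_eq_one_right ha
  have hi2 : b⁻¹ = b := inv_eq_of_mul_eq_one_right hb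
  rw [← h]
  calc a * (a * b) * a⁻¹ = (a * a) * (b * a⁻¹) := by group
    _ = b⁻¹ * a⁻¹ := by rw [ha, one_mul, hi2]
    _ = (a * b)⁻¹ := (mul_inv_rev _ _).symm

omit st in
theorem conj_sq {a u : G} (hu : u * u = 1) : a * u * a⁻¹ * (a * u * a⁻¹) = 1 := by
  calc a * u * a⁻¹ * (a * u * a⁻¹) = a * (u * u) * a⁻¹ := by group
    _ = 1 := by rw [hu]; group

/-- if the class constant does not vanish, the involution is conjugate to one inverting `x`. -/
theorem Ex.exists_invert [DecidableEq G] {u x : G} (hu : u * u = 1)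
    (h : (Finset.univ.filter (fun q : G × G =>
      q.1 * u * q.1⁻¹ * (q.2 * u * q.2⁻¹) = x)).card ≠ 0) :
    ∃ τ : G, τ * τ = 1 ∧ τ * x * τ⁻¹ = x⁻¹ ∧ IsConj u τ := by
  obtain ⟨q, hq⟩ := Finset.card_ne_zero.mp h
  rw [Finset.mem_filter] at hq
  exact ⟨q.1 * u * q.1⁻¹, conj_sq hu, invert_of_pair (conj_sq hu) (conj_sq hu) hq.2,
    isConj_iff.mpr ⟨q.1, rfl⟩⟩

/-- **the number of pairs**. -/
theorem Ex.card_inv_pairs [DecidableEq G] {τ x : G} (hττ : τ * τ = 1) (hx : x ∈ P) (hx1 : x ≠ 1)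
    (hτ : τ * x * τ⁻¹ = x⁻¹) :
    (Finset.univ.filter (fun q : G × G =>
      q.1 * τ * q.1⁻¹ * (q.2 * τ * q.2⁻¹) = x)).card =
      p * Nat.card (centralizer ({τ} : Set G)) * Nat.card (centralizer ({τ} : Set G)) := by
  classical
  set D := Nat.card (centralizer ({τ} : Set G)) with hD
  have e1 : (Finset.univ.filter (fun q : G × G =>
      q.1 * τ * q.1⁻¹ * (q.2 * τ * q.2⁻¹) = x)).card =
      ∑ a : G, (Finset.univ.filter (fun b : G => a * τ * a⁻¹ * (b * τ * b⁻¹) = x)).card := by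
    rw [Finset.card_filter, Fintype.sum_prod_type]
    refine Finset.sum_congr rfl fun a _ => ?_
    rw [Finset.card_filter]
  have e2 : ∀ a : G, (Finset.univ.filter (fun b : G => a * τ * a⁻¹ * (b * τ * b⁻¹) = x)).card =
      if a * τ * a⁻¹ * x * (a * τ * a⁻¹)⁻¹ = x⁻¹ then D else 0 := by
    intro a
    have haa : a * τ * a⁻¹ * (a * τ * a⁻¹) = 1 := conj_sq hττ
    set c := a * τ * a⁻¹ with hc0
    split_ifs with hc
    · -- `b τ b⁻¹ = c x`
      have hcx : c * x * x * (c * x)⁻¹ = x⁻¹ := by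
        calc c * x * x * (c * x)⁻¹ = c * x * c⁻¹ := by group
          _ = x⁻¹ := hc
      rw [hD, ← card_conj_to (st.conj_of_invert hx hx1 hτ hcx)]
      congr 1
      ext b
      rw [Finset.mem_filter, Finset.mem_filter]
      constructor
      · rintro ⟨-, h⟩
        refine ⟨Finset.mem_univ _, ?_⟩
        rw [← h, ← mul_assoc, haa, one_mul]
      · rintro ⟨-, h⟩
        refine ⟨Finset.mem_univ _, ?_⟩
        rw [h, ← mul_assoc, haa, one_mul]
    · rw [Finset.card_eq_zero, Finset.filter_eq_empty_iff]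
      intro b _ h
      exact hc (invert_of_pair haa (conj_sq hττ) h)
  rw [e1, Finset.sum_congr rfl (fun a _ => e2 a), ← Finset.sum_filter, Finset.sum_const,
    smul_eq_mul]
  congr 1
  -- number of `a`
  set W := Finset.univ.filter (fun w : G => w * x * w⁻¹ = x⁻¹) with hW
  have e3 : (Finset.univ.filter (fun a : G => a * τ * a⁻¹ * x * (a * τ * a⁻¹)⁻¹ = x⁻¹)).card =
      ∑ w ∈ W, (Finset.univ.filter (fun a : G => a * τ * a⁻¹ = w)).card := by
    rw [Finset.card_eq_sum_card_fiberwise (f := fun a : G => a * τ * a⁻¹) (t := W)]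
    · refine Finset.sum_congr rfl fun w hw => ?_
      congr 1
      ext a
      rw [Finset.mem_filter, Finset.mem_filter, Finset.mem_filter]
      constructor
      · rintro ⟨-, h⟩; exact ⟨Finset.mem_univ _, h⟩
      · rintro ⟨-, h⟩
        refine ⟨⟨Finset.mem_univ _, ?_⟩, h⟩
        rw [h]
        exact (Finset.mem_filter.mp hw).2
    · intro a ha
      rw [Finset.mem_coe, Finset.mem_filter] at ha
      rw [Finset.mem_coe, Finset.mem_filter]
      exact ⟨Finset.mem_univ _, ha.2⟩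
  have e4 : W.card = p := by
    rw [← st.hP.card, Nat.card_eq_fintype_card, Fintype.card_subtype]
    refine Finset.card_bij (fun w _ => τ⁻¹ * w) ?_ ?_ ?_
    · intro w hw
      rw [Finset.mem_filter] at hw ⊢
      refine ⟨Finset.mem_univ _, ?_⟩
      apply mem_P_of_comm st.hP st.hC hx hx1
      have h1 : τ⁻¹ * x⁻¹ * τ = x := by rw [← hτ]; group
      calc x * (τ⁻¹ * w) = (τ⁻¹ * x⁻¹ * τ) * (τ⁻¹ * w) := by rw [h1]
        _ = τ⁻¹ * (x⁻¹ * w) := by group
        _ = τ⁻¹ * ((w * x * w⁻¹) * w) := by rw [hw.2]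
        _ = τ⁻¹ * w * x := by group
    · intro a _ b _ hab
      exact mul_left_cancel hab
    · intro y hy
      rw [Finset.mem_filter] at hy
      refine ⟨τ * y, ?_, by group⟩
      rw [Finset.mem_filter]
      refine ⟨Finset.mem_univ _, ?_⟩
      have h1 : y * x * y⁻¹ = x := by rw [st.P_comm y hy.2 x hx, mul_inv_cancel_right]
      calc τ * y * x * (τ * y)⁻¹ = τ * (y * x * y⁻¹) * τ⁻¹ := by group
        _ = x⁻¹ := by rw [h1, hτ]
  rw [e3, Finset.sum_congr rfl (g := fun _ => D), Finset.sum_const, e4, smul_eq_mul]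
  intro w hw
  rw [Finset.mem_filter] at hw
  exact card_conj_to (st.conj_of_invert hx hx1 hτ hw.2)

end

end Cfsg.Agent.BT
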