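import Cfsg.Agent.BT.Prod
import Cfsg.Agent.BT.InvPair

/-!
The case `δ₀ = 1`, `2 e + 1 = p`.
-/

set_option autoImplicit false

open scoped ComplexConjugate

namespace Cfsg.Agent.BT

open Cfsg Subgroup Cfsg.Agent.BR
open Cfsg.Agent.CharBase (oneIrr)

universe u

section

variable {G : Type u} [Group G] [Fintype G] {p : ℕ} [hp : Fact p.Prime] {P : Subgroup G}
  (st : Ex p P)

open Classical in
/-- positive nonprincipal. -/
noncomputable def Ex.Xp : Finset (IrrCharacter G) :=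
  st.B.X.filter (fun χ => χ ≠ oneIrr G ∧ st.B.δ χ = 1)

open Classical in
/-- negative. -/
noncomputable def Ex.Xm : Finset (IrrCharacter G) := st.B.X.filter (fun χ => st.B.δ χ = -1)

theorem Ex.mem_Xp {χ : IrrCharacter G} :
    χ ∈ st.Xp ↔ χ ∈ st.B.X ∧ χ ≠ oneIrr G ∧ st.B.δ χ = 1 := by
  unfold Ex.Xp
  rw [Finset.mem_filter]

theorem Ex.mem_Xm {χ : IrrCharacter G} : χ ∈ st.Xm ↔ χ ∈ st.B.X ∧ st.B.δ χ = -1 := by
  unfold Ex.Xm
  rw [Finset.mem_filter]

theorem Ex.sum_X_split {R : Type*} [AddCommMonoid R] (F : IrrCharacter G → R) :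
    ∑ χ ∈ st.B.X, F χ = F (oneIrr G) + (∑ χ ∈ st.Xp, F χ + ∑ χ ∈ st.Xm, F χ) := by
  classical
  have hd : Disjoint st.Xp st.Xm := by
    rw [Finset.disjoint_left]
    intro χ h1 h2
    rw [st.mem_Xp] at h1
    rw [st.mem_Xm] at h2
    rw [h1.2.2] at h2
    norm_num at h2
  have h1 : st.B.X = insert (oneIrr G) (st.Xp ∪ st.Xm) := by
    ext χ
    rw [Finset.mem_insert, Finset.mem_union, st.mem_Xp, st.mem_Xm]
    constructor
    · intro h
      by_cases h1 : χ = oneIrr G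
      · exact Or.inl h1
      · right
        rcases st.B.sgn χ h with h2 | h2
        · exact Or.inl ⟨h, h1, h2⟩
        · exact Or.inr ⟨h, h2⟩
    · rintro (h | h | h)
      · rw [h]; exact st.B.one_mem
      · exact h.1
      · exact h.1
  have h2 : oneIrr G ∉ st.Xp ∪ st.Xm := by
    rw [Finset.mem_union, st.mem_Xp, st.mem_Xm]
    rintro (h | h)
    · exact h.2.1 rfl
    · have := h.2
      rw [st.B.δ_one st.hP] at this
      norm_num at this
  rw [h1, Finset.sum_insert h2, Finset.sum_union hd]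

theorem Ex.card_X_split : st.Xp.card + st.Xm.card + 1 = ind P := by
  have h1 := st.sum_X_split (fun _ => 1)
  rw [Finset.sum_const, Finset.sum_const, Finset.sum_const, st.B.cardX] at h1
  simp only [smul_eq_mul, mul_one] at h1
  omega

open Classical in
theorem Ex.sum_all_split {R : Type*} [AddCommMonoid R] [Fintype (IrrCharacter G)]
    (F : IrrCharacter G → R) :
    ∑ χ : IrrCharacter G, F χ = F (oneIrr G) + (∑ χ ∈ st.Xp, F χ + ∑ χ ∈ st.Xm, F χ) +
      ∑ χ ∈ st.B.Y, F χ + ∑ χ ∈ (st.B.X ∪ st.B.Y)ᶜ, F χ := by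
  rw [← Finset.sum_add_sum_compl (st.B.X ∪ st.B.Y) F, Finset.sum_union st.B.disj,
    st.sum_X_split]

/-- degree of a positive nonexceptional character. -/
theorem Ex.deg_Xp (hperf : commutator G = ⊤) {χ : IrrCharacter G} (hχ : χ ∈ st.Xp) :
    ∃ k : ℕ, 1 ≤ k ∧ dg χ = k * p + 1 ∧ st.ell χ = (k - 1) * (p - 1) := by
  obtain ⟨h1, h2, h3⟩ := st.mem_Xp.mp hχ
  obtain ⟨k, hk⟩ := st.B.congr_X st.hP h1
  rw [h3] at hk
  have hpos := dg_pos χ
  have hne : dg χ ≠ 1 := fun h => h2 (eq_one_of_perfect hperf h)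
  have hp0 : (0 : ℤ) < p := by exact_mod_cast hp.out.pos
  have hk1 : 1 ≤ k := by
    by_contra hlt
    have : k ≤ 0 := by omega
    have h4 : (p : ℤ) * k ≤ 0 := by nlinarith
    omega
  lift k to ℕ using by omega
  refine ⟨k, by omega, ?_, ?_⟩
  · have : (dg χ : ℤ) = k * p + 1 := by linarith
    exact_mod_cast this
  · have h5 := st.ell_X h1 h2 (k := k) (by rw [h3]; linarith)
    rw [h5, h3]

/-- degree of a negative nonexceptional character. -/
theorem Ex.deg_Xm {χ : IrrCharacter G} (hχ : χ ∈ st.Xm) :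
    ∃ k : ℕ, 1 ≤ k ∧ dg χ + 1 = k * p ∧ st.ell χ = (k + 1) * (p - 1) := by
  obtain ⟨h1, h3⟩ := st.mem_Xm.mp hχ
  have h2 : χ ≠ oneIrr G := by
    rintro rfl
    rw [st.B.δ_one st.hP] at h3
    norm_num at h3
  obtain ⟨k, hk⟩ := st.B.congr_X st.hP h1
  rw [h3] at hk
  have hpos := dg_pos χ
  have hp0 : (0 : ℤ) < p := by exact_mod_cast hp.out.pos
  have hk1 : 1 ≤ k := by
    by_contra hlt
    have : k ≤ 0 := by omega
    have h4 : (p : ℤ) * k ≤ 0 := by nlinarith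
    omega
  lift k to ℕ using by omega
  refine ⟨k, by omega, ?_, ?_⟩
  · have : (dg χ : ℤ) + 1 = k * p := by linarith
    exact_mod_cast this
  · have h5 := st.ell_X h1 h2 (k := k) (by rw [h3]; linarith)
    rw [h5, h3]
    ring

theorem Ex.case2 (hperf : commutator G = ⊤) (hδ : st.B.δ₀ = 1)
    (hd : ∀ ψ ∈ st.B.Y, dg ψ + ind P = p) (he : 2 * ind P + 1 = p)
    (hev : ∀ χ ∈ st.B.X, χ ≠ oneIrr G → 2 ∣ dg χ) (he2 : 2 ∣ ind P) :
    (∀ χ ∈ st.Xp, dg χ = p + 1) ∧ (∀ χ ∈ st.Xm, dg χ + 1 = p) ∧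
      2 * st.Xp.card + 2 = ind P ∧ st.B.Y.card = 2 := by
  classical
  have hfin : Fintype (IrrCharacter G) := Fintype.ofFinite _
  have hepos := ind_pos P
  have hcY : st.B.Y.card = 2 := by
    have h1 := st.B.cardY
    have h2 : p - 1 = 2 * ind P := by omega
    rw [h2] at h1
    exact Nat.eq_of_mul_eq_mul_right hepos h1
  obtain ⟨ψ, ξ, hne, hY⟩ := Finset.card_eq_two.mp hcY
  have hψ : ψ ∈ st.B.Y := by rw [hY]; simp
  have hξ : ξ ∈ st.B.Y := by rw [hY]; simp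
  obtain ⟨m, hm, hsum⟩ := CharBase.exists_mult_of_isCharacter (pr_isCharacter ψ ψ)
  obtain ⟨m', hm', -⟩ := CharBase.exists_mult_of_isCharacter (pr_isCharacter ψ ξ)
  obtain ⟨hm1, hell⟩ := st.sum_ell_pr hψ (Or.inr ⟨hδ, hd ψ hψ⟩) hm hsum
  set e := ind P with he0
  have hdψ : (dg ψ : ℤ) = e + 1 := by have := hd ψ hψ; omega
  have hpe : (p : ℤ) = 2 * e + 1 := by omega
  have he1 : (1 : ℤ) ≤ e := by omega
  -- multiplicities on `X`
  have hX : ∀ χ ∈ st.B.X, (m χ : ℤ) - m' χ = st.B.δ χ := by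
    intro χ hχ
    have h1 := st.pr_sub_X (ψ := ψ) hψ hξ hχ
    rw [hm, hm', CharBase.classInner_irr_self, CharBase.classInner_irr_of_ne hne, sub_zero,
      mul_one] at h1
    exact_mod_cast h1
  have hfY : ∀ η ∈ st.B.Y, st.ell η = 0 := by
    intro η hη
    rw [st.ell_Y hη]
    have h1 := st.fx_Y hη
    have h2 := hd η hη
    rw [hδ, one_mul] at h1
    have h3 : (st.fx η : ℤ) = 1 := by
      have h4 : (p : ℤ) * st.fx η = p * 1 := by
        rw [h1, mul_one]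
        exact_mod_cast h2
      exact mul_left_cancel₀ (by exact_mod_cast hp.out.ne_zero) h4
    rw [h3]
    have h5 : (dg η : ℤ) = e + 1 := by omega
    rw [h5, hpe]
    ring
  have hnn : ∀ χ : IrrCharacter G, 0 ≤ (m χ : ℤ) * st.ell χ := by
    intro χ
    apply mul_nonneg (by positivity)
    by_cases h1 : χ = oneIrr G
    · rw [h1, st.ell_one]
    by_cases h2 : χ ∈ st.B.X
    · rcases st.B.sgn χ h2 with h3 | h3
      · obtain ⟨k, hk1, -, hk⟩ := st.deg_Xp hperf (st.mem_Xp.mpr ⟨h2, h1, h3⟩)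
        rw [hk]
        apply mul_nonneg <;> omega
      · obtain ⟨k, hk1, -, hk⟩ := st.deg_Xm (st.mem_Xm.mpr ⟨h2, h3⟩)
        rw [hk]
        apply mul_nonneg <;> omega
    · by_cases h3 : χ ∈ st.B.Y
      · rw [hfY χ h3]
      · rw [st.ell_out h2 h3]
        apply mul_nonneg <;> omega
  have hell' : ∑ χ : IrrCharacter G, (m χ : ℤ) * st.ell χ = 2 * e := by
    rw [hell, hdψ, hpe]; ring
  have hle : ∀ χ : IrrCharacter G, (m χ : ℤ) * st.ell χ ≤ 2 * e := by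
    intro χ
    rw [← hell']
    exact Finset.single_le_sum (fun χ _ => hnn χ) (Finset.mem_univ χ)
  have hp1 : (p : ℤ) - 1 = 2 * e := by omega
  have hXm : ∀ χ ∈ st.Xm, m χ = 0 := by
    intro χ hχ
    obtain ⟨k, hk1, -, hk⟩ := st.deg_Xm hχ
    have h1 := hle χ
    rw [hk, hp1] at h1
    by_contra h0
    have h2 : (1 : ℤ) ≤ m χ := by omega
    have h3 : (1 : ℤ) ≤ k := by exact_mod_cast hk1
    have h4 : (1 : ℤ) * ((1 + 1) * (2 * e)) ≤ m χ * ((k + 1) * (2 * e)) :=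
      mul_le_mul h2 (mul_le_mul_of_nonneg_right (by omega) (by omega)) (by positivity)
        (by positivity)
    omega
  have hXp : ∀ χ ∈ st.Xp, 1 ≤ m χ ∧ dg χ = p + 1 := by
    intro χ hχ
    obtain ⟨k, hk1, hkd, hk⟩ := st.deg_Xp hperf hχ
    obtain ⟨h1, h2, h3⟩ := st.mem_Xp.mp hχ
    have h4 := hX χ h1
    rw [h3] at h4
    have h5 : 1 ≤ m χ := by omega
    refine ⟨h5, ?_⟩
    have h6 := hle χ
    rw [hk, hp1] at h6
    have h7 : (k : ℤ) ≤ 2 := by
      by_contra hlt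
      have h8 : (2 : ℤ) ≤ k - 1 := by omega
      have h9 : (1 : ℤ) * (2 * (2 * e)) ≤ m χ * ((k - 1) * (2 * e)) :=
        mul_le_mul (by exact_mod_cast h5) (mul_le_mul_of_nonneg_right h8 (by omega)) (by positivity)
          (by positivity)
      omega
    have h8 : k = 1 ∨ k = 2 := by omega
    rcases h8 with h8 | h8
    · rw [hkd, h8, one_mul]
    · exfalso
      have h9 := hev χ h1 h2
      rw [hkd, h8] at h9
      omega
  -- defect zero part
  have hsplit := st.sum_all_split (fun χ => (m χ : ℤ) * st.ell χ)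
  have hz1 : ∑ χ ∈ st.Xp, (m χ : ℤ) * st.ell χ = 0 := by
    refine Finset.sum_eq_zero fun χ hχ => ?_
    obtain ⟨k, hk1, hkd, hk⟩ := st.deg_Xp hperf hχ
    have h1 := (hXp χ hχ).2
    rw [hkd] at h1
    have h2 : k * p = 1 * p := by omega
    have h3 := Nat.eq_of_mul_eq_mul_right hp.out.pos h2
    rw [hk, h3]
    push_cast
    ring
  have hz2 : ∑ χ ∈ st.Xm, (m χ : ℤ) * st.ell χ = 0 := by
    refine Finset.sum_eq_zero fun χ hχ => ?_
    rw [hXm χ hχ]; push_cast; ring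
  have hz3 : ∑ χ ∈ st.B.Y, (m χ : ℤ) * st.ell χ = 0 := by
    refine Finset.sum_eq_zero fun χ hχ => ?_
    rw [hfY χ hχ]; ring
  rw [hell', hz1, hz2, hz3, st.ell_one, mul_zero, add_zero, add_zero, add_zero, zero_add] at hsplit
  have hout : ∑ χ ∈ (st.B.X ∪ st.B.Y)ᶜ, (m χ : ℤ) * dg χ = p := by
    have h1 : (2 * (e : ℤ)) * ∑ χ ∈ (st.B.X ∪ st.B.Y)ᶜ, (m χ : ℤ) * dg χ = (2 * e) * p := by
      rw [Finset.mul_sum]
      have h2 : ∀ χ ∈ (st.B.X ∪ st.B.Y)ᶜ, (2 * (e : ℤ)) * ((m χ : ℤ) * dg χ) =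
          (p : ℤ) * ((m χ : ℤ) * st.ell χ) := by
        intro χ hχ
        rw [Finset.mem_compl, Finset.mem_union, not_or] at hχ
        rw [st.ell_out hχ.1 hχ.2, ← st.fx_out hχ.1 hχ.2, hp1]
        push_cast
        ring
      rw [Finset.sum_congr rfl h2, ← Finset.mul_sum, ← hsplit]
      ring
    exact mul_left_cancel₀ (by omega) h1
  -- degrees
  have hdeg : ∑ χ : IrrCharacter G, (m χ : ℤ) * dg χ = (e + 1) * (e + 1) := by
    have h1 := congrFun hsum 1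
    rw [Finset.sum_apply, pr_one] at h1
    have h2 : ((∑ χ : IrrCharacter G, (m χ : ℤ) * dg χ : ℤ) : ℂ) = (((dg ψ : ℤ) * dg ψ : ℤ) : ℂ) := by
      push_cast at h1 ⊢
      rw [h1]
      refine Finset.sum_congr rfl fun χ _ => ?_
      rw [Pi.smul_apply, dg_eq, nsmul_eq_mul]
    rw [← hdψ]
    exact_mod_cast h2
  rw [st.sum_all_split (fun χ => (m χ : ℤ) * dg χ), hout, hm1, dg_one] at hdeg
  set A := ∑ χ ∈ st.Xp, (m χ : ℤ) with hA
  set b := ∑ χ ∈ st.B.Y, (m χ : ℤ) with hb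
  have hd1 : ∑ χ ∈ st.Xp, (m χ : ℤ) * dg χ = A * (p + 1) := by
    rw [hA, Finset.sum_mul]
    refine Finset.sum_congr rfl fun χ hχ => ?_
    rw [(hXp χ hχ).2]; push_cast; ring
  have hd2 : ∑ χ ∈ st.Xm, (m χ : ℤ) * dg χ = 0 := by
    refine Finset.sum_eq_zero fun χ hχ => ?_
    rw [hXm χ hχ]; push_cast; ring
  have hd3 : ∑ χ ∈ st.B.Y, (m χ : ℤ) * dg χ = b * (e + 1) := by
    rw [hb, Finset.sum_mul]
    refine Finset.sum_congr rfl fun χ hχ => ?_
    have : (dg χ : ℤ) = e + 1 := by have := hd χ hχ; omega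
    rw [this]
  rw [hd1, hd2, hd3, hpe] at hdeg
  have hbA : b + 2 * A + 1 = e := by
    have h1 : ((e : ℤ) + 1) * (b + 2 * A + 2) = (e + 1) * (e + 1) := by
      rw [← hdeg]; push_cast; ring
    have h2 := mul_left_cancel₀ (by omega) h1
    omega
  have hb0 : 0 ≤ b := Finset.sum_nonneg fun χ _ => by positivity
  have hAs : (st.Xp.card : ℤ) ≤ A := by
    rw [hA, Finset.card_eq_sum_ones]
    push_cast
    exact Finset.sum_le_sum fun χ hχ => by exact_mod_cast (hXp χ hχ).1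
  have hs1 : 2 * (st.Xp.card : ℤ) + 2 ≤ e := by
    obtain ⟨c, hc⟩ := he2
    omega
  have hcX := st.card_X_split
  -- the degree relation
  have hrel := st.B.degEq hψ
  rw [st.sum_X_split (fun χ => st.B.δ χ * (dg χ : ℤ)), st.B.δ_one st.hP, dg_one, hδ, hdψ] at hrel
  have hr1 : ∑ χ ∈ st.Xp, st.B.δ χ * (dg χ : ℤ) = st.Xp.card * (p + 1) := by
    rw [Finset.sum_congr rfl (g := fun _ => ((p : ℤ) + 1)), Finset.sum_const, nsmul_eq_mul]
    intro χ hχ
    rw [(hXp χ hχ).2, (st.mem_Xp.mp hχ).2.2]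
    push_cast; ring
  have hr2 : ∑ χ ∈ st.Xm, st.B.δ χ * (dg χ : ℤ) = - ∑ χ ∈ st.Xm, (dg χ : ℤ) := by
    rw [← Finset.sum_neg_distrib]
    refine Finset.sum_congr rfl fun χ hχ => ?_
    rw [(st.mem_Xm.mp hχ).2]; ring
  rw [hr1, hr2] at hrel
  have hge : ∀ χ ∈ st.Xm, 0 ≤ (dg χ : ℤ) - (p - 1) := by
    intro χ hχ
    obtain ⟨k, hk1, hkd, -⟩ := st.deg_Xm hχ
    have h1 : 1 * p ≤ k * p := Nat.mul_le_mul_right p hk1
    omega
  have hsm : ∑ χ ∈ st.Xm, ((dg χ : ℤ) - (p - 1)) =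
      ∑ χ ∈ st.Xm, (dg χ : ℤ) - st.Xm.card * (p - 1) := by
    rw [Finset.sum_sub_distrib, Finset.sum_const, nsmul_eq_mul]
  have hsm0 : 0 ≤ ∑ χ ∈ st.Xm, ((dg χ : ℤ) - (p - 1)) := Finset.sum_nonneg hge
  have hzz := Finset.sum_eq_zero_iff_of_nonneg hge
  generalize ∑ χ ∈ st.Xm, ((dg χ : ℤ) - (p - 1)) = T at hsm hsm0 hzz
  set S := ∑ χ ∈ st.Xm, (dg χ : ℤ) with hS
  have hcm : (st.Xm.card : ℤ) = e - 1 - st.Xp.card := by omega
  rw [hcm, hpe] at hsm
  rw [hpe] at hrel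
  set s := (st.Xp.card : ℤ) with hs
  have hs2 : e = 2 * s + 2 := by
    have h1 : S = e + 2 + s * (2 * e + 2) := by push_cast at hrel; linarith
    rw [h1] at hsm
    have h2 : 0 ≤ (2 * (e : ℤ) + 1) * (2 * s + 2 - e) := by
      have : (2 * (e : ℤ) + 1) * (2 * s + 2 - e) =
        e + 2 + s * (2 * e + 2) - (e - 1 - s) * (2 * e + 1 - 1) := by ring
      rw [this, ← hsm]
      exact hsm0
    have h3 : 0 ≤ 2 * s + 2 - e := by
      by_contra hlt
      have : (2 * (e : ℤ) + 1) * (2 * s + 2 - e) < 0 := mul_neg_of_pos_of_neg (by omega) (by omega)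
      omega
    omega
  have hzero : T = 0 := by
    have h1 : S = e + 2 + s * (2 * e + 2) := by push_cast at hrel; linarith
    rw [hsm, h1, hs2]
    ring
  refine ⟨fun χ hχ => (hXp χ hχ).2, ?_, by omega, hcY⟩
  intro χ hχ
  have h1 := hzz.mp hzero χ hχ
  omega

end

end Cfsg.Agent.BT
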