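import Cfsg.Agent.BT.CaseTwo
import Cfsg.Agent.BR.Rows2

/-!
The case `δ₀ = 1`, `2 e + 1 = p`, `e = 2^a`, `|G| = p 2^b (e + 1)`.
-/

set_option autoImplicit false

open scoped ComplexConjugate

namespace Cfsg.Agent.BT

open Cfsg Subgroup Cfsg.Agent.BR
open Cfsg.Agent.CharBase (oneIrr)

universe u

section

variable {G : Type u} [Group G] [Finite G]

/-- a central element of a Sylow subgroup. -/
theorem exists_central_elt {q : ℕ} [hq : Fact q.Prime] (hqG : q ∣ Nat.card G) :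
    ∃ z : G, orderOf z = q ∧ ¬ q ∣ (centralizer ({z} : Set G)).index := by
  obtain ⟨S⟩ : Nonempty (Sylow q G) := inferInstance
  have hnt : Nontrivial S := by
    rw [← Finite.one_lt_card_iff_nontrivial]
    have h2 := Sylow.dvd_card_of_dvd_card S hqG
    exact hq.out.one_lt.trans_le (Nat.le_of_dvd Nat.card_pos h2)
  have hcn : Nontrivial (center S) := S.2.center_nontrivial
  have h2c : q ∣ Nat.card (center S) := by
    have hpc : IsPGroup q (center S) := S.2.to_subgroup _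
    obtain ⟨c, hc⟩ := (IsPGroup.iff_card (p := q)).mp hpc
    have : 1 < Nat.card (center S) := Finite.one_lt_card
    rw [hc] at this ⊢
    exact dvd_pow_self q (by rintro rfl; simp at this)
  obtain ⟨z, hz⟩ := exists_prime_orderOf_dvd_card' q h2c
  refine ⟨((z : S) : G), ?_, ?_⟩
  · rw [Subgroup.orderOf_coe, Subgroup.orderOf_coe]; exact hz
  · intro h
    have hle : (S : Subgroup G) ≤ centralizer ({((z : S) : G)} : Set G) := by
      intro s hs
      rw [Subgroup.mem_centralizer_iff]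
      intro y hy
      rw [Set.mem_singleton_iff.mp hy]
      have := Subgroup.mem_center_iff.mp z.2 ⟨s, hs⟩
      exact (congrArg Subtype.val this).symm
    exact S.not_dvd_index (h.trans (Subgroup.index_dvd_of_le hle))

theorem center_eq_bot [IsSimpleGroup G] (hperf : commutator G = ⊤) : center G = ⊥ := by
  rcases (inferInstance : (center G).Normal).eq_bot_or_eq_top with h | h
  · exact h
  · exfalso
    have h1 : commutator G = ⊥ := by
      rw [eq_bot_iff, _root_.commutator_def, Subgroup.commutator_le]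
      intro a _ b _
      rw [Subgroup.mem_bot, commutatorElement_eq_one_iff_mul_comm]
      have : a ∈ center G := by rw [h]; trivial
      exact (Subgroup.mem_center_iff.mp this b).symm
    rw [h1] at hperf
    exact bot_ne_top hperf

/-- values at involutions are real. -/
theorem sq_real [Fintype G] {χ : IrrCharacter G} {z : G} (hz : z * z = 1) :
    (χ : G → ℂ) z * (χ : G → ℂ) z = ((‖(χ : G → ℂ) z‖ ^ 2 : ℝ) : ℂ) := by
  have h1 : z⁻¹ = z := inv_eq_of_mul_eq_one_right hz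
  have h2 := CharBase.irr_inv χ z
  rw [h1] at h2
  nth_rewrite 2 [h2]
  rw [Complex.mul_conj, Complex.normSq_eq_norm_sq]

end

section

variable {G : Type u} [Group G] [Fintype G] {p : ℕ} [hp : Fact p.Prime] {P : Subgroup G}
  (st : Ex p P)

theorem Ex.case2_index [IsSimpleGroup G] (hperf : commutator G = ⊤) (hδ : st.B.δ₀ = 1)
    (hd : ∀ ψ ∈ st.B.Y, dg ψ + ind P = p) (he : 2 * ind P + 1 = p)
    (hev : ∀ χ ∈ st.B.X, χ ≠ oneIrr G → 2 ∣ dg χ) {a b : ℕ} (ha : a ≠ 0) (hea : ind P = 2 ^ a)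
    (hG : Nat.card G = p * 2 ^ b * (ind P + 1)) :
    (normalizer (P : Set G)).index = 1 + 1 * p := by
  classical
  have := Fintype.ofFinite (IrrCharacter G)
  have := Fintype.ofFinite P
  have he2 : 2 ∣ ind P := by rw [hea]; exact dvd_pow_self 2 ha
  obtain ⟨hXp, hXm, hs, hcY⟩ := st.case2 hperf hδ hd he hev he2
  have hf2 : Fact (Nat.Prime 2) := ⟨Nat.prime_two⟩
  have h2G : 2 ∣ Nat.card G := by
    rw [st.card_G]
    exact (he2.mul_left p).mul_right _
  obtain ⟨z, hz, hzi⟩ := exists_central_elt h2G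
  have hz1 : z ≠ 1 := by
    rintro rfl
    rw [orderOf_one] at hz
    norm_num at hz
  have hzz : z * z = 1 := by
    have := pow_orderOf_eq_one z
    rwa [hz, pow_two] at this
  have hzc : z ∉ center G := by rw [center_eq_bot hperf, Subgroup.mem_bot]; exact hz1
  have hreg : ¬ p ∣ orderOf z := by
    rw [hz]
    intro h
    have := Nat.le_of_dvd (by norm_num) h
    have := st.hp3
    omega
  have hm0 : ∀ χ ∈ st.Xm, (χ : G → ℂ) z = 0 := by
    intro χ hχ
    obtain ⟨h1, h2⟩ := st.mem_Xm.mp hχ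
    have h3 : χ ≠ oneIrr G := by
      rintro rfl
      rw [st.B.δ_one st.hP] at h2
      norm_num at h2
    refine eq_zero_of_coprime (fun g hg => faithful_of_simple h3 hg) hzc ?_
    have h4 : dg χ = 2 ^ (a + 1) := by
      have := hXm χ hχ
      rw [pow_succ, ← hea]
      omega
    rw [h4]
    exact Nat.Coprime.pow_left _ ((Nat.prime_two.coprime_iff_not_dvd).mpr hzi)
  obtain ⟨x, hx, hx1⟩ := exists_ne_one st.hP
  obtain ⟨ψ, hψ⟩ := st.exists_Y
  have hdψ : dg ψ = ind P + 1 := by have := hd ψ hψ; omega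
  -- the class constant
  have hR : ∀ g : G, IsConj z g → g * g = 1 →
      (((Finset.univ : Finset (G × G)).filter
        (fun q => q.1 * g * q.1⁻¹ * (q.2 * g * q.2⁻¹) = x)).card : ℝ) =
      (Nat.card G : ℝ) * (1 + (∑ χ ∈ st.Xp, ‖(χ : G → ℂ) g‖ ^ 2) / (p + 1) +
        ‖(ψ : G → ℂ) g‖ ^ 2 / (ind P + 1)) := by
    intro g hg hgg
    obtain ⟨c, hc⟩ := isConj_iff.mp hg
    have hval : ∀ χ : IrrCharacter G, (χ : G → ℂ) g = (χ : G → ℂ) z := by
      intro χ
      rw [← hc]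
      exact CharBase.irr_isClassFunction χ z c
    have hgo : orderOf g = orderOf z := by
      rw [← hc, ← MulAut.conj_apply, MulEquiv.orderOf_eq]
    have hreg' : ¬ p ∣ orderOf g := by rw [hgo]; exact hreg
    have h1 := st.card_pairs hreg' hreg' hx hx1 hψ
    rw [st.sum_X_split, st.B.δ_one st.hP, hδ, dg_one] at h1
    have e1 : ∑ χ ∈ st.Xp, (st.B.δ χ : ℂ) * (χ : G → ℂ) g * (χ : G → ℂ) g / (dg χ : ℂ) =
        (((∑ χ ∈ st.Xp, ‖(χ : G → ℂ) g‖ ^ 2) / (p + 1) : ℝ) : ℂ) := by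
      push_cast
      rw [Finset.sum_div]
      refine Finset.sum_congr rfl fun χ hχ => ?_
      rw [(st.mem_Xp.mp hχ).2.2, hXp χ hχ, mul_assoc, sq_real hgg]
      push_cast
      ring
    have e2 : ∑ χ ∈ st.Xm, (st.B.δ χ : ℂ) * (χ : G → ℂ) g * (χ : G → ℂ) g / (dg χ : ℂ) = 0 := by
      refine Finset.sum_eq_zero fun χ hχ => ?_
      rw [hval χ, hm0 χ hχ]
      simp
    have e3 : ((1 : ℤ) : ℂ) * (ψ : G → ℂ) g * (ψ : G → ℂ) g / (dg ψ : ℂ) =
        ((‖(ψ : G → ℂ) g‖ ^ 2 / (ind P + 1) : ℝ) : ℂ) := by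
      rw [mul_assoc, sq_real hgg, hdψ]
      push_cast
      ring
    rw [e1, e2, e3, CharBase.oneIrr_apply] at h1
    have h2 : ((((Finset.univ : Finset (G × G)).filter
        (fun q => q.1 * g * q.1⁻¹ * (q.2 * g * q.2⁻¹) = x)).card : ℝ) : ℂ) =
        (((Nat.card G : ℝ) * (1 + (∑ χ ∈ st.Xp, ‖(χ : G → ℂ) g‖ ^ 2) / (p + 1) +
        ‖(ψ : G → ℂ) g‖ ^ 2 / (ind P + 1)) : ℝ) : ℂ) := by
      push_cast at h1 ⊢
      rw [h1]
      ring
    exact_mod_cast h2
  have hGpos : (0 : ℝ) < Nat.card G := by exact_mod_cast Nat.card_pos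
  -- an involution inverting `x`
  have hne : ((Finset.univ : Finset (G × G)).filter
        (fun q => q.1 * z * q.1⁻¹ * (q.2 * z * q.2⁻¹) = x)).card ≠ 0 := by
    intro h0
    have h1 := hR z (IsConj.refl z) hzz
    rw [h0, Nat.cast_zero] at h1
    have h2 : (0 : ℝ) < 1 + (∑ χ ∈ st.Xp, ‖(χ : G → ℂ) z‖ ^ 2) / (p + 1) +
        ‖(ψ : G → ℂ) z‖ ^ 2 / (ind P + 1) := by positivity
    have h3 := mul_pos hGpos h2
    rw [← h1] at h3
    exact lt_irrefl _ h3
  obtain ⟨τ, hττ, hτx, hzτ⟩ := st.exists_invert hzz hne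
  have h1 := hR τ hzτ hττ
  rw [st.card_inv_pairs hττ hx hx1 hτx] at h1
  obtain ⟨hτN, hτP⟩ := st.mem_of_invert hx hx1 hτx
  set D := Nat.card (centralizer ({τ} : Set G)) with hD
  -- bounds for the values
  have hp0 : (p : ℤ) ≠ 0 := by exact_mod_cast hp.out.ne_zero
  have hb1 : ∀ χ ∈ st.Xp, ‖(χ : G → ℂ) τ‖ ^ 2 ≤ 4 := by
    intro χ hχ
    have h2 := st.fx_X (st.mem_Xp.mp hχ).1
    rw [(st.mem_Xp.mp hχ).2.2, hXp χ hχ] at h2
    have h3 : (st.fx χ : ℤ) = 2 := by
      apply mul_left_cancel₀ hp0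
      rw [h2]; push_cast; ring
    have h4 := st.norm_le_fix hτN hτP (CharBase.irr_isCharacter χ) (st.sum_fx χ)
    have h5 : st.fx χ = 2 := by exact_mod_cast h3
    rw [h5] at h4
    push_cast at h4
    nlinarith [norm_nonneg ((χ : G → ℂ) τ)]
  have hb2 : ‖(ψ : G → ℂ) τ‖ ^ 2 ≤ 1 := by
    have h2 := st.fx_Y hψ
    rw [hδ, hdψ] at h2
    have h3 : (st.fx ψ : ℤ) = 1 := by
      apply mul_left_cancel₀ hp0
      rw [h2]; push_cast; omega
    have h4 := st.norm_le_fix hτN hτP (CharBase.irr_isCharacter ψ) (st.sum_fx ψ)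
    have h5 : st.fx ψ = 1 := by exact_mod_cast h3
    rw [h5] at h4
    push_cast at h4
    nlinarith [norm_nonneg ((ψ : G → ℂ) τ)]
  have hb3 : ∑ χ ∈ st.Xp, ‖(χ : G → ℂ) τ‖ ^ 2 ≤ st.Xp.card * 4 := by
    have := Finset.sum_le_card_nsmul st.Xp (fun χ => ‖(χ : G → ℂ) τ‖ ^ 2) 4 hb1
    rwa [nsmul_eq_mul] at this
  have hsr : (st.Xp.card : ℝ) * 2 + 2 = ind P := by
    have : st.Xp.card * 2 + 2 = ind P := by omega
    exact_mod_cast this
  have hpr : (p : ℝ) = 2 * ind P + 1 := by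
    have : p = 2 * ind P + 1 := by omega
    exact_mod_cast this
  have hepos : (0 : ℝ) < ind P := by exact_mod_cast ind_pos P
  have hkey : p * D * D * (ind P + 1) ≤ 2 * ind P * Nat.card G := by
    have h2 : (p : ℝ) * D * D * (ind P + 1) ≤ 2 * ind P * Nat.card G := by
      push_cast at h1
      rw [h1, hpr]
      have h3 : (1 + (∑ χ ∈ st.Xp, ‖(χ : G → ℂ) τ‖ ^ 2) / (2 * (ind P : ℝ) + 1 + 1) +
          ‖(ψ : G → ℂ) τ‖ ^ 2 / (ind P + 1)) * (ind P + 1) ≤ 2 * ind P := by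
        have h4 : (1 + (∑ χ ∈ st.Xp, ‖(χ : G → ℂ) τ‖ ^ 2) / (2 * (ind P : ℝ) + 1 + 1) +
          ‖(ψ : G → ℂ) τ‖ ^ 2 / (ind P + 1)) * (ind P + 1) = (ind P + 1) +
          (∑ χ ∈ st.Xp, ‖(χ : G → ℂ) τ‖ ^ 2) / 2 + ‖(ψ : G → ℂ) τ‖ ^ 2 := by
          have e1 : 2 * (ind P : ℝ) + 1 + 1 = 2 * (ind P + 1) := by ring
          rw [e1]
          have e2 : (ind P : ℝ) + 1 ≠ 0 := by positivity
          field_simp
        rw [h4]
        nlinarith
      rw [mul_assoc]
      refine (mul_le_mul_of_nonneg_left h3 hGpos.le).trans (le_of_eq ?_)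
      ring
    exact_mod_cast h2
  -- `2 ^ b` divides `D`
  have hDz : Nat.card (centralizer ({z} : Set G)) = D := card_centralizer_of_isConj hzτ
  have hDb : 2 ^ b ≤ D := by
    have h2 := (centralizer ({z} : Set G)).card_mul_index
    rw [hDz, hG] at h2
    have h3 : 2 ^ b ∣ D * (centralizer ({z} : Set G)).index := by
      rw [h2]; exact ⟨p * (ind P + 1), by ring⟩
    have h4 : Nat.Coprime (2 ^ b) (centralizer ({z} : Set G)).index :=
      Nat.Coprime.pow_left _ ((Nat.prime_two.coprime_iff_not_dvd).mpr hzi)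
    exact Nat.le_of_dvd Nat.card_pos (h4.dvd_of_dvd_mul_right h3)
  have hb : 2 ^ b ≤ 2 * ind P := by
    rw [hG] at hkey
    have h2 : (p * 2 ^ b * (ind P + 1)) * 2 ^ b ≤ (p * 2 ^ b * (ind P + 1)) * (2 * ind P) := by
      calc (p * 2 ^ b * (ind P + 1)) * 2 ^ b = p * 2 ^ b * 2 ^ b * (ind P + 1) := by ring
        _ ≤ p * D * D * (ind P + 1) := by gcongr
        _ ≤ 2 * ind P * (p * 2 ^ b * (ind P + 1)) := hkey
        _ = _ := by ring
    have h3 : 0 < p * 2 ^ b * (ind P + 1) := by have := hp.out.pos; positivity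
    exact Nat.le_of_mul_le_mul_left h2 h3
  obtain ⟨n, hn⟩ := exists_index st.hP
  have hn1 := one_le_n st.hP hperf hn
  have hcG := st.card_G
  rw [hG, hn] at hcG
  have h5 : 2 ^ b * (ind P + 1) = ind P * (1 + n * p) := by
    have : p * (2 ^ b * (ind P + 1)) = p * (ind P * (1 + n * p)) := by
      calc p * (2 ^ b * (ind P + 1)) = p * 2 ^ b * (ind P + 1) := by ring
        _ = p * ind P * (1 + n * p) := hcG
        _ = _ := by ring
    exact Nat.eq_of_mul_eq_mul_left hp.out.pos this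
  have h6 : ind P * (1 + n * p) ≤ ind P * (2 * (ind P + 1)) := by
    rw [← h5]
    calc 2 ^ b * (ind P + 1) ≤ 2 * ind P * (ind P + 1) := Nat.mul_le_mul_right _ hb
      _ = _ := by ring
  have h7 := Nat.le_of_mul_le_mul_left h6 (ind_pos P)
  have h8 : n ≤ 1 := by
    by_contra hlt
    have h9 : 2 * p ≤ n * p := Nat.mul_le_mul_right p (by omega)
    omega
  have h9 : n = 1 := by omega
  rw [hn, h9]

end

end Cfsg.Agent.BT
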