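import Cfsg.Agent.BT.PSolvDeg
import Cfsg.Agent.H79.Basic
import Cfsg.Agent.CharBase.Ortho

/-!
`p`-solvable groups with a faithful character of degree at most `p - 1` (S4468).
-/

set_option autoImplicit false

namespace Cfsg.Agent.BT

open Cfsg Subgroup

universe u v w

section

variable {G : Type u} [Group G] [Finite G] {p : ℕ} [hp : Fact p.Prime]

theorem NP.comap {K : Subgroup G} [K.Normal] (h : NP p (⊥ : Subgroup (G ⧸ K))) : NP p K := by
  obtain ⟨A, hA, -, hA1, hA2⟩ := h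
  refine ⟨A.comap (QuotientGroup.mk' K), inferInstance, ?_, ?_, ?_⟩
  · intro x hx
    rw [Subgroup.mem_comap]
    have : (QuotientGroup.mk' K) x = 1 := (QuotientGroup.eq_one_iff x).mpr hx
    rw [this]
    exact A.one_mem
  · intro a ha
    obtain ⟨m, hm⟩ := hA1 _ (Subgroup.mem_comap.mp ha)
    refine ⟨m, ?_⟩
    rw [Subgroup.mem_bot, ← map_pow] at hm
    exact (QuotientGroup.eq_one_iff _).mp hm
  · rw [Subgroup.index_comap_of_surjective _ (QuotientGroup.mk'_surjective K)]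
    exact hA2

omit hp in
/-- elements of a subgroup without nontrivial `p'`-elements have `p`-power order. -/
theorem exists_pow_eq_one (hp' : p.Prime) {K : Subgroup G}
    (hK : ∀ g ∈ K, ¬ p ∣ orderOf g → g = 1) : ∀ a ∈ K, ∃ m : ℕ, a ^ p ^ m = 1 := by
  intro a ha
  obtain ⟨m, w, hw, hm⟩ := Nat.exists_eq_pow_mul_and_not_dvd (orderOf_pos a).ne' p hp'.ne_one
  refine ⟨m, hK _ (K.pow_mem ha _) ?_⟩
  have h1 : orderOf (a ^ p ^ m) = w := by
    rw [orderOf_pow_of_dvd (pow_ne_zero _ hp'.ne_zero) (by rw [hm]; exact Dvd.intro _ rfl), hm]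
    exact Nat.mul_div_cancel_left _ (Nat.pow_pos hp'.pos)
  rw [h1]
  exact hw

theorem np_faithful (hsol : IsPSolvable p G) {n : ℕ} (hn : n + 1 ≤ p)
    (ρ : G →* Module.End ℂ (Fin n → ℂ)) (hρ : Function.Injective ρ) :
    NP p (⊥ : Subgroup G) ∨ (n + 1 = p ∧ ∃ m : ℕ, n = 2 ^ m) := by
  obtain ⟨k, hk, hk2, -, τ, hτ⟩ := H79.MR.exists_modular p ρ hρ
  rcases main_np hsol n (Fin n → k) (Module.finrank_fin_fun k) hn τ with h | h
  · left
    refine h.of_pow bot_le ?_
    intro a ha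
    obtain ⟨m, hm⟩ := exists_pow_eq_one hp.out (K := τ.ker)
      (fun g hg hgp => hτ g hgp (MonoidHom.mem_ker.mp hg)) a ha
    exact ⟨m, by rw [Subgroup.mem_bot]; exact hm⟩
  · exact Or.inr h

theorem np_rep (hsol : IsPSolvable p G) {n : ℕ} (hn : n + 1 ≤ p)
    (ρ : G →* Module.End ℂ (Fin n → ℂ)) :
    NP p ρ.ker ∨ (n + 1 = p ∧ ∃ m : ℕ, n = 2 ^ m) := by
  let f : G ⧸ ρ.ker →* Module.End ℂ (Fin n → ℂ) := QuotientGroup.lift ρ.ker ρ (le_refl _)
  have hf : Function.Injective f := by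
    rw [injective_iff_map_eq_one]
    intro a ha
    obtain ⟨g, rfl⟩ := QuotientGroup.mk_surjective a
    rw [QuotientGroup.lift_mk] at ha
    exact (QuotientGroup.eq_one_iff g).mpr (MonoidHom.mem_ker.mpr ha)
  rcases np_faithful (H76.isPSolvable_quotient ρ.ker hsol) hn f hf with h | h
  · exact Or.inl h.comap
  · exact Or.inr h

theorem NP.iInf {ι : Type*} [DecidableEq ι] (s : Finset ι) (K : ι → Subgroup G)
    (h : ∀ i ∈ s, NP p (K i)) : NP p (⨅ i ∈ s, K i) := by
  induction s using Finset.induction_on with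
  | empty =>
    have : (⨅ i ∈ (∅ : Finset ι), K i) = ⊤ := by simp
    rw [this]
    refine ⟨⊤, inferInstance, le_top, fun a _ => ⟨0, Subgroup.mem_top _⟩, ?_⟩
    rw [Subgroup.index_top]
    exact hp.out.one_lt.ne' ∘ Nat.dvd_one.mp
  | insert a s ha ih =>
    rw [Finset.iInf_insert]
    exact (h a (Finset.mem_insert_self _ _)).inf
      (ih fun i hi => h i (Finset.mem_insert_of_mem hi))

/-- **S4468** -/
theorem psolv_deg (hsol : IsPSolvable p G) {χ : G → ℂ} (hχ : IsCharacter G χ)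
    (hfaith : ∀ g : G, χ g = χ 1 → g = 1) (hn : charDegree χ + 1 ≤ p) (P : Sylow p G)
    (hP : ¬ (P : Subgroup G).Normal) :
    charDegree χ + 1 = p ∧ (∃ k : ℕ, charDegree χ = 2 ^ k) ∧ IsIrrCharacter G χ := by
  classical
  have := Fintype.ofFinite G
  have := Fintype.ofFinite (IrrCharacter G)
  have hbot : ¬ NP p (⊥ : Subgroup G) := fun h =>
    hP (h.normal (fun a ha => ⟨0, by rw [Subgroup.mem_bot.mp ha, one_pow]⟩) P)
  obtain ⟨ρ, hρ⟩ := H79.MR.exists_faithful hχ hfaith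
  rcases np_faithful hsol hn ρ hρ with h | ⟨h1, h2⟩
  · exact absurd h hbot
  refine ⟨h1, h2, ?_⟩
  by_contra hirr
  apply hbot
  obtain ⟨m, hm, hsum⟩ := CharBase.exists_mult_of_isCharacter hχ
  have hχ1 : χ 1 = (charDegree χ : ℂ) := by
    obtain ⟨n, ρ', hρ'⟩ := hχ
    rw [H79.charDegree_eq (n := n) (by rw [← hρ']; simp), ← hρ']
    simp
  -- degrees
  have hdeg : charDegree χ = ∑ ψ : IrrCharacter G, m ψ * charDegree (ψ : G → ℂ) := by
    have h3 := congrFun hsum 1
    rw [hχ1, Finset.sum_apply] at h3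
    have h4 : (charDegree χ : ℂ) =
        ((∑ ψ : IrrCharacter G, m ψ * charDegree (ψ : G → ℂ) : ℕ) : ℂ) := by
      rw [h3]
      push_cast
      refine Finset.sum_congr rfl fun ψ _ => ?_
      rw [Pi.smul_apply, nsmul_eq_mul, H79.irr_one]
    exact_mod_cast h4
  have hlt : ∀ ψ : IrrCharacter G, m ψ ≠ 0 → charDegree (ψ : G → ℂ) < charDegree χ := by
    intro ψ hψ
    have h3 : m ψ * charDegree (ψ : G → ℂ) ≤ charDegree χ := by
      rw [hdeg]
      exact Finset.single_le_sum (f := fun ψ : IrrCharacter G => m ψ * charDegree (ψ : G → ℂ))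
        (fun _ _ => Nat.zero_le _) (Finset.mem_univ ψ)
    have hpos := H79.irr_degree_pos ψ
    have h4 : charDegree (ψ : G → ℂ) ≤ m ψ * charDegree (ψ : G → ℂ) :=
      Nat.le_mul_of_pos_left _ (Nat.pos_of_ne_zero hψ)
    refine lt_of_le_of_ne (h4.trans h3) ?_
    intro heq
    apply hirr
    have h5 : m ψ = 1 := by
      have h6 : m ψ * charDegree (ψ : G → ℂ) ≤ 1 * charDegree (ψ : G → ℂ) := by omega
      have := Nat.le_of_mul_le_mul_right h6 hpos
      omega
    have h6 : ∀ ξ : IrrCharacter G, ξ ≠ ψ → m ξ = 0 := by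
      intro ξ hξ
      by_contra hne
      have h7 : m ξ * charDegree (ξ : G → ℂ) + m ψ * charDegree (ψ : G → ℂ) ≤ charDegree χ := by
        rw [hdeg, ← Finset.sum_pair hξ (f := fun ψ : IrrCharacter G => m ψ * charDegree (ψ : G → ℂ))]
        exact Finset.sum_le_sum_of_subset (Finset.subset_univ _)
      have h8 := H79.irr_degree_pos ξ
      have h9 : 0 < m ξ * charDegree (ξ : G → ℂ) := Nat.mul_pos (Nat.pos_of_ne_zero hne) h8
      omega
    have h7 : χ = (ψ : G → ℂ) := by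
      rw [hsum, Finset.sum_eq_single ψ, h5, one_smul]
      · intro ξ _ hξ
        rw [h6 ξ hξ, zero_smul]
      · intro h
        exact absurd (Finset.mem_univ _) h
    rw [h7]
    exact ψ.2
  -- kernels
  choose nn σ hσirr hσ hσn hσpos using fun ψ : IrrCharacter G => H79.irr_exists_rep ψ
  have hNP : ∀ ψ : IrrCharacter G, m ψ ≠ 0 → NP p (MonoidHom.ker (σ ψ)) := by
    intro ψ hψ
    have h3 := hlt ψ hψ
    rw [hσn] at h3
    rcases np_rep hsol (by omega) (σ ψ) with h4 | ⟨h4, -⟩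
    · exact h4
    · exfalso; omega
  have h3 : (⨅ ψ ∈ Finset.univ.filter (fun ψ : IrrCharacter G => m ψ ≠ 0),
      MonoidHom.ker (σ ψ)) = ⊥ := by
    rw [eq_bot_iff]
    intro g hg
    rw [Subgroup.mem_iInf] at hg
    rw [Subgroup.mem_bot]
    apply hfaith
    rw [hsum, Finset.sum_apply, Finset.sum_apply]
    refine Finset.sum_congr rfl fun ψ _ => ?_
    by_cases hψ : m ψ = 0
    · rw [hψ, zero_smul, Pi.zero_apply, Pi.zero_apply]
    · have h4 := (Subgroup.mem_iInf.mp (hg ψ)) (Finset.mem_filter.mpr ⟨Finset.mem_univ _, hψ⟩)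
      have h5 : σ ψ g = 1 := h4
      rw [Pi.smul_apply, Pi.smul_apply, ← hσ ψ]
      unfold Representation.character
      rw [h5, map_one (σ ψ)]
  rw [← h3]
  exact NP.iInf _ _ fun ψ hψ => hNP ψ (Finset.mem_filter.mp hψ).2

end

end Cfsg.Agent.BT
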