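import Cfsg.Agent.BT.PQR
import Cfsg.Agent.BT.PSolvDeg2
import Cfsg.Agent.S0899
import Cfsg.Agent.S4503
import Cfsg.Agent.S4470
import Cfsg.Agent.H76.PrimeDeg
import Cfsg.Agent.H75.Monomial

/-!
Simple groups with a faithful character of small degree: the primes, abelian subgroups, and
Sylow subgroups.
-/

set_option autoImplicit false

open scoped ComplexConjugate

namespace Cfsg.Agent.BT

open Cfsg Subgroup Cfsg.Agent.BR
open Cfsg.Agent.CharBase (oneIrr)

universe u

section

variable {G : Type u} [Group G] [Finite G]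

/-- no prime divisor of the order of a simple group exceeds `2 n + 1`. -/
theorem prime_le [IsSimpleGroup G] (hnc : ∃ a b : G, a * b ≠ b * a) {χ : G → ℂ}
    (hχ : IsCharacter G χ) (hf : ∀ g : G, χ g = χ 1 → g = 1) {r : ℕ} (hr : r.Prime)
    (hrG : r ∣ Nat.card G) : r ≤ 2 * charDegree χ + 1 := by
  by_contra hcon
  push Not at hcon
  haveI := Fact.mk hr
  obtain ⟨ρ, hρ⟩ := H79.MR.exists_faithful hχ hf
  obtain ⟨P⟩ : Nonempty (Sylow r G) := inferInstance
  have hN : (P : Subgroup G).Normal := by
    refine S0899.result (charDegree χ) ρ hρ r (Or.inr ⟨by omega, fun K hK Q => ?_⟩) P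
    by_cases hrK : r ∣ Nat.card K
    · have hχK := CharBase.isCharacter_restrict hχ K
      by_contra hQn
      have h1 := S4503.result r hr hrK hK (fun H hH hc => hQn ?_) (fun k : K => χ k) hχK
        (fun g hg => Subtype.ext (hf g hg))
      · have h2 : charDegree (fun k : K => χ k) = charDegree χ := by
          unfold charDegree; rfl
        rw [h2] at h1
        omega
      · -- `H` is a normal subgroup of order `r`, hence the Sylow subgroup
        have hHp : IsPGroup r H := IsPGroup.of_card (n := 1) (by rw [hc, pow_one])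
        have hle : H ≤ (Q : Subgroup K) := by
          have h1 : IsPGroup r (H ⊔ (Q : Subgroup K) : Subgroup K) :=
            hHp.to_sup_of_normal_left Q.isPGroup'
          have h2 := Q.is_maximal' h1 le_sup_right
          rw [← h2]; exact le_sup_left
        have hQc : Nat.card Q ∣ r := by
          obtain ⟨k, hk⟩ := (IsPGroup.iff_card (p := r)).mp Q.2
          have h3 : Nat.card Q ∣ Nat.card K := Subgroup.card_subgroup_dvd_card _
          rw [hk] at h3 ⊢
          have h4 : k < 2 := by
            by_contra h5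
            push Not at h5
            exact hK ((pow_dvd_pow r h5).trans h3)
          calc r ^ k ∣ r ^ 1 := pow_dvd_pow r (by omega)
            _ = r := pow_one r
        have h5 : H = (Q : Subgroup K) := by
          apply Subgroup.eq_of_le_of_card_ge hle
          rw [hc]
          exact Nat.le_of_dvd hr.pos hQc
        rw [← h5]
        exact hH
    · have h1 : (Q : Subgroup K) = ⊥ := by
        rw [← Subgroup.card_eq_one]
        obtain ⟨k, hk⟩ := (IsPGroup.iff_card (p := r)).mp Q.2
        have h3 : Nat.card Q ∣ Nat.card K := Subgroup.card_subgroup_dvd_card _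
        rw [hk] at h3 ⊢
        rcases k with _ | k
        · rw [pow_zero]
        · exact absurd ((dvd_pow_self r (Nat.succ_ne_zero k)).trans h3) hrK
      rw [h1]
      infer_instance
  rcases hN.eq_bot_or_eq_top with h | h
  · have h1 := P.dvd_card_of_dvd_card hrG
    rw [h, Subgroup.card_bot] at h1
    exact hr.one_lt.ne' (Nat.dvd_one.mp h1)
  · have hG : IsPGroup r G := by
      have h2 := P.2
      rw [h] at h2
      exact h2.of_equiv Subgroup.topEquiv
    have hcnt : Nontrivial (center G) := hG.center_nontrivial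
    rcases (inferInstance : (center G).Normal).eq_bot_or_eq_top with h | h
    · exact (Subgroup.nontrivial_iff_ne_bot _).mp hcnt h
    · obtain ⟨a, b, hab⟩ := hnc
      apply hab
      have : b ∈ center G := by rw [h]; trivial
      exact Subgroup.mem_center_iff.mp this a

/-- abelian subgroups of a simple group with a faithful character of degree `n` have order at most
`12 ^ n`. -/
theorem card_le_of_comm [IsSimpleGroup G] (hnc : ∃ a b : G, a * b ≠ b * a) {χ : G → ℂ}
    (hχ : IsCharacter G χ) (hf : ∀ g : G, χ g = χ 1 → g = 1) {H : Subgroup G}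
    (hH : ∀ x ∈ H, ∀ y ∈ H, x * y = y * x) : Nat.card H ≤ 12 ^ charDegree χ := by
  obtain ⟨A, hA, hAc, h⟩ := S4470.result χ hχ hf _ rfl
  rcases hA.eq_bot_or_eq_top with h1 | h1
  · have h2 := h H hH
    rw [h1, Subgroup.bot_subgroupOf, Subgroup.index_bot] at h2
    exact h2
  · exfalso
    obtain ⟨a, b, hab⟩ := hnc
    exact hab (hAc a (by rw [h1]; trivial) b (by rw [h1]; trivial))

end

section

variable {S : Type u} [Group S] [Finite S] {s : ℕ} [hs : Fact s.Prime]

theorem irr_deg_pow (hS : IsPGroup s S) (ψ : IrrCharacter S) : ∃ k : ℕ, dg ψ = s ^ k := by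
  obtain ⟨k, hk⟩ := (IsPGroup.iff_card (p := s)).mp hS
  have h1 := H79.irr_degree_dvd_card ψ
  rw [hk] at h1
  obtain ⟨j, -, hj⟩ := (Nat.dvd_prime_pow hs.out).mp h1
  exact ⟨j, hj⟩

/-- a linear character is trivial on commutators. -/
theorem lin_comm {ψ : IrrCharacter S} (h : dg ψ = 1) (a b : S) :
    (ψ : S → ℂ) (a * b * a⁻¹ * b⁻¹) = (ψ : S → ℂ) 1 := by
  obtain ⟨n, ρ, hρ, hch, hn, hpos⟩ := H79.irr_exists_rep ψ
  have hn1 : n = 1 := by rw [← hn]; exact h
  subst hn1
  have h1 : ∀ f g : (Fin 1 → ℂ) →ₗ[ℂ] (Fin 1 → ℂ), f * g = g * f := by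
    intro f g
    apply LinearMap.ext
    intro v
    have key : ∀ f : (Fin 1 → ℂ) →ₗ[ℂ] (Fin 1 → ℂ), ∀ w : Fin 1 → ℂ,
        f w = (f (fun _ => 1) 0) • w := by
      intro f w
      have : w = w 0 • (fun _ => (1 : ℂ)) := by
        funext i; fin_cases i; simp
      funext i
      fin_cases i
      rw [this, map_smul]
      simp [mul_comm]
    change f (g v) = g (f v)
    rw [key g v, key f v, map_smul, map_smul, key f v, key g v, smul_smul, smul_smul, mul_comm]
  rw [← hch]
  have h2 : ρ (a * b * a⁻¹ * b⁻¹) = 1 := by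
    rw [map_mul, map_mul, map_mul, h1 (ρ a) (ρ b), mul_assoc (ρ b), ← map_mul, mul_inv_cancel,
      map_one, mul_one, ← map_mul, mul_inv_cancel, map_one]
  unfold Representation.character
  rw [h2, MonoidHom.map_one ρ]

/-- an `s`-group with a faithful character of degree less than `s` is abelian. -/
theorem comm_of_deg_lt (hS : IsPGroup s S) {χ : S → ℂ} (hχ : IsCharacter S χ)
    (hf : ∀ g : S, χ g = χ 1 → g = 1) (hn : charDegree χ < s) (a b : S) : a * b = b * a := by
  classical
  have := Fintype.ofFinite S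
  have := Fintype.ofFinite (IrrCharacter S)
  obtain ⟨m, -, hm⟩ := CharBase.exists_mult_of_isCharacter hχ
  have hval : ∀ g : S, χ g = ∑ ψ : IrrCharacter S, (m ψ : ℂ) * (ψ : S → ℂ) g := by
    intro g
    conv_lhs => rw [hm]
    rw [Finset.sum_apply]
    exact Finset.sum_congr rfl fun ψ _ => by simp
  have hdeg : charDegree χ = ∑ ψ : IrrCharacter S, m ψ * dg ψ := by
    have h1 := hval 1
    rw [H79.char_one_eq hχ] at h1
    have h2 : ∀ ψ : IrrCharacter S, (m ψ : ℂ) * (ψ : S → ℂ) 1 = ((m ψ * dg ψ : ℕ) : ℂ) :=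
      fun ψ => by rw [dg_eq]; push_cast; ring
    rw [Finset.sum_congr rfl fun ψ _ => h2 ψ, ← Nat.cast_sum] at h1
    exact_mod_cast h1
  have h1 : a * b * a⁻¹ * b⁻¹ = 1 := by
    apply hf
    rw [hval, hval]
    refine Finset.sum_congr rfl fun ψ _ => ?_
    rcases Nat.eq_zero_or_pos (m ψ) with h0 | h0
    · rw [h0]; simp
    · rw [lin_comm]
      obtain ⟨k, hk⟩ := irr_deg_pow hS ψ
      have h2 : m ψ * dg ψ ≤ charDegree χ := by
        rw [hdeg]
        exact Finset.single_le_sum (f := fun ψ => m ψ * dg ψ) (fun _ _ => Nat.zero_le _)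
          (Finset.mem_univ ψ)
      have h3 : dg ψ < s := by
        calc dg ψ ≤ m ψ * dg ψ := Nat.le_mul_of_pos_left _ h0
          _ ≤ _ := h2
          _ < s := hn
      rcases k with _ | k
      · rw [hk, pow_zero]
      · exfalso
        rw [hk] at h3
        have : s ≤ s ^ (k + 1) := Nat.le_self_pow (Nat.succ_ne_zero k) s
        omega
  calc a * b = (a * b * a⁻¹ * b⁻¹) * (b * a) := by group
    _ = b * a := by rw [h1, one_mul]

/-- an `s`-group with a faithful character of degree less than `2 s` has an abelian subgroup of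
index at most `s`. -/
theorem exists_comm_of_deg_lt (hS : IsPGroup s S) {χ : S → ℂ} (hχ : IsCharacter S χ)
    (hf : ∀ g : S, χ g = χ 1 → g = 1) (hn : charDegree χ < 2 * s) :
    ∃ A : Subgroup S, (∀ a ∈ A, ∀ b ∈ A, a * b = b * a) ∧ Nat.card S ≤ s * Nat.card A := by
  classical
  have := Fintype.ofFinite S
  have := Fintype.ofFinite (IrrCharacter S)
  obtain ⟨m, -, hm⟩ := CharBase.exists_mult_of_isCharacter hχ
  have hval : ∀ g : S, χ g = ∑ ψ : IrrCharacter S, (m ψ : ℂ) * (ψ : S → ℂ) g := by
    intro g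
    conv_lhs => rw [hm]
    rw [Finset.sum_apply]
    exact Finset.sum_congr rfl fun ψ _ => by simp
  have hdeg : charDegree χ = ∑ ψ : IrrCharacter S, m ψ * dg ψ := by
    have h1 := hval 1
    rw [H79.char_one_eq hχ] at h1
    have h2 : ∀ ψ : IrrCharacter S, (m ψ : ℂ) * (ψ : S → ℂ) 1 = ((m ψ * dg ψ : ℕ) : ℂ) :=
      fun ψ => by rw [dg_eq]; push_cast; ring
    rw [Finset.sum_congr rfl fun ψ _ => h2 ψ, ← Nat.cast_sum] at h1
    exact_mod_cast h1
  by_cases hall : ∀ ψ : IrrCharacter S, 0 < m ψ → dg ψ = 1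
  · refine ⟨⊤, fun a _ b _ => ?_, ?_⟩
    · have h1 : a * b * a⁻¹ * b⁻¹ = 1 := by
        apply hf
        rw [hval, hval]
        refine Finset.sum_congr rfl fun ψ _ => ?_
        rcases Nat.eq_zero_or_pos (m ψ) with h0 | h0
        · rw [h0]; simp
        · rw [lin_comm (hall ψ h0)]
      calc a * b = (a * b * a⁻¹ * b⁻¹) * (b * a) := by group
        _ = b * a := by rw [h1, one_mul]
    · rw [Subgroup.card_top]
      exact Nat.le_mul_of_pos_left _ hs.out.pos
  · push Not at hall
    obtain ⟨ψ, hψm, hψ1⟩ := hall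
    obtain ⟨k, hk⟩ := irr_deg_pow hS ψ
    have hsψ : s ≤ dg ψ := by
      rcases k with _ | k
      · exact absurd (by rw [hk, pow_zero]) hψ1
      · rw [hk]
        exact Nat.le_self_pow (Nat.succ_ne_zero k) s
    have hle2 : ∀ ψ', ψ' ≠ ψ → m ψ' * dg ψ' + m ψ * dg ψ ≤ charDegree χ := by
      intro ψ' hne
      rw [hdeg]
      have h1 : ∑ ξ ∈ ({ψ', ψ} : Finset (IrrCharacter S)), m ξ * dg ξ ≤
          ∑ ξ : IrrCharacter S, m ξ * dg ξ :=
        Finset.sum_le_sum_of_subset (Finset.subset_univ _)
      rw [Finset.sum_pair hne] at h1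
      exact h1
    have hle : m ψ * dg ψ ≤ charDegree χ := by
      rw [hdeg]
      exact Finset.single_le_sum (f := fun ψ => m ψ * dg ψ) (fun _ _ => Nat.zero_le _)
        (Finset.mem_univ ψ)
    have hother : ∀ ψ', ψ' ≠ ψ → 0 < m ψ' → dg ψ' = 1 := by
      intro ψ' hne h0
      obtain ⟨k', hk'⟩ := irr_deg_pow hS ψ'
      rcases k' with _ | k'
      · rw [hk', pow_zero]
      · exfalso
        have h1 : s ≤ dg ψ' := by rw [hk']; exact Nat.le_self_pow (Nat.succ_ne_zero k') s
        have h2 := hle2 ψ' hne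
        have h3 : dg ψ' ≤ m ψ' * dg ψ' := Nat.le_mul_of_pos_left _ h0
        have h4 : dg ψ ≤ m ψ * dg ψ := Nat.le_mul_of_pos_left _ hψm
        omega
    -- the degree of `ψ` is `s`
    have hψs : dg ψ = s := by
      have h4 : dg ψ ≤ m ψ * dg ψ := Nat.le_mul_of_pos_left _ hψm
      rcases k with _ | _ | k
      · exact absurd (by rw [hk, pow_zero]) hψ1
      · rw [hk, zero_add, pow_one]
      · exfalso
        have h5 : s * s ≤ dg ψ := by
          rw [hk, show k + 1 + 1 = k + 2 from rfl, pow_add, pow_two]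
          exact Nat.le_mul_of_pos_left _ (pow_pos hs.out.pos _)
        have h6 : 2 * s ≤ s * s := Nat.mul_le_mul_right s hs.out.two_le
        omega
    have hnil : Group.IsNilpotent S := hS.isNilpotent
    obtain ⟨A, lam, hlam⟩ := H75.isMonomialChar_of_nilpotent ψ.2
    have hAc : (Nat.card A : ℂ) ≠ 0 := by exact_mod_cast Nat.card_pos.ne'
    -- the index
    have hidx : A.index = s := by
      have h1 : ((ψ : IrrCharacter S) : S → ℂ) 1 = (A.index : ℂ) := by
        rw [hlam]
        unfold indFun
        rw [Finset.sum_congr rfl (g := fun _ => (1 : ℂ)) (fun x _ => by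
          have h3 : x⁻¹ * 1 * x = 1 := by simp
          rw [h3, Char.extendByZero_of_mem A _ A.one_mem]
          change ((lam 1 : ℂˣ) : ℂ) = 1
          rw [map_one]; rfl), Finset.sum_const, Finset.card_univ, nsmul_eq_mul, mul_one,
          ← Nat.card_eq_fintype_card, ← A.card_mul_index]
        push_cast
        field_simp
      rw [dg_eq, hψs] at h1
      exact_mod_cast h1.symm
    have hAn : A.Normal := by
      apply Subgroup.normal_of_index_eq_minFac_card
      rw [hidx]
      obtain ⟨j, hj⟩ := (IsPGroup.iff_card (p := s)).mp hS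
      have hj0 : j ≠ 0 := by
        rintro rfl
        have h1 : A.index ∣ Nat.card S := Subgroup.index_dvd_card A
        rw [hidx, hj, pow_zero] at h1
        exact hs.out.one_lt.ne' (Nat.dvd_one.mp h1)
      rw [hj, hs.out.pow_minFac hj0]
    refine ⟨A, fun a ha b hb => ?_, ?_⟩
    · have h1 : a * b * a⁻¹ * b⁻¹ = 1 := by
        apply hf
        rw [hval, hval]
        refine Finset.sum_congr rfl fun ψ' _ => ?_
        rcases Nat.eq_zero_or_pos (m ψ') with h0 | h0
        · rw [h0]; simp
        · by_cases hne : ψ' = ψ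
          · subst hne
            congr 1
            rw [hlam]
            unfold indFun
            congr 1
            refine Finset.sum_congr rfl fun x _ => ?_
            have hxa : x⁻¹ * a * x ∈ A := by
              have := hAn.conj_mem a ha x⁻¹
              rwa [inv_inv] at this
            have hxb : x⁻¹ * b * x ∈ A := by
              have := hAn.conj_mem b hb x⁻¹
              rwa [inv_inv] at this
            have h2 : x⁻¹ * (a * b * a⁻¹ * b⁻¹) * x =
                (((⟨_, hxa⟩ : A) * ⟨_, hxb⟩ * (⟨_, hxa⟩ : A)⁻¹ * (⟨_, hxb⟩ : A)⁻¹ : A) : S) := by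
              push_cast
              group
            have h3 : x⁻¹ * 1 * x = ((1 : A) : S) := by simp
            rw [h2, h3, Char.extendByZero_of_mem A _ (SetLike.coe_mem _),
              Char.extendByZero_of_mem A _ (SetLike.coe_mem _)]
            change ((lam (⟨_, hxa⟩ * ⟨_, hxb⟩ * (⟨_, hxa⟩ : A)⁻¹ * (⟨_, hxb⟩ : A)⁻¹) : ℂˣ) : ℂ) =
              ((lam 1 : ℂˣ) : ℂ)
            congr 1
            rw [map_mul, map_mul, map_mul, map_one, map_inv, map_inv,
              mul_comm (lam _) (lam _), mul_assoc (lam _), mul_inv_cancel, mul_one, mul_inv_cancel]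
          · rw [lin_comm (hother ψ' hne h0)]
      calc a * b = (a * b * a⁻¹ * b⁻¹) * (b * a) := by group
        _ = b * a := by rw [h1, one_mul]
    · rw [← A.card_mul_index, hidx, mul_comm]

end

end Cfsg.Agent.BT
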