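import Cfsg.Agent.BT.Cof1
import Cfsg.Agent.H17.Orbits
import Cfsg.Agent.Char.ModP
import Cfsg.Agent.Glaub.PGroup
import Cfsg.Agent.S0144
import Cfsg.Agent.ZJ.SolvFact
import Cfsg.Agent.F5.Complete
import Cfsg.Agent.H79.ProdChar

/-!
Simple groups with a faithful character of small degree: trivial intersection of the Sylow
subgroups of order `r^2`.
-/

set_option autoImplicit false

open scoped ComplexConjugate

namespace Cfsg.Agent.BT

open Cfsg Subgroup Cfsg.Agent.BR
open Cfsg.Agent.CharBase (oneIrr)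

universe u

section

variable {G : Type u} [Group G] [Finite G]

theorem ne_zero_of_pelt {r : ℕ} (hr : r.Prime) {χ : G → ℂ} (hχ : IsCharacter G χ)
    (hd : ¬ r ∣ charDegree χ) {g : G} {k : ℕ} (hg : g ^ r ^ k = 1) : χ g ≠ 0 := by
  intro h0
  obtain ⟨M, hM⟩ := Glaub.exists_isPModular hr
  haveI := Blk.isPrime_of_isPModular hM
  have h1 := Char.MP.rd_char_pow hM hχ g k
  rw [hg, h0, Blk.rd_zero, zero_pow (pow_pos hr.pos k).ne', H79.char_one_eq hχ,
    Blk.rd_natCast] at h1
  have := Blk.charP_kM hM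
  exact hd ((CharP.cast_eq_zero_iff (Blk.kM M) r _).mp h1)

/-- the number of Sylow subgroups. -/
theorem card_sylow_mod {r : ℕ} [hr : Fact r.Prime] (P : Sylow r G) (hP : Nat.card P = r ^ 2)
    (hN : ∀ g : G, orderOf g = r →
      ∀ Q : Sylow r (centralizer ({g} : Set G)), (Q : Subgroup (centralizer ({g} : Set G))).Normal) :
    Nat.card (Sylow r G) ≡ 1 [MOD r ^ 2] := by
  refine H17.card_sylow_modEq_of_large_index P 2 fun R hR => ?_
  by_contra hcon
  push Not at hcon
  apply hR
  have h1 : r ∣ Nat.card ((R : Subgroup G).subgroupOf (P : Subgroup G)) := by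
    have h2 := ((R : Subgroup G).subgroupOf (P : Subgroup G)).card_mul_index
    obtain ⟨k, hk⟩ := (IsPGroup.iff_card (p := r)).mp
      (P.2.to_subgroup ((R : Subgroup G).subgroupOf (P : Subgroup G)))
    rcases k with _ | k
    · exfalso
      rw [hk, pow_zero, one_mul] at h2
      have h3 : Nat.card (P : Subgroup G) = r ^ 2 := hP
      rw [h3] at h2
      rw [h2] at hcon
      have := (Nat.pow_le_pow_iff_right hr.out.one_lt).mp hcon
      omega
    · rw [hk]; exact dvd_pow_self r (Nat.succ_ne_zero k)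
  obtain ⟨g', hg'⟩ := exists_prime_orderOf_dvd_card' r h1
  set g : G := ((g' : (P : Subgroup G)) : G) with hg
  have hgP : g ∈ (P : Subgroup G) := (g' : (P : Subgroup G)).2
  have hgR : g ∈ (R : Subgroup G) := Subgroup.mem_subgroupOf.mp g'.2
  have hgo : orderOf g = r := by
    rw [hg, Subgroup.orderOf_coe, Subgroup.orderOf_coe]
    exact hg'
  have hcard : Nat.card R = Nat.card P := by
    obtain ⟨x, hx⟩ := MulAction.exists_smul_eq G P R
    rw [← hx]
    exact Nat.card_congr (Sylow.equivSMul P x).toEquiv.symm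
  have hle : ∀ Q : Sylow r G, Nat.card Q = r ^ 2 → g ∈ (Q : Subgroup G) →
      (Q : Subgroup G) ≤ centralizer ({g} : Set G) := by
    intro Q hQ hgQ x hx
    rw [Subgroup.mem_centralizer_singleton_iff]
    have h3 := IsPGroup.commutative_of_card_eq_prime_sq hQ ⟨x, hx⟩ ⟨g, hgQ⟩
    exact congrArg Subtype.val h3
  have hPC := hle P hP hgP
  have hRC := hle R (hcard.trans hP) hgR
  have h3 := hN g hgo (R.subtype hRC)
  have h4 : ((R.subtype hRC : Sylow r _) : Subgroup (centralizer ({g} : Set G))) ≤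
      (P.subtype hPC : Sylow r _) := by
    have h5 : IsPGroup r (((R.subtype hRC : Sylow r _) : Subgroup (centralizer ({g} : Set G))) ⊔
        ((P.subtype hPC : Sylow r _) : Subgroup (centralizer ({g} : Set G))) : Subgroup _) :=
      (R.subtype hRC).isPGroup'.to_sup_of_normal_left (P.subtype hPC).isPGroup'
    have h6 := (P.subtype hPC).is_maximal' h5 le_sup_right
    rw [← h6]; exact le_sup_left
  have h7 : (R : Subgroup G) ≤ P := by
    intro x hx
    have h8 : (⟨x, hRC hx⟩ : centralizer ({g} : Set G)) ∈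
        ((R.subtype hRC : Sylow r _) : Subgroup (centralizer ({g} : Set G))) := by
      rw [Sylow.coe_subtype, Subgroup.mem_subgroupOf]
      exact hx
    have h9 := h4 h8
    rw [Sylow.coe_subtype, Subgroup.mem_subgroupOf] at h9
    exact h9
  exact Sylow.ext (Subgroup.eq_of_le_of_card_ge h7 hcard.ge)

/-- normality of Sylow subgroups in solvable centralizers. -/
theorem sylow_cent_normal [IsSimpleGroup G] (hnc : ∃ a b : G, a * b ≠ b * a) {χ : IrrCharacter G}
    (h1 : dg χ ≠ 1) {r : ℕ} [hr : Fact r.Prime] (hd : dg χ + 1 ≤ r) {g : G} (hg : g ≠ 1)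
    (hf : ∀ g : G, (χ : G → ℂ) g = (χ : G → ℂ) 1 → g = 1)
    (hsol : Group.IsSolvable (centralizer ({g} : Set G)))
    (Q : Sylow r (centralizer ({g} : Set G))) :
    (Q : Subgroup (centralizer ({g} : Set G))).Normal := by
  by_contra hQ
  obtain ⟨-, -, hirr⟩ := psolv_deg (ZJ.isPSolvable_of_isSolvable r hsol)
    (CharBase.isCharacter_restrict (CharBase.irr_isCharacter χ) (centralizer ({g} : Set G)))
    (fun x hx => Subtype.ext (hf x hx)) hd Q hQ
  apply hg
  refine H76.eq_one_of_norm hnc (χ := χ) ?_ ?_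
  · rw [dg_eq]; exact_mod_cast h1
  · have hgc : g ∈ centralizer ({g} : Set G) := by
      rw [Subgroup.mem_centralizer_singleton_iff]
    have h2 := H79.irr_central_norm (⟨_, hirr⟩ : IrrCharacter (centralizer ({g} : Set G)))
      (z := ⟨g, hgc⟩) (by
        rw [Subgroup.mem_center_iff]
        rintro ⟨x, hx⟩
        apply Subtype.ext
        rw [Subgroup.mem_centralizer_singleton_iff] at hx
        exact hx)
    have h3 : ‖(χ : G → ℂ) g‖ = (charDegree (fun x : centralizer ({g} : Set G) => (χ : G → ℂ) x) : ℝ) :=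
      h2
    rw [h3, dg_eq]
    have h4 : charDegree (fun x : centralizer ({g} : Set G) => (χ : G → ℂ) x) = dg χ := rfl
    rw [h4]
    simp

end

end Cfsg.Agent.BT
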