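import Cfsg.Agent.BT.Cof2

/-!
Simple groups of order `3 * 2^x * r^y` and `4 * 3^x * r^y` with small faithful characters.
-/

set_option autoImplicit false

open scoped ComplexConjugate

namespace Cfsg.Agent.BT

open Cfsg Subgroup Cfsg.Agent.BR
open Cfsg.Agent.CharBase (oneIrr)

universe u

section

theorem solv_of_dvd {p q a b : ℕ} (hp : p.Prime) (hq : q.Prime) {K : Type u} [Group K] [Finite K]
    (h : Nat.card K ∣ p ^ a * q ^ b) : Group.IsSolvable K := by
  obtain ⟨d1, d2, h1, h2, h3⟩ := (Nat.dvd_mul).mp h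
  obtain ⟨i, -, rfl⟩ := (Nat.dvd_prime_pow hp).mp h1
  obtain ⟨j, -, rfl⟩ := (Nat.dvd_prime_pow hq).mp h2
  exact S0144.result p q i j hp hq h3.symm

theorem solv_of_dvd_two {p q a b : ℕ} (hp : p.Prime) (hq : q.Prime) (hp2 : p ≠ 2) (hq2 : q ≠ 2)
    {K : Type u} [Group K] [Finite K]
    (h : Nat.card K ∣ 2 * (p ^ a * q ^ b)) : Group.IsSolvable K := by
  have hodd : Odd (p ^ a * q ^ b) := (hp.odd_of_ne_two hp2).pow.mul (hq.odd_of_ne_two hq2).pow
  by_cases h2 : 2 ∣ Nat.card K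
  · obtain ⟨m, hm⟩ := h2
    rw [hm] at h
    have h3 : m ∣ p ^ a * q ^ b := Nat.dvd_of_mul_dvd_mul_left (by norm_num) h
    have hmo : Odd m := Odd.of_dvd_nat hodd h3
    obtain ⟨N, hN, hNc, -⟩ := F5.exists_index_two hmo hm
    have h4 : Group.IsSolvable N := solv_of_dvd hp hq (by rw [hNc]; exact h3)
    have h5 : Nat.card (K ⧸ N) = 2 := by
      have h6 := N.card_mul_index
      rw [hm, hNc, mul_comm] at h6
      have hmpos : 0 < m := hmo.pos
      rw [← Subgroup.index_eq_card]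
      exact Nat.eq_of_mul_eq_mul_right hmpos h6
    have hf : Fact (Nat.Prime 2) := ⟨Nat.prime_two⟩
    have h6 : IsCyclic (K ⧸ N) := isCyclic_of_prime_card h5
    have h7 : Group.IsSolvable (K ⧸ N) := by
      have := h6.isMulCommutative
      infer_instance
    exact (Group.isSolvable_iff_subgroup_quotient N).mpr ⟨h4, h7⟩
  · have h3 : Nat.Coprime (Nat.card K) 2 :=
      ((Nat.prime_two.coprime_iff_not_dvd).mpr h2).symm
    exact solv_of_dvd hp hq (h3.dvd_of_dvd_mul_left h)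

end

section

variable {G : Type u} [Group G] [Finite G]

theorem nmc {G : Type u} [Group G] (hnc : ∃ a b : G, a * b ≠ b * a) : ¬ IsMulCommutative G := by
  intro h
  obtain ⟨a, b, hab⟩ := hnc
  exact hab (h.is_comm.comm a b)

theorem dvd_index_of_pelt [IsSimpleGroup G] (hnc : ∃ a b : G, a * b ≠ b * a) {χ : IrrCharacter G}
    {s k r : ℕ} (hs : s.Prime) (hdeg : dg χ = s ^ (k + 1)) (hr : r.Prime) (hrs : r ≠ s) {g : G}
    (hg : orderOf g = r) : s ∣ (centralizer ({g} : Set G)).index := by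
  by_contra hcon
  have hχ1 : (χ : G → ℂ) 1 ≠ 1 := by
    rw [dg_eq, hdeg]
    have : 1 < s ^ (k + 1) := Nat.one_lt_pow (Nat.succ_ne_zero k) hs.one_lt
    exact_mod_cast this.ne'
  have hg1 : g ≠ 1 := by
    rintro rfl
    rw [orderOf_one] at hg
    exact hr.one_lt.ne hg
  have h1 := H76.eq_zero_of_coprime hnc hχ1 (dg_eq χ) hg1 (by
    rw [hdeg]
    exact Nat.Coprime.pow_left _ ((hs.coprime_iff_not_dvd).mpr hcon))
  refine ne_zero_of_pelt hr (CharBase.irr_isCharacter χ) ?_ (g := g) (k := 1) ?_ h1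
  · intro h
    have h' : r ∣ s ^ (k + 1) := by rw [← hdeg]; exact h
    exact hrs ((Nat.prime_dvd_prime_iff_eq hr hs).mp (hr.dvd_of_dvd_pow h'))
  · rw [pow_one, ← hg]; exact pow_orderOf_eq_one g

/-- a bound on the order of Sylow subgroups. -/
theorem card_sylow_le [IsSimpleGroup G] (hnc : ∃ a b : G, a * b ≠ b * a) {χ : G → ℂ}
    (hχ : IsCharacter G χ) (hf : ∀ g : G, χ g = χ 1 → g = 1) {s : ℕ} [hs : Fact s.Prime]
    (hd : charDegree χ < 2 * s) (T : Sylow s G) :
    Nat.card (T : Subgroup G) ≤ s * 12 ^ charDegree χ := by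
  obtain ⟨A, hA, hc⟩ := exists_comm_of_deg_lt T.2 (CharBase.isCharacter_restrict hχ (T : Subgroup G))
    (fun g hg => Subtype.ext (hf g hg)) hd
  have h1 : Nat.card A ≤ 12 ^ charDegree χ := by
    have h2 := card_le_of_comm hnc hχ hf (H := A.map (T : Subgroup G).subtype) (by
      rintro x ⟨x', hx', rfl⟩ y ⟨y', hy', rfl⟩
      rw [← map_mul, hA x' hx' y' hy', map_mul])
    rwa [Nat.card_congr (A.equivMapOfInjective _ (Subgroup.subtype_injective _)).symm.toEquiv] at h2
  exact hc.trans (Nat.mul_le_mul_left s h1)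

/-- the order of a Sylow subgroup. -/
theorem card_sylow_of {r m y : ℕ} [hr : Fact r.Prime] (hG : Nat.card G = m * r ^ y)
    (hm : ¬ r ∣ m) (R : Sylow r G) : Nat.card (R : Subgroup G) = r ^ y := by
  have h1 := (R : Subgroup G).card_mul_index
  have h2 := R.not_dvd_index
  obtain ⟨k, hk⟩ := (IsPGroup.iff_card (p := r)).mp R.2
  rw [hk, hG] at h1
  have e1 : (r ^ k).Coprime m :=
    Nat.Coprime.pow_left _ ((hr.out.coprime_iff_not_dvd).mpr hm)
  have e2 : (r ^ y).Coprime (R : Subgroup G).index :=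
    Nat.Coprime.pow_left _ ((hr.out.coprime_iff_not_dvd).mpr h2)
  have e3 : r ^ k ∣ r ^ y := e1.dvd_of_dvd_mul_left (by rw [← h1]; exact Dvd.intro _ rfl)
  have e4 : r ^ y ∣ r ^ k := e2.dvd_of_dvd_mul_right (by rw [h1]; exact Dvd.intro_left _ rfl)
  rw [hk]
  exact Nat.dvd_antisymm e3 e4

theorem card_sylow_dvd {r m y : ℕ} [hr : Fact r.Prime] (hG : Nat.card G = m * r ^ y)
    (hm : ¬ r ∣ m) : Nat.card (Sylow r G) ∣ m := by
  obtain ⟨R⟩ : Nonempty (Sylow r G) := inferInstance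
  have h1 := R.card_dvd_index
  have h2 := (R : Subgroup G).card_mul_index
  rw [card_sylow_of hG hm R, hG, mul_comm] at h2
  have h3 := Nat.eq_of_mul_eq_mul_right (pow_pos hr.out.pos y) h2
  have h4 : (R : Subgroup G).index = m := h3
  rw [← h4]
  exact h1

end

end Cfsg.Agent.BT
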