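import Cfsg.Agent.BT.E2
import Cfsg.Agent.BR.IdentB

/-!
The case of inertial index two: `SL(2, 2^m)`.
-/

set_option autoImplicit false

open scoped ComplexConjugate

namespace Cfsg.Agent.BT

open Cfsg Subgroup Cfsg.Agent.BR
open Cfsg.Agent.CharBase (oneIrr)

universe u

section

variable {G : Type u} [Group G] [Fintype G] {p : ℕ} [hp : Fact p.Prime] {P : Subgroup G}
  (d : E2 p P)

include d

/-- the squaring identity. -/
theorem E2.sq_val {ψ : IrrCharacter G} (hψ : ψ ∈ d.st.B.Y) {g : G} (hg : ¬ p ∣ orderOf g) :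
    (ψ : G → ℂ) (g * g) = (ψ : G → ℂ) g ^ 2 - ((p : ℂ) - 3) * (ψ : G → ℂ) g := by
  classical
  have hp5 := d.hp5
  have hpp := hp.out
  -- the exponent `k`
  obtain ⟨m', hm'⟩ : ∃ m', Nat.card G = p * m' := ⟨_, by rw [d.st.card_G, mul_assoc]⟩
  have hcop : Nat.Coprime p m' := by
    rw [hpp.coprime_iff_not_dvd]
    intro h
    have h1 := d.st.hP.idx
    have h2 := P.card_mul_index
    rw [d.st.hP.card, hm'] at h2
    exact h1 (by rwa [Nat.eq_of_mul_eq_mul_left hpp.pos h2])
  obtain ⟨k, hk1, hk2⟩ := Nat.chineseRemainder hcop 2 1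
  have hkc : k.Coprime (Nat.card G) := by
    rw [hm']
    apply Nat.Coprime.mul_right
    · rw [Nat.coprime_comm, hpp.coprime_iff_not_dvd]
      intro h
      have h1 : 2 ≡ 0 [MOD p] := hk1.symm.trans (Nat.modEq_zero_iff_dvd.mpr h)
      have h2 := Nat.le_of_dvd (by norm_num) (Nat.modEq_zero_iff_dvd.mp h1)
      omega
    · have h1 : Nat.gcd k m' = Nat.gcd 1 m' := hk2.gcd_eq
      rw [Nat.Coprime, h1, Nat.gcd_one_left]
  have hirr := Char.isIrrCharacter_pow ψ.2 hkc
  let ψ' : IrrCharacter G := ⟨_, hirr⟩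
  have hψ'v : ∀ g, (ψ' : G → ℂ) g = (ψ : G → ℂ) (g ^ k) := fun g => rfl
  have hdg : dg ψ' = dg ψ := by
    have h3 : (ψ' : G → ℂ) 1 = (ψ : G → ℂ) 1 := by rw [hψ'v, one_pow]
    rw [dg_eq, dg_eq] at h3
    exact_mod_cast h3
  obtain ⟨χ, hχ, hχδ, hχd, hχv, hX, hχ1⟩ := d.exists_χ
  have hd := d.hdeg ψ hψ
  have h1dg : dg (oneIrr G) = 1 := by
    have : ((dg (oneIrr G) : ℕ) : ℂ) = 1 := by rw [← dg_eq, CharBase.oneIrr_apply]
    exact_mod_cast this
  have hψ' : ψ' ∈ d.st.B.Y := by
    rcases d.st.mem_or ψ' with h | h | h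
    · exfalso
      rw [hX, Finset.mem_insert, Finset.mem_singleton] at h
      rcases h with h | h
      · rw [h, h1dg] at hdg; omega
      · rw [h] at hdg; omega
    · exact h
    · exfalso
      rw [hdg] at h
      have := Nat.le_of_dvd (dg_pos ψ) h
      omega
  have hψ'P : ∀ x ∈ P, (ψ' : G → ℂ) x = (ψ : G → ℂ) (x * x) := by
    intro x hx
    rw [hψ'v, ← pow_two]
    congr 1
    by_cases hx1 : x = 1
    · rw [hx1, one_pow, one_pow]
    · have hkx : x ^ k = x ^ 2 := by
        rw [pow_eq_pow_iff_modEq, d.st.hP.orderOf_eq hx hx1]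
        exact hk1
      rw [hkx]
  -- the alternating square
  set A : G → ℂ := fun g => ((ψ : G → ℂ) g ^ 2 - (ψ : G → ℂ) (g * g)) / 2 with hAdef
  have hA : IsCharacter G A := alt2_isCharacter (CharBase.irr_isCharacter ψ)
  have hAP : ∀ x ∈ P, x ≠ 1 → A x = ((oneIrr G : G → ℂ) - (ψ' : G → ℂ)) x := by
    intro x hx hx1
    rw [Pi.sub_apply, CharBase.oneIrr_apply, hψ'P x hx, hAdef]
    have h1 := d.sq_add hψ hx hx1
    simp only
    linear_combination h1 / 2
  have hmult : ∀ ξ ∈ d.st.B.Y.erase ψ', classInner A (ξ : G → ℂ) ≠ 0 := by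
    intro ξ hξ
    rw [Finset.mem_erase] at hξ
    have hξc := CharBase.irr_isCharacter ξ
    have hψ'c := CharBase.irr_isCharacter ψ'
    have h1 : classInner ((ξ : G → ℂ) - (ψ' : G → ℂ)) A =
        classInner ((ξ : G → ℂ) - (ψ' : G → ℂ)) ((oneIrr G : G → ℂ) - (ψ' : G → ℂ)) := by
      refine d.st.inner_agree (CharBase.isClassFunction_sub (CharBase.irr_isClassFunction _)
        (CharBase.irr_isClassFunction _)) (CharBase.isClassFunction_of_isCharacter hA)
        (CharBase.isClassFunction_sub (CharBase.irr_isClassFunction _)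
          (CharBase.irr_isClassFunction _)) ?_ hAP
      intro g hg
      rw [Pi.sub_apply, d.st.B.Y_eq hξ.2 hψ' hg, sub_self]
    have hne1 : ξ ≠ oneIrr G := fun h => Finset.disjoint_left.mp d.st.B.disj
      (by rw [h]; exact d.st.B.one_mem) hξ.2
    have hne2 : ψ' ≠ oneIrr G := fun h => Finset.disjoint_left.mp d.st.B.disj
      (by rw [h]; exact d.st.B.one_mem) hψ'
    rw [CharBase.classInner_sub_left, CharBase.classInner_sub_left,
      CharBase.classInner_sub_right, CharBase.classInner_sub_right,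
      CharBase.classInner_irr_of_ne hne1, CharBase.classInner_irr_of_ne hne2,
      CharBase.classInner_irr_of_ne hξ.1, CharBase.classInner_irr_self] at h1
    obtain ⟨n, hn⟩ := CharBase.classInner_natCast hψ'c hA
    rw [hn] at h1
    rw [CharBase.classInner_comm_of_isCharacter hA hξc]
    intro h0
    rw [h0] at h1
    have h2 : ((n + 1 : ℕ) : ℂ) = 0 := by
      push_cast
      linear_combination -h1
    exact absurd h2 (by exact_mod_cast Nat.succ_ne_zero n)
  have hcY := d.cardY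
  have hA1 : A 1 = ∑ ξ ∈ d.st.B.Y.erase ψ', (ξ : G → ℂ) 1 := by
    rw [Finset.sum_congr rfl (fun ξ hξ => by
      rw [dg_eq, d.st.B.dg_Y (Finset.mem_of_mem_erase hξ) hψ]), Finset.sum_const,
      Finset.card_erase_of_mem hψ', nsmul_eq_mul, hAdef]
    simp only [mul_one]
    rw [dg_eq]
    obtain ⟨t, ht⟩ : ∃ t, d.st.B.Y.card = t + 1 := ⟨d.st.B.Y.card - 1, by omega⟩
    rw [ht]
    have h3 : dg ψ = 2 * t + 1 := by omega
    rw [h3]
    push_cast
    ring
  have hAeq := eq_sum_of_mult hA _ hmult hA1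
  have hval := congrFun hAeq g
  rw [Finset.sum_apply, Finset.sum_congr rfl (fun ξ hξ => by
      rw [d.st.B.Y_eq (Finset.mem_of_mem_erase hξ) hψ hg]), Finset.sum_const,
      Finset.card_erase_of_mem hψ', nsmul_eq_mul, hAdef] at hval
  simp only at hval
  have h4 : (((d.st.B.Y.card - 1 : ℕ) : ℂ)) = ((p : ℂ) - 3) / 2 := by
    obtain ⟨t, ht⟩ : ∃ t, d.st.B.Y.card = t + 1 := ⟨d.st.B.Y.card - 1, by omega⟩
    rw [ht, Nat.add_sub_cancel]
    have h5 : p = 2 * t + 3 := by omega
    rw [h5]; push_cast; ring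
  rw [h4] at hval
  linear_combination -2 * hval

/-- involutions. -/
theorem E2.val_inv {ψ : IrrCharacter G} (hψ : ψ ∈ d.st.B.Y) {u : G} (hu : orderOf u = 2) :
    (ψ : G → ℂ) u = -1 := by
  have hp5 := d.hp5
  have hreg : ¬ p ∣ orderOf u := by
    rw [hu]
    intro h
    have := Nat.le_of_dvd (by norm_num) h
    omega
  have h1 := d.sq_val hψ hreg
  have h2 : u * u = 1 := by
    have := pow_orderOf_eq_one u
    rwa [hu, pow_two] at this
  have hd := d.hdeg ψ hψ
  have h3 : (ψ : G → ℂ) 1 = (p : ℂ) - 2 := by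
    rw [dg_eq, ← hd]; push_cast; ring
  rw [h2, h3] at h1
  have h4 : ((ψ : G → ℂ) u + 1) * ((ψ : G → ℂ) u - ((p : ℂ) - 2)) = 0 := by
    linear_combination -h1
  rcases mul_eq_zero.mp h4 with h | h
  · linear_combination h
  · exfalso
    have h5 : (ψ : G → ℂ) u = (ψ : G → ℂ) 1 := by rw [h3]; linear_combination h
    have h6 := d.faithful ψ hψ u h5
    rw [h6, orderOf_one] at hu
    norm_num at hu

/-- an element with `ψ g = -1` has order at most two. -/
theorem E2.sq_eq_one {ψ : IrrCharacter G} (hψ : ψ ∈ d.st.B.Y) {g : G} (hg : ¬ p ∣ orderOf g)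
    (h : (ψ : G → ℂ) g = -1) : g * g = 1 := by
  apply d.faithful ψ hψ
  rw [d.sq_val hψ hg, h, dg_eq]
  have hd := d.hdeg ψ hψ
  have h3 : (dg ψ : ℂ) = (p : ℂ) - 2 := by
    rw [← hd]; push_cast; ring
  rw [h3]; ring

/-- every involution is conjugate to an element of `N ∖ P`. -/
theorem E2.isConj_inv {u : G} (hu : orderOf u = 2) :
    ∃ τ ∈ normalizer (P : Set G), τ ∉ P ∧ IsConj u τ := by
  classical
  have := Fintype.ofFinite (IrrCharacter G)
  obtain ⟨x, hx, hx1⟩ := exists_ne_one d.st.hP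
  obtain ⟨ψ, hψ⟩ := d.st.exists_Y
  obtain ⟨χ, hχ, hχδ, hχd, hχv, hX, hχ1⟩ := d.exists_χ
  have hp5 := d.hp5
  have hreg : ¬ p ∣ orderOf u := by
    rw [hu]
    intro h
    have := Nat.le_of_dvd (by norm_num) h
    omega
  have h1 := d.st.card_pairs hreg hreg hx hx1 hψ
  have hψu := d.val_inv hψ hu
  have hχu : (χ : G → ℂ) u = 0 := by rw [hχv u hreg ψ hψ, hψu]; ring
  have hd := d.hdeg ψ hψ
  have h1dg : (dg (oneIrr G) : ℂ) = 1 := by rw [← dg_eq, CharBase.oneIrr_apply]
  rw [hX, Finset.sum_pair hχ1.symm, hχu, hψu, d.hδ, d.st.B.δ_one d.st.hP, CharBase.oneIrr_apply,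
    h1dg] at h1
  have h2 : (Finset.univ.filter (fun q : G × G =>
      q.1 * u * q.1⁻¹ * (q.2 * u * q.2⁻¹) = x)).card ≠ 0 := by
    intro h0
    rw [h0] at h1
    have h3 : (Nat.card G : ℂ) ≠ 0 := by exact_mod_cast Nat.card_pos.ne'
    have h4 : (dg ψ : ℂ) ≠ 0 := by exact_mod_cast (dg_pos ψ).ne'
    have h5 : (1 : ℂ) + 1 / (dg ψ : ℂ) = 0 := by
      have h6 : (Nat.card G : ℂ) * (1 + 1 / (dg ψ : ℂ)) = 0 := by
        rw [Nat.cast_zero] at h1
        rw [h1]
        push_cast
        ring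
      exact (mul_eq_zero.mp h6).resolve_left h3
    have h6 : ((dg ψ + 1 : ℕ) : ℂ) = 0 := by
      push_cast
      field_simp at h5
      linear_combination h5
    exact (Nat.cast_ne_zero (R := ℂ)).mpr (Nat.succ_ne_zero (dg ψ)) h6
  obtain ⟨q, hq⟩ := Finset.card_ne_zero.mp h2
  rw [Finset.mem_filter] at hq
  obtain ⟨-, hq⟩ := hq
  set u1 := q.1 * u * q.1⁻¹ with hu1
  set u2 := q.2 * u * q.2⁻¹ with hu2
  have huu : u * u = 1 := by
    have := pow_orderOf_eq_one u
    rwa [hu, pow_two] at this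
  have h11 : u1 * u1 = 1 := by
    rw [hu1]
    calc q.1 * u * q.1⁻¹ * (q.1 * u * q.1⁻¹) = q.1 * (u * u) * q.1⁻¹ := by group
      _ = 1 := by rw [huu]; group
  have h22 : u2 * u2 = 1 := by
    rw [hu2]
    calc q.2 * u * q.2⁻¹ * (q.2 * u * q.2⁻¹) = q.2 * (u * u) * q.2⁻¹ := by group
      _ = 1 := by rw [huu]; group
  have hi1 : u1⁻¹ = u1 := inv_eq_of_mul_eq_one_right h11
  have hi2 : u2⁻¹ = u2 := inv_eq_of_mul_eq_one_right h22
  have hinv : u1 * x * u1⁻¹ = x⁻¹ := by
    rw [← hq]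
    calc u1 * (u1 * u2) * u1⁻¹ = (u1 * u1) * (u2 * u1⁻¹) := by group
      _ = u2⁻¹ * u1⁻¹ := by rw [h11, one_mul, hi2]
      _ = (u1 * u2)⁻¹ := (mul_inv_rev _ _).symm
  obtain ⟨ha, hb⟩ := d.mem_of_invert hx hx1 hinv
  exact ⟨u1, ha, hb, isConj_iff.mpr ⟨q.1, rfl⟩⟩

theorem E2.isConj_of {u v : G} (hu : orderOf u = 2) (hv : orderOf v = 2) : IsConj u v := by
  obtain ⟨a, ha, ha', h1⟩ := d.isConj_inv hu
  obtain ⟨b, hb, hb', h2⟩ := d.isConj_inv hv
  exact h1.trans ((d.conj_of ha ha' hb hb').trans h2.symm)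

/-- **the order formula**. -/
theorem E2.order {τ : G} (hτ : τ ∈ normalizer (P : Set G)) (hτP : τ ∉ P) :
    p * (p - 2) * (Nat.card (centralizer ({τ} : Set G))) ^ 2 = Nat.card G * (p - 1) := by
  classical
  have := Fintype.ofFinite (IrrCharacter G)
  have hτ2 := d.orderOf_τ hτ hτP
  obtain ⟨x, hx, hx1⟩ := exists_ne_one d.st.hP
  obtain ⟨ψ, hψ⟩ := d.st.exists_Y
  obtain ⟨χ, hχ, hχδ, hχd, hχv, hX, hχ1⟩ := d.exists_χ
  have hp5 := d.hp5
  have hreg : ¬ p ∣ orderOf τ := by
    rw [hτ2]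
    intro h
    have := Nat.le_of_dvd (by norm_num) h
    omega
  have h1 := d.st.card_pairs hreg hreg hx hx1 hψ
  have hψu := d.val_inv hψ hτ2
  have hχu : (χ : G → ℂ) τ = 0 := by rw [hχv τ hreg ψ hψ, hψu]; ring
  have hd := d.hdeg ψ hψ
  have h1dg : (dg (oneIrr G) : ℂ) = 1 := by rw [← dg_eq, CharBase.oneIrr_apply]
  rw [hX, Finset.sum_pair hχ1.symm, hχu, hψu, d.hδ, d.st.B.δ_one d.st.hP, CharBase.oneIrr_apply,
    h1dg] at h1
  set D := Nat.card (centralizer ({τ} : Set G)) with hD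
  -- the count
  have h2 : (Finset.univ.filter (fun q : G × G =>
      q.1 * τ * q.1⁻¹ * (q.2 * τ * q.2⁻¹) = x)).card = p * D * D := by
    have e1 : (Finset.univ.filter (fun q : G × G =>
        q.1 * τ * q.1⁻¹ * (q.2 * τ * q.2⁻¹) = x)).card =
        ∑ a : G, (Finset.univ.filter (fun b : G => a * τ * a⁻¹ * (b * τ * b⁻¹) = x)).card := by
      rw [Finset.card_filter, Fintype.sum_prod_type]
      refine Finset.sum_congr rfl fun a _ => ?_
      rw [Finset.card_filter]
    have e2 : ∀ a : G, (Finset.univ.filter (fun b : G => a * τ * a⁻¹ * (b * τ * b⁻¹) = x)).card =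
        if a * τ * a⁻¹ ∈ normalizer (P : Set G) ∧ a * τ * a⁻¹ ∉ P then D else 0 := by
      intro a
      have hττ := d.inv_of hτ hτP
      have haa : a * τ * a⁻¹ * (a * τ * a⁻¹) = 1 := by
        calc a * τ * a⁻¹ * (a * τ * a⁻¹) = a * (τ * τ) * a⁻¹ := by group
          _ = 1 := by rw [hττ]; group
      have hai : (a * τ * a⁻¹)⁻¹ = a * τ * a⁻¹ := inv_eq_of_mul_eq_one_right haa
      split_ifs with hc
      · -- `b τ b⁻¹ = (a τ a⁻¹) x`
        have hx' : a * τ * a⁻¹ * x ∈ normalizer (P : Set G) :=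
          Subgroup.mul_mem _ hc.1 (Subgroup.le_normalizer hx)
        have hx'' : a * τ * a⁻¹ * x ∉ P := by
          intro h
          apply hc.2
          have : a * τ * a⁻¹ = a * τ * a⁻¹ * x * x⁻¹ := by group
          rw [this]
          exact P.mul_mem h (P.inv_mem hx)
        rw [hD, ← card_conj_to (d.conj_of hτ hτP hx' hx'')]
        congr 1
        ext b
        rw [Finset.mem_filter, Finset.mem_filter]
        constructor
        · rintro ⟨-, h⟩
          refine ⟨Finset.mem_univ _, ?_⟩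
          rw [← h, ← mul_assoc, haa, one_mul]
        · rintro ⟨-, h⟩
          refine ⟨Finset.mem_univ _, ?_⟩
          rw [h, ← mul_assoc, haa, one_mul]
      · rw [Finset.card_eq_zero, Finset.filter_eq_empty_iff]
        intro b _ h
        apply hc
        have hbb : b * τ * b⁻¹ * (b * τ * b⁻¹) = 1 := by
          calc b * τ * b⁻¹ * (b * τ * b⁻¹) = b * (τ * τ) * b⁻¹ := by group
            _ = 1 := by rw [hττ]; group
        have hbi : (b * τ * b⁻¹)⁻¹ = b * τ * b⁻¹ := inv_eq_of_mul_eq_one_right hbb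
        refine d.mem_of_invert hx hx1 ?_
        rw [← h]
        calc a * τ * a⁻¹ * (a * τ * a⁻¹ * (b * τ * b⁻¹)) * (a * τ * a⁻¹)⁻¹
            = (a * τ * a⁻¹ * (a * τ * a⁻¹)) * (b * τ * b⁻¹) * (a * τ * a⁻¹)⁻¹ := by group
          _ = (b * τ * b⁻¹)⁻¹ * (a * τ * a⁻¹)⁻¹ := by rw [haa, one_mul, hbi]
          _ = (a * τ * a⁻¹ * (b * τ * b⁻¹))⁻¹ := (mul_inv_rev _ _).symm
    rw [e1, Finset.sum_congr rfl (fun a _ => e2 a), ← Finset.sum_filter, Finset.sum_const,
      smul_eq_mul]
    congr 1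
    -- number of `a`
    have e3 : (Finset.univ.filter (fun a : G => a * τ * a⁻¹ ∈ normalizer (P : Set G) ∧
        a * τ * a⁻¹ ∉ P)).card = ∑ w ∈ Finset.univ.filter (fun w : G =>
          w ∈ normalizer (P : Set G) ∧ w ∉ P),
          (Finset.univ.filter (fun a : G => a * τ * a⁻¹ = w)).card := by
      rw [Finset.card_eq_sum_card_fiberwise (f := fun a : G => a * τ * a⁻¹)
        (t := Finset.univ.filter (fun w : G => w ∈ normalizer (P : Set G) ∧ w ∉ P))]
      · refine Finset.sum_congr rfl fun w hw => ?_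
        congr 1
        ext a
        rw [Finset.mem_filter, Finset.mem_filter, Finset.mem_filter]
        constructor
        · rintro ⟨-, h⟩; exact ⟨Finset.mem_univ _, h⟩
        · rintro ⟨-, h⟩
          refine ⟨⟨Finset.mem_univ _, ?_⟩, h⟩
          rw [h]
          exact (Finset.mem_filter.mp hw).2
      · intro a ha
        rw [Finset.mem_coe, Finset.mem_filter] at ha
        rw [Finset.mem_coe, Finset.mem_filter]
        exact ⟨Finset.mem_univ _, ha.2⟩
    have e4 : (Finset.univ.filter (fun w : G => w ∈ normalizer (P : Set G) ∧ w ∉ P)).card = p := by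
      have e5 : (Finset.univ.filter (fun w : G => w ∈ normalizer (P : Set G))).card = p * 2 := by
        rw [← d.card_N, Nat.card_eq_fintype_card, Fintype.card_subtype]
      have e6 : (Finset.univ.filter (fun w : G => w ∈ P)).card = p := by
        have := d.st.hP.card
        rw [Nat.card_eq_fintype_card, Fintype.card_subtype] at this
        exact this
      have e7 : (Finset.univ.filter (fun w : G => w ∈ normalizer (P : Set G) ∧ w ∉ P)) =
          (Finset.univ.filter (fun w : G => w ∈ normalizer (P : Set G))) \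
          (Finset.univ.filter (fun w : G => w ∈ P)) := by
        ext w
        rw [Finset.mem_sdiff, Finset.mem_filter, Finset.mem_filter, Finset.mem_filter]
        tauto
      rw [e7, Finset.card_sdiff_of_subset, e5, e6]
      · omega
      · intro w hw
        rw [Finset.mem_filter] at hw ⊢
        exact ⟨Finset.mem_univ _, Subgroup.le_normalizer hw.2⟩
    rw [e3, Finset.sum_congr rfl (g := fun _ => D), Finset.sum_const, e4, smul_eq_mul]
    intro w hw
    rw [Finset.mem_filter] at hw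
    exact card_conj_to (d.conj_of hτ hτP hw.2.1 hw.2.2)
  rw [h2] at h1
  have h4 : (dg ψ : ℂ) ≠ 0 := by exact_mod_cast (dg_pos ψ).ne'
  obtain ⟨q, hq⟩ : ∃ q, p = q + 2 := ⟨p - 2, by omega⟩
  have hdq : dg ψ = q := by omega
  have e1 : p - 2 = q := by omega
  have e2 : p - 1 = q + 1 := by omega
  rw [hdq] at h1 h4
  rw [e1, e2]
  have h5 : ((p * D * D * q : ℕ) : ℂ) = ((Nat.card G * (q + 1) : ℕ) : ℂ) := by
    push_cast at h1 ⊢
    rw [h1]
    field_simp
    ring
  have h6 : p * D * D * q = Nat.card G * (q + 1) := by exact_mod_cast h5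
  rw [← h6]; ring

/-- **Inertial index two**: `SL(2, 2^m)`. -/
theorem E2.ident_full : ∃ (m : ℕ) (F : Type) (_ : Field F) (_ : Fintype F) (τ : G), 2 ≤ m ∧
      p = 2 ^ m + 1 ∧ Fintype.card F = 2 ^ m ∧
      Nonempty (G ≃* Matrix.SpecialLinearGroup (Fin 2) F) ∧
      orderOf τ = 2 ∧ Nat.card (centralizer ({τ} : Set G)) = 2 ^ m ∧
      (∀ s ∈ centralizer ({τ} : Set G), s * s = 1) ∧
      Nat.card G = (2 ^ m + 1) * 2 ^ m * (2 ^ m - 1) := by
  classical
  have hp5 := d.hp5
  have hpp := hp.out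
  obtain ⟨τ, hτ, hτP⟩ := d.exists_τ
  have hτ2 := d.orderOf_τ hτ hτP
  have hord := d.order hτ hτP
  set D := Nat.card (centralizer ({τ} : Set G)) with hD
  obtain ⟨ψ, hψ⟩ := d.st.exists_Y
  obtain ⟨χ, hχ, hχδ, hχd, hχv, hX, hχ1⟩ := d.exists_χ
  have hDpos : 0 < D := Nat.card_pos
  -- `p` does not divide `D`
  have hpD : ¬ p ∣ D := by
    intro h
    obtain ⟨y, hy⟩ := exists_prime_orderOf_dvd_card' p h
    have hy' : orderOf (y : G) = p := by rw [Subgroup.orderOf_coe]; exact hy
    obtain ⟨c, hc⟩ := d.st.hP.exists_conj hy'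
    have hc1 : c⁻¹ * (y : G) * c ≠ 1 := by
      intro h1
      have : (y : G) = c * (c⁻¹ * (y : G) * c) * c⁻¹ := by group
      rw [h1] at this
      have h2 : (y : G) = 1 := by rw [this]; group
      rw [h2, orderOf_one] at hy'
      exact hpp.one_lt.ne hy'
    have hcomm := Subgroup.mem_centralizer_iff.mp y.2 τ (Set.mem_singleton τ)
    have h3 : c⁻¹ * τ * c ∈ P := by
      refine mem_P_of_comm d.st.hP d.st.hC hc hc1 ?_
      calc c⁻¹ * (y : G) * c * (c⁻¹ * τ * c) = c⁻¹ * (y * τ) * c := by group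
        _ = c⁻¹ * (τ * y) * c := by rw [hcomm]
        _ = _ := by group
    have h4 : c⁻¹ * τ * c ≠ 1 := by
      intro h1
      have h5 : τ = c * (c⁻¹ * τ * c) * c⁻¹ := by group
      rw [h1] at h5
      have h2 : τ = 1 := by rw [h5]; group
      exact hτP (by rw [h2]; exact P.one_mem)
    have h5 := d.st.hP.orderOf_eq h3 h4
    have h6 : c⁻¹ * τ * c = MulAut.conj c⁻¹ τ := by simp
    rw [h6, MulEquiv.orderOf_eq, hτ2] at h5
    omega
  -- `p - 1` divides `D`
  have hdvd : (p - 1) ∣ D := by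
    have h1 : D ∣ Nat.card G := Subgroup.card_subgroup_dvd_card _
    obtain ⟨m', hm'⟩ : ∃ m', Nat.card G = p * m' := ⟨_, by rw [d.st.card_G, mul_assoc]⟩
    rw [hm'] at h1 hord
    have h2 : D ∣ m' := ((hpp.coprime_iff_not_dvd.mpr hpD).symm).dvd_of_dvd_mul_left h1
    obtain ⟨l, rfl⟩ := h2
    have h3 : (p - 2) * D = l * (p - 1) := by
      have h4 : (p * D) * ((p - 2) * D) = (p * D) * (l * (p - 1)) := by
        calc (p * D) * ((p - 2) * D) = p * (p - 2) * D ^ 2 := by ring
          _ = p * (D * l) * (p - 1) := hord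
          _ = _ := by ring
      exact Nat.eq_of_mul_eq_mul_left (Nat.mul_pos hpp.pos hDpos) h4
    have h5 : (p - 1) ∣ (p - 2) * D := by rw [h3]; exact Dvd.intro_left l rfl
    have h6 : Nat.Coprime (p - 1) (p - 2) := by
      have : p - 1 = (p - 2) + 1 := by omega
      rw [this]
      simp
    exact h6.dvd_of_dvd_mul_left h5
  -- the 2-part
  obtain ⟨S⟩ : Nonempty (Sylow 2 G) := inferInstance
  have hf2 : Fact (Nat.Prime 2) := ⟨Nat.prime_two⟩
  obtain ⟨a, ha⟩ := (IsPGroup.iff_card (p := 2)).mp S.2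
  have h2G : 2 ∣ Nat.card G := by
    rw [← hτ2]; exact orderOf_dvd_natCard τ
  have haG : ¬ 2 ^ (a + 1) ∣ Nat.card G := by
    intro h
    have h1 := (S : Subgroup G).card_mul_index
    rw [ha] at h1
    rw [← h1, pow_succ] at h
    exact S.not_dvd_index (Nat.dvd_of_mul_dvd_mul_left (by positivity) h)
  have haD : 2 ^ a ∣ D := by
    -- a central involution of `S`
    have hnt : Nontrivial S := by
      rw [← Finite.one_lt_card_iff_nontrivial, ha]
      rcases Nat.eq_zero_or_pos a with h0 | h0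
      · exfalso
        rw [h0, zero_add, pow_one] at haG
        exact haG h2G
      · exact Nat.one_lt_two_pow h0.ne'
    have hcn : Nontrivial (center S) := S.2.center_nontrivial
    have h2c : 2 ∣ Nat.card (center S) := by
      have hpc : IsPGroup 2 (center S) := S.2.to_subgroup _
      obtain ⟨c, hc⟩ := (IsPGroup.iff_card (p := 2)).mp hpc
      have : 1 < Nat.card (center S) := Finite.one_lt_card
      rw [hc] at this ⊢
      exact dvd_pow_self 2 (by rintro rfl; simp at this)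
    obtain ⟨z, hz⟩ := exists_prime_orderOf_dvd_card' 2 h2c
    have hz' : orderOf ((z : S) : G) = 2 := by
      rw [Subgroup.orderOf_coe, Subgroup.orderOf_coe]; exact hz
    have h1 : (S : Subgroup G) ≤ centralizer ({((z : S) : G)} : Set G) := by
      intro s hs
      rw [Subgroup.mem_centralizer_iff]
      intro y hy
      rw [Set.mem_singleton_iff.mp hy]
      have := Subgroup.mem_center_iff.mp z.2 ⟨s, hs⟩
      exact (congrArg Subtype.val this).symm
    have h2 := Subgroup.card_dvd_of_le h1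
    have h3 : Nat.card (centralizer ({((z : S) : G)} : Set G)) = D :=
      card_centralizer_of_isConj (d.isConj_of hz' hτ2)
    rw [h3] at h2
    rw [← ha]
    exact h2
  have hDG : D ∣ Nat.card G := Subgroup.card_subgroup_dvd_card _
  -- `2 ^ a` divides `p - 1`
  have hap : 2 ^ a ∣ p - 1 := by
    obtain ⟨c, hc⟩ := haD
    obtain ⟨g', hg'⟩ : 2 ^ a ∣ Nat.card G := by
      rw [← ha]; exact Subgroup.card_subgroup_dvd_card _
    have h1 : ¬ 2 ∣ g' := by
      intro h
      apply haG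
      rw [hg', pow_succ]
      exact Nat.mul_dvd_mul_left _ h
    have h2 : p * (p - 2) * (2 ^ a * c ^ 2) = g' * (p - 1) := by
      have h3 : 2 ^ a * (p * (p - 2) * (2 ^ a * c ^ 2)) = 2 ^ a * (g' * (p - 1)) := by
        calc 2 ^ a * (p * (p - 2) * (2 ^ a * c ^ 2)) = p * (p - 2) * (2 ^ a * c) ^ 2 := by ring
          _ = p * (p - 2) * D ^ 2 := by rw [hc]
          _ = Nat.card G * (p - 1) := hord
          _ = 2 ^ a * g' * (p - 1) := by rw [hg']
          _ = _ := by ring
      exact Nat.eq_of_mul_eq_mul_left (by positivity) h3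
    have h4 : 2 ^ a ∣ g' * (p - 1) := by
      rw [← h2]
      exact ⟨p * (p - 2) * c ^ 2, by ring⟩
    have h5 : Nat.Coprime (2 ^ a) g' :=
      Nat.Coprime.pow_left _ ((Nat.prime_two.coprime_iff_not_dvd).mpr h1)
    exact h5.dvd_of_dvd_mul_left h4
  -- `χ` vanishes on 2-singular elements
  have hχ0 : ∀ g : G, 2 ∣ orderOf g → (χ : G → ℂ) g = 0 := by
    intro g hg
    refine Char.DZ.eq_zero_of_defect_zero 2 a Nat.prime_two haG χ.2 (dg_eq χ) ?_ g hg
    have : dg χ = p - 1 := by omega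
    rw [this]
    exact hap
  have hψ0 : ∀ g : G, ¬ p ∣ orderOf g → 2 ∣ orderOf g → g * g = 1 := by
    intro g hg h2
    refine d.sq_eq_one hψ hg ?_
    have h1 := hχv g hg ψ hψ
    rw [hχ0 g h2] at h1
    linear_combination -h1
  -- all elements of `C(τ)` square to one
  have hDelt : ∀ g ∈ centralizer ({τ} : Set G), g * g = 1 := by
    intro g hg
    have hgo : orderOf g ∣ D := by
      have := orderOf_dvd_natCard (⟨g, hg⟩ : centralizer ({τ} : Set G))
      rwa [Subgroup.orderOf_mk] at this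
    have hgp : ¬ p ∣ orderOf g := fun h => hpD (h.trans hgo)
    by_cases h2 : 2 ∣ orderOf g
    · exact hψ0 g hgp h2
    · -- `τ g`
      have hc : Commute τ g := Subgroup.mem_centralizer_iff.mp hg τ (Set.mem_singleton τ)
      have hcop : (orderOf τ).Coprime (orderOf g) := by
        rw [hτ2]; exact (Nat.prime_two.coprime_iff_not_dvd).mpr h2
      have ho := hc.orderOf_mul_eq_mul_orderOf_of_coprime hcop
      have h3 := hψ0 (τ * g) (by
        rw [ho, hτ2, hpp.dvd_mul, not_or]
        refine ⟨fun h => ?_, hgp⟩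
        have := Nat.le_of_dvd (by norm_num) h
        omega) (by rw [ho, hτ2]; exact Dvd.intro _ rfl)
      have hττ := d.inv_of hτ hτP
      calc g * g = (τ * τ) * (g * g) := by rw [hττ, one_mul]
        _ = τ * (τ * g) * g := by group
        _ = τ * (g * τ) * g := by rw [hc.eq]
        _ = (τ * g) * (τ * g) := by group
        _ = 1 := h3
  have hD2 : IsPGroup 2 (centralizer ({τ} : Set G)) := by
    intro g
    refine ⟨1, ?_⟩
    apply Subtype.ext
    rw [pow_one, Subgroup.coe_pow, pow_two]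
    exact hDelt g g.2
  obtain ⟨m, hm⟩ := (IsPGroup.iff_card (p := 2)).mp hD2
  have hma : m = a := by
    have h1 : 2 ^ m ∣ Nat.card G := by rw [← hm]; exact hDG
    have h2 : m ≤ a := by
      by_contra hcon
      exact haG ((Nat.pow_dvd_pow 2 (by omega)).trans h1)
    have h3 : 2 ^ a ∣ 2 ^ m := by rw [← hm]; exact haD
    have h4 : a ≤ m := (Nat.pow_dvd_pow_iff_le_right (by norm_num)).mp h3
    omega
  have hDm : D = 2 ^ m := hm
  have hpm : p - 1 = 2 ^ m := by
    apply Nat.dvd_antisymm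
    · rw [← hDm]; exact hdvd
    · rw [hma]; exact hap
  have hm2 : 2 ≤ m := by
    by_contra hlt
    have : m = 0 ∨ m = 1 := by omega
    rcases this with h | h
    · rw [h, pow_zero] at hpm; omega
    · rw [h, pow_one] at hpm; omega
  have hcardG : Nat.card G = (2 ^ m + 1) * 2 ^ m * (2 ^ m - 1) := by
    rw [hDm, ← hpm] at hord
    have h1 : Nat.card G = p * (p - 2) * (p - 1) := by
      have h2 : Nat.card G * (p - 1) = p * (p - 2) * (p - 1) * (p - 1) := by
        rw [← hord]; ring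
      exact Nat.eq_of_mul_eq_mul_right (by omega) h2
    rw [h1, ← hpm]
    have e1 : p - 1 + 1 = p := by omega
    have e2 : p - 1 - 1 = p - 2 := by omega
    rw [e1, e2]; ring
  have ho : ∀ s ∈ centralizer ({τ} : Set G), s ≠ 1 → orderOf s = 2 := by
    intro s hs hs1
    apply orderOf_eq_prime
    · rw [pow_two]; exact hDelt s hs
    · exact hs1
  have hcomm : ∀ s ∈ centralizer ({τ} : Set G), ∀ t ∈ centralizer ({τ} : Set G), s * t = t * s := by
    intro s hs t ht
    have h1 := hDelt s hs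
    have h2 := hDelt t ht
    have h3 := hDelt (s * t) (Subgroup.mul_mem _ hs ht)
    have h4 : s⁻¹ = s := inv_eq_of_mul_eq_one_right h1
    have h5 : t⁻¹ = t := inv_eq_of_mul_eq_one_right h2
    have h6 : (s * t)⁻¹ = s * t := inv_eq_of_mul_eq_one_right h3
    rw [← h6, mul_inv_rev, h4, h5]
  have hτmem : τ ∈ centralizer ({τ} : Set G) := by
    rw [Subgroup.mem_centralizer_iff]
    intro y hy
    rw [Set.mem_singleton_iff.mp hy]
  obtain ⟨F, hF, hF', hFc, hiso⟩ := ident_sl (S := centralizer ({τ} : Set G)) hm2 hm hcardG ho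
    (by
      intro s hs hs1
      symm
      apply Subgroup.eq_of_le_of_card_ge
      · intro t ht
        rw [Subgroup.mem_centralizer_iff]
        intro y hy
        rw [Set.mem_singleton_iff.mp hy]
        exact hcomm s hs t ht
      · rw [card_centralizer_of_isConj (d.isConj_of (ho s hs hs1) hτ2)])
    (by
      intro g hg
      obtain ⟨c, hc⟩ := isConj_iff.mp (d.isConj_of hg hτ2)
      refine ⟨c⁻¹, ?_⟩
      rw [inv_inv, hc]
      exact hτmem)
    (by
      have h1 : BR.Inv G = Finset.univ.filter (fun x : G => IsConj τ x) := by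
        ext g
        unfold BR.Inv
        rw [Finset.mem_filter, Finset.mem_filter]
        constructor
        · rintro ⟨-, hg⟩
          exact ⟨Finset.mem_univ _, d.isConj_of hτ2 hg⟩
        · rintro ⟨-, hg⟩
          obtain ⟨x, hx⟩ := isConj_iff.mp hg
          refine ⟨Finset.mem_univ _, ?_⟩
          have : g = MulAut.conj x τ := by rw [← hx]; simp
          rw [this, MulEquiv.orderOf_eq, hτ2]
      rw [h1, CharBase.card_filter_isConj, Subgroup.index_mul_card])
  exact ⟨m, F, hF, hF', τ, hm2, by omega, hFc, hiso, hτ2, hDm, hDelt, hcardG⟩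

theorem E2.ident : ∃ (m : ℕ) (F : Type) (_ : Field F) (_ : Fintype F), 2 ≤ m ∧ p = 2 ^ m + 1 ∧
      Fintype.card F = 2 ^ m ∧ Nonempty (G ≃* Matrix.SpecialLinearGroup (Fin 2) F) := by
  obtain ⟨m, F, hF, hF', τ, h1, h2, h3, h4, -⟩ := d.ident_full
  exact ⟨m, F, hF, hF', h1, h2, h3, h4⟩

end

end Cfsg.Agent.BT
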