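import Cfsg.Agent.BT.Base
import Cfsg.Agent.Char.DefectZero

/-!
Groups with a self-centralizing Sylow `p`-subgroup of order `p`, inertial index two and faithful
exceptional characters of degree `p - 2`.
-/

set_option autoImplicit false

open scoped ComplexConjugate

namespace Cfsg.Agent.BT

open Cfsg Subgroup Cfsg.Agent.BR
open Cfsg.Agent.CharBase (oneIrr)

universe u

section Gen

variable {G : Type u} [Group G] [Fintype G]

/-- number of conjugating elements. -/
theorem card_conj_to [DecidableEq G] {g u : G} (h : IsConj g u) :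
    (Finset.univ.filter (fun q : G => q * g * q⁻¹ = u)).card =
      Nat.card (centralizer ({g} : Set G)) := by
  classical
  obtain ⟨c, hc⟩ := isConj_iff.mp h
  rw [Nat.card_eq_fintype_card, Fintype.card_subtype]
  refine Finset.card_bij (fun q _ => c⁻¹ * q) ?_ ?_ ?_
  · intro q hq
    rw [Finset.mem_filter] at hq ⊢
    refine ⟨Finset.mem_univ _, ?_⟩
    rw [Subgroup.mem_centralizer_iff]
    intro y hy
    rw [Set.mem_singleton_iff.mp hy]
    have h1 : g = c⁻¹ * (q * g * q⁻¹) * c := by rw [hq.2, ← hc]; group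
    calc g * (c⁻¹ * q) = (c⁻¹ * (q * g * q⁻¹) * c) * (c⁻¹ * q) := by rw [← h1]
      _ = c⁻¹ * q * g := by group
  · intro a _ b _ hab
    exact mul_left_cancel hab
  · intro q hq
    rw [Finset.mem_filter] at hq
    have h1 := Subgroup.mem_centralizer_iff.mp hq.2 g (Set.mem_singleton g)
    refine ⟨c * q, ?_, by group⟩
    rw [Finset.mem_filter]
    refine ⟨Finset.mem_univ _, ?_⟩
    calc c * q * g * (c * q)⁻¹ = c * (q * g) * q⁻¹ * c⁻¹ := by group
      _ = c * (g * q) * q⁻¹ * c⁻¹ := by rw [h1]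
      _ = c * g * c⁻¹ := by group
      _ = u := hc

theorem card_centralizer_of_isConj {g u : G} (h : IsConj g u) :
    Nat.card (centralizer ({g} : Set G)) = Nat.card (centralizer ({u} : Set G)) := by
  classical
  obtain ⟨c, hc⟩ := isConj_iff.mp h
  refine Nat.card_congr (MulEquiv.toEquiv ((centralizer ({g} : Set G)).equivMapOfInjective
    (MulAut.conj c).toMonoidHom (MulAut.conj c).injective) |>.trans (Equiv.setCongr ?_))
  ext y
  change y ∈ (centralizer ({g} : Set G)).map (MulAut.conj c).toMonoidHom ↔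
    y ∈ centralizer ({u} : Set G)
  rw [Subgroup.mem_map, Subgroup.mem_centralizer_iff]
  constructor
  · rintro ⟨z, hz, rfl⟩ w hw
    rw [Set.mem_singleton_iff.mp hw, ← hc]
    have h1 := Subgroup.mem_centralizer_iff.mp hz g (Set.mem_singleton g)
    simp only [MulEquiv.coe_toMonoidHom, MulAut.conj_apply]
    calc c * g * c⁻¹ * (c * z * c⁻¹) = c * (g * z) * c⁻¹ := by group
      _ = c * (z * g) * c⁻¹ := by rw [h1]
      _ = _ := by group
  · intro hy
    refine ⟨c⁻¹ * y * c, ?_, by simp; group⟩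
    rw [Subgroup.mem_centralizer_iff]
    intro w hw
    rw [Set.mem_singleton_iff.mp hw]
    have h1 := hy u (Set.mem_singleton u)
    rw [← hc] at h1
    calc g * (c⁻¹ * y * c) = c⁻¹ * (c * g * c⁻¹ * y) * c := by group
      _ = c⁻¹ * (y * (c * g * c⁻¹)) * c := by rw [h1]
      _ = c⁻¹ * y * c * g := by group

/-- a character whose degree is exhausted by a set of constituents. -/
theorem eq_sum_of_mult {A : G → ℂ} (hA : IsCharacter G A) (S : Finset (IrrCharacter G))
    (hS : ∀ ξ ∈ S, classInner A (ξ : G → ℂ) ≠ 0) (hd : A 1 = ∑ ξ ∈ S, (ξ : G → ℂ) 1) :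
    A = ∑ ξ ∈ S, (ξ : G → ℂ) := by
  classical
  have := Fintype.ofFinite (IrrCharacter G)
  obtain ⟨m, hm, hsum⟩ := CharBase.exists_mult_of_isCharacter hA
  have h1 : ∀ ξ ∈ S, 1 ≤ m ξ := by
    intro ξ hξ
    rcases Nat.eq_zero_or_pos (m ξ) with h | h
    · exfalso
      apply hS ξ hξ
      rw [hm, h, Nat.cast_zero]
    · exact h
  have h2 : ∑ ξ : IrrCharacter G, m ξ * dg ξ = ∑ ξ ∈ S, dg ξ := by
    have h3 := congrFun hsum 1
    rw [Finset.sum_apply, hd] at h3
    simp only [Pi.smul_apply, dg_eq, nsmul_eq_mul] at h3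
    have h4 : ((∑ ξ ∈ S, dg ξ : ℕ) : ℂ) = ((∑ ξ : IrrCharacter G, m ξ * dg ξ : ℕ) : ℂ) := by
      push_cast
      exact h3
    exact_mod_cast h4.symm
  have h3 : ∑ ξ : IrrCharacter G, (m ξ * dg ξ - if ξ ∈ S then dg ξ else 0) = 0 := by
    have h4 : ∑ ξ : IrrCharacter G, (m ξ * dg ξ - if ξ ∈ S then dg ξ else 0) +
        ∑ ξ : IrrCharacter G, (if ξ ∈ S then dg ξ else 0) = ∑ ξ : IrrCharacter G, m ξ * dg ξ := by
      rw [← Finset.sum_add_distrib]
      refine Finset.sum_congr rfl fun ξ _ => ?_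
      split_ifs with h
      · have := Nat.mul_le_mul_right (dg ξ) (h1 ξ h)
        omega
      · simp
    rw [Finset.sum_ite_mem, Finset.univ_inter, h2] at h4
    omega
  rw [hsum]
  have h4 : ∀ ξ : IrrCharacter G, m ξ = if ξ ∈ S then 1 else 0 := by
    intro ξ
    have h5 := Finset.sum_eq_zero_iff.mp h3 ξ (Finset.mem_univ _)
    have h6 := dg_pos ξ
    split_ifs at h5 ⊢ with h
    · have h7 := h1 ξ h
      have h8 : m ξ * dg ξ ≤ 1 * dg ξ := by omega
      have := Nat.le_of_mul_le_mul_right h8 h6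
      omega
    · rw [Nat.sub_zero] at h5
      rcases Nat.mul_eq_zero.mp h5 with h | h
      · exact h
      · omega
  rw [Finset.sum_congr rfl (fun ξ _ => by rw [h4 ξ])]
  have h5 : ∀ ξ : IrrCharacter G, (if ξ ∈ S then 1 else 0 : ℕ) • (ξ : G → ℂ) =
      if ξ ∈ S then (ξ : G → ℂ) else 0 := by
    intro ξ
    split_ifs <;> simp
  rw [Finset.sum_congr rfl (fun ξ _ => h5 ξ), Finset.sum_ite_mem, Finset.univ_inter]

end Gen

/-- the data of the case of inertial index two. -/
structure E2 {G : Type u} [Group G] [Finite G] (p : ℕ) (P : Subgroup G) where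
  st : Ex p P
  he : ind P = 2
  hδ : st.B.δ₀ = 1
  hdeg : ∀ ψ ∈ st.B.Y, dg ψ + 2 = p
  faithful : ∀ ψ ∈ st.B.Y, ∀ g : G, (ψ : G → ℂ) g = (ψ : G → ℂ) 1 → g = 1
  hp5 : 5 ≤ p

section

variable {G : Type u} [Group G] [Fintype G] {p : ℕ} [hp : Fact p.Prime] {P : Subgroup G}
  (d : E2 p P)

include d

theorem E2.exists_χ : ∃ χ : IrrCharacter G, χ ∈ d.st.B.X ∧ d.st.B.δ χ = -1 ∧ dg χ + 1 = p ∧
    (∀ g : G, ¬ p ∣ orderOf g → ∀ ψ ∈ d.st.B.Y, (χ : G → ℂ) g = 1 + (ψ : G → ℂ) g) ∧
    d.st.B.X = {oneIrr G, χ} ∧ χ ≠ oneIrr G := by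
  classical
  have h1 := d.st.B.cardX
  rw [d.he] at h1
  obtain ⟨a, b, hab, hX⟩ := Finset.card_eq_two.mp h1
  have h2 := d.st.B.one_mem
  obtain ⟨χ, hχ1, hX'⟩ : ∃ χ : IrrCharacter G, χ ≠ oneIrr G ∧ d.st.B.X = {oneIrr G, χ} := by
    rw [hX, Finset.mem_insert, Finset.mem_singleton] at h2
    rcases h2 with h | h
    · exact ⟨b, by rw [h]; exact hab.symm, by rw [hX, h]⟩
    · exact ⟨a, by rw [h]; exact hab, by rw [hX, h, Finset.pair_comm]⟩
  have hχ : χ ∈ d.st.B.X := by rw [hX']; simp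
  obtain ⟨ψ, hψ⟩ := d.st.exists_Y
  have h3 := d.st.B.degEq hψ
  rw [hX', Finset.sum_pair hχ1.symm, d.st.B.δ_one d.st.hP, d.hδ] at h3
  have h4 : (dg (oneIrr G) : ℤ) = 1 := by
    have : ((dg (oneIrr G) : ℕ) : ℂ) = 1 := by rw [← dg_eq, CharBase.oneIrr_apply]
    exact_mod_cast this
  rw [h4] at h3
  have h5 := d.hdeg ψ hψ
  have h6 := d.hp5
  have h7 := dg_pos χ
  have h8 : d.st.B.δ χ = -1 := by
    rcases d.st.B.sgn χ hχ with h | h
    · rw [h] at h3
      omega
    · exact h
  rw [h8] at h3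
  refine ⟨χ, hχ, h8, by omega, ?_, hX', hχ1⟩
  intro g hg ξ hξ
  have h9 := d.st.B.reg g hg ξ hξ
  rw [hX', Finset.sum_pair hχ1.symm, d.st.B.δ_one d.st.hP, h8, d.hδ, CharBase.oneIrr_apply] at h9
  push_cast at h9
  linear_combination -h9

theorem E2.cardY : 2 * d.st.B.Y.card + 1 = p := by
  have h1 := d.st.B.cardY
  rw [d.he] at h1
  have := d.hp5
  omega

theorem E2.card_N : Nat.card (normalizer (P : Set G)) = p * 2 := by
  rw [d.st.card_N, d.he]

theorem E2.card_quot : (P.subgroupOf (normalizer (P : Set G))).index = 2 := by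
  have h := d.he
  unfold ind Subgroup.relIndex at h
  rwa [d.st.hC] at h

/-- the product of two elements of `N ∖ P` is in `P`. -/
theorem E2.mul_mem {y z : G} (hy : y ∈ normalizer (P : Set G)) (hyP : y ∉ P)
    (hz : z ∈ normalizer (P : Set G)) (hzP : z ∉ P) : y * z ∈ P := by
  have h := Subgroup.mul_mem_iff_of_index_two d.card_quot (a := ⟨y, hy⟩) (b := ⟨z, hz⟩)
  rw [Subgroup.mem_subgroupOf, Subgroup.mem_subgroupOf, Subgroup.mem_subgroupOf] at h
  exact h.mpr ⟨fun h => absurd h hyP, fun h => absurd h hzP⟩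

theorem E2.exists_τ : ∃ τ ∈ normalizer (P : Set G), τ ∉ P := by
  by_contra hcon
  push Not at hcon
  have h1 : P.subgroupOf (normalizer (P : Set G)) = ⊤ := by
    rw [Subgroup.subgroupOf_eq_top]
    exact hcon
  have h2 := d.card_quot
  rw [h1, Subgroup.index_top] at h2
  omega

theorem E2.inv_of {τ : G} (hτ : τ ∈ normalizer (P : Set G)) (hτP : τ ∉ P) : τ * τ = 1 := by
  by_contra h
  exact hτP (mem_P_of_comm d.st.hP d.st.hC (d.mul_mem hτ hτP hτ hτP) h (by group))

theorem E2.orderOf_τ {τ : G} (hτ : τ ∈ normalizer (P : Set G)) (hτP : τ ∉ P) :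
    orderOf τ = 2 := by
  apply orderOf_eq_prime
  · rw [pow_two]; exact d.inv_of hτ hτP
  · rintro rfl
    exact hτP P.one_mem

/-- elements of `N ∖ P` invert `P`. -/
theorem E2.invert {τ : G} (hτ : τ ∈ normalizer (P : Set G)) (hτP : τ ∉ P) {x : G} (hx : x ∈ P) :
    τ * x * τ⁻¹ = x⁻¹ := by
  have h1 := d.inv_of hτ hτP
  have h2 : τ⁻¹ = τ := inv_eq_of_mul_eq_one_right h1
  have h3 : τ * x ∉ P := by
    intro h
    apply hτP
    have : τ = (τ * x) * x⁻¹ := by group
    rw [this]
    exact P.mul_mem h (P.inv_mem hx)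
  have h4 := d.inv_of (Subgroup.mul_mem _ hτ (Subgroup.le_normalizer hx)) h3
  rw [h2]
  apply eq_inv_of_mul_eq_one_left
  rw [← h4]; group

/-- elements of `N ∖ P` are conjugate. -/
theorem E2.conj_of {y z : G} (hy : y ∈ normalizer (P : Set G)) (hyP : y ∉ P)
    (hz : z ∈ normalizer (P : Set G)) (hzP : z ∉ P) : IsConj y z := by
  obtain ⟨x, -, hx⟩ := coset_conj d.st.hP d.st.hC hy hyP (z := z) (by
    have h1 : y⁻¹ = y := inv_eq_of_mul_eq_one_right (d.inv_of hy hyP)
    rw [h1]
    exact d.mul_mem hz hzP hy hyP)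
  rw [isConj_iff]
  exact ⟨x, hx.symm⟩

/-- an element inverting a nontrivial element of `P` is in `N ∖ P`. -/
theorem E2.mem_of_invert {g x : G} (hx : x ∈ P) (hx1 : x ≠ 1) (h : g * x * g⁻¹ = x⁻¹) :
    g ∈ normalizer (P : Set G) ∧ g ∉ P := by
  constructor
  · rw [← inv_mem_iff, ← d.st.hP.conj_iff hx hx1, inv_inv, h]
    exact P.inv_mem hx
  · intro hg
    rw [d.st.P_comm g hg x hx, mul_inv_cancel_right] at h
    have h2 : x ^ 2 = 1 := by
      rw [sq]; nth_rewrite 2 [h]; exact mul_inv_cancel x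
    have h3 := orderOf_dvd_of_pow_eq_one h2
    rw [d.st.hP.orderOf_eq hx hx1] at h3
    have := Nat.le_of_dvd (by norm_num) h3
    have := d.hp5
    omega

/-- the values on `P`. -/
theorem E2.sq_add {ψ : IrrCharacter G} (hψ : ψ ∈ d.st.B.Y) {x : G} (hx : x ∈ P) (hx1 : x ≠ 1) :
    (ψ : G → ℂ) x ^ 2 + (ψ : G → ℂ) (x * x) = 2 := by
  classical
  have := Fintype.ofFinite P
  have := Fintype.ofFinite (IrrCharacter P)
  have hψc := CharBase.irr_isCharacter ψ
  have hlin : ∀ lam : IrrCharacter P, (lam : P → ℂ) 1 = 1 := fun lam =>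
    H79.linear_of_comm (fun a b => Subtype.ext (d.st.P_comm a a.2 b b.2)) lam
  have hp0 : (p : ℂ) ≠ 0 := by exact_mod_cast hp.out.ne_zero
  have hψP := CharBase.isCharacter_restrict hψc P
  obtain ⟨m, hm, hsum⟩ := CharBase.exists_mult_of_isCharacter hψP
  have hval : ∀ y : P, (ψ : G → ℂ) y = ∑ lam : IrrCharacter P, (m lam : ℂ) * (lam : P → ℂ) y := by
    intro y
    have h := congrFun hsum y
    rw [Finset.sum_apply] at h
    simp only [Pi.smul_apply, nsmul_eq_mul] at h
    exact h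
  have hd := d.hdeg ψ hψ
  -- sum of the multiplicities
  have h1 : ∑ lam : IrrCharacter P, m lam = dg ψ := by
    have h := hval 1
    rw [Subgroup.coe_one, dg_eq, Finset.sum_congr rfl (fun lam _ => by rw [hlin lam, mul_one])] at h
    have h' : ((dg ψ : ℕ) : ℂ) = ((∑ lam : IrrCharacter P, m lam : ℕ) : ℂ) := by
      push_cast; exact h
    exact_mod_cast h'.symm
  -- sum of the squares
  have h2 : ∑ lam : IrrCharacter P, m lam * m lam = dg ψ := by
    have hn := d.st.norm_Y hψ (Or.inr ⟨d.hδ, by rw [d.he]; exact hd⟩)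
    have h3 : classInner (fun y : P => (ψ : G → ℂ) y) (fun y : P => (ψ : G → ℂ) y) =
        ∑ lam : IrrCharacter P, (m lam : ℂ) * m lam := by
      conv_lhs => rw [CharBase.classInner_eq_sum (CharBase.isClassFunction_of_isCharacter hψP)]
      refine Finset.sum_congr rfl fun lam _ => ?_
      rw [hm, CharBase.classInner_comm_of_isCharacter (CharBase.irr_isCharacter lam) hψP, hm]
    have h4 : classInner (fun y : P => (ψ : G → ℂ) y) (fun y : P => (ψ : G → ℂ) y) = dg ψ := by
      unfold classInner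
      rw [hn, d.st.hP.card, ← mul_assoc, inv_mul_cancel₀ hp0, one_mul]
    rw [h4] at h3
    exact_mod_cast h3.symm
  -- multiplicities are at most one
  have h3 : ∀ lam : IrrCharacter P, m lam = 0 ∨ m lam = 1 := by
    have h4 : ∑ lam : IrrCharacter P, (m lam * m lam - m lam) = 0 := by
      have h5 : ∑ lam : IrrCharacter P, (m lam * m lam - m lam) + ∑ lam : IrrCharacter P, m lam =
          ∑ lam : IrrCharacter P, m lam * m lam := by
        rw [← Finset.sum_add_distrib]
        refine Finset.sum_congr rfl fun lam _ => ?_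
        have : m lam ≤ m lam * m lam := Nat.le_mul_self _
        omega
      omega
    intro lam
    have h5 := Finset.sum_eq_zero_iff.mp h4 lam (Finset.mem_univ _)
    rcases Nat.lt_or_ge (m lam) 2 with h6 | h6
    · omega
    · exfalso
      have : 2 * m lam ≤ m lam * m lam := Nat.mul_le_mul_right _ h6
      omega
  -- the missing characters
  set Z := Finset.univ.filter (fun lam : IrrCharacter P => m lam = 0) with hZ
  have hirr : Fintype.card (IrrCharacter P) = p := by
    have h4 := CharBase.sum_sq_degree (G := P)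
    rw [Finset.sum_congr rfl (fun lam _ => by rw [hlin lam, one_pow]), Finset.sum_const,
      Finset.card_univ, nsmul_eq_mul, mul_one, d.st.hP.card] at h4
    exact_mod_cast h4
  have hZc : Z.card = 2 := by
    have h4 : ∑ lam : IrrCharacter P, (m lam + if m lam = 0 then 1 else 0) =
        Fintype.card (IrrCharacter P) := by
      rw [Finset.sum_congr rfl (g := fun _ => 1)]
      · rw [Finset.sum_const, Finset.card_univ, smul_eq_mul, mul_one]
      · intro lam _
        rcases h3 lam with h | h <;> simp [h]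
    rw [Finset.sum_add_distrib, h1, hirr, ← Finset.card_filter, ← hZ] at h4
    omega
  obtain ⟨a, b, hab, hZab⟩ := Finset.card_eq_two.mp hZc
  -- values
  have hv : ∀ y : P, y ≠ 1 → (ψ : G → ℂ) y = -((a : P → ℂ) y + (b : P → ℂ) y) := by
    intro y hy
    have h4 := CharBase.sum_degree_mul (G := P) y
    rw [if_neg hy, Finset.sum_congr rfl (fun lam _ => by rw [hlin lam, one_mul])] at h4
    have h5 : (ψ : G → ℂ) y + ∑ lam ∈ Z, (lam : P → ℂ) y = ∑ lam : IrrCharacter P, (lam : P → ℂ) y := by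
      rw [hval y, hZ, Finset.sum_filter, ← Finset.sum_add_distrib]
      refine Finset.sum_congr rfl fun lam _ => ?_
      rcases h3 lam with h | h <;> simp [h]
    rw [h4, hZab, Finset.sum_pair hab] at h5
    linear_combination h5
  -- `a` is not the trivial character
  obtain ⟨τ, hτ, hτP⟩ := d.exists_τ
  have hreal : ∀ y : P, (ψ : G → ℂ) (y : G) = conj ((ψ : G → ℂ) (y : G)) := by
    intro y
    rw [← CharBase.irr_inv, ← d.invert hτ hτP y.2]
    exact (CharBase.irr_isClassFunction ψ (y : G) τ).symm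
  have hone : m (oneIrr P) = 1 := by
    have h4 := hm (oneIrr P)
    have h5 := d.st.B.sum_Y hψ
    rw [d.hδ, d.he] at h5
    have h6 : classInner (fun y : P => (ψ : G → ℂ) y) (oneIrr P : P → ℂ) = 1 := by
      unfold classInner
      simp only [CharBase.oneIrr_apply, map_one, mul_one]
      rw [h5, d.st.hP.card]
      have h7 : (dg ψ : ℂ) + ((1 : ℤ) : ℂ) * ((2 : ℕ) : ℂ) = p := by
        have : ((dg ψ + 2 : ℕ) : ℂ) = p := by rw [hd]
        push_cast at this ⊢
        rw [one_mul]; exact this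
      rw [h7, inv_mul_cancel₀ hp0]
    rw [h6] at h4
    exact_mod_cast h4.symm
  have hamem : a ∈ Z := by rw [hZab]; simp
  have ha1 : a ≠ oneIrr P := by
    rintro rfl
    rw [hZ, Finset.mem_filter, hone] at hamem
    exact absurd hamem.2 one_ne_zero
  -- the conjugate of `a`
  have hac : IsIrrCharacter P (fun y => conj ((a : P → ℂ) y)) := by
    have h4 := Char.isIrrCharacter_map (starRingAut : ℂ ≃+* ℂ) a.2
    exact h4
  let a' : IrrCharacter P := ⟨_, hac⟩
  have ha'v : ∀ y, (a' : P → ℂ) y = conj ((a : P → ℂ) y) := fun y => rfl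
  have ha'mem : a' ∈ Z := by
    rw [hZ, Finset.mem_filter]
    refine ⟨Finset.mem_univ _, ?_⟩
    rw [hZ, Finset.mem_filter] at hamem
    have h4 := hm a
    have h5 := hm a'
    rw [hamem.2, Nat.cast_zero] at h4
    have h6 : classInner (fun y : P => (ψ : G → ℂ) y) (a' : P → ℂ) =
        conj (classInner (fun y : P => (ψ : G → ℂ) y) (a : P → ℂ)) := by
      unfold classInner
      rw [map_mul, map_sum, map_inv₀, Complex.conj_natCast]
      congr 1
      refine Finset.sum_congr rfl fun y _ => ?_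
      rw [map_mul, ha'v, ← hreal y]
    rw [h6, h4, map_zero] at h5
    exact_mod_cast h5.symm
  have ha'ne : a' ≠ a := by
    intro h
    apply ha1
    apply Subtype.ext
    funext y
    change (a : P → ℂ) y = 1
    have h4 : conj ((a : P → ℂ) y) = (a : P → ℂ) y := by rw [← ha'v, h]
    have h5 := Char.linChar_mul_conj (CharBase.irr_isCharacter a) (hlin a) y
    rw [h4] at h5
    have h6 : (a : P → ℂ) y ^ p = 1 := by
      rw [← d.st.hP.card]
      exact Char.linChar_pow_card (CharBase.irr_isCharacter a) (hlin a) y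
    have h7 : Odd p := hp.out.odd_of_ne_two (by have := d.hp5; omega)
    obtain ⟨k, hk⟩ := h7
    rw [hk, pow_succ, pow_mul, sq, h5, one_pow, one_mul] at h6
    exact h6
  have hb : b = a' := by
    rw [hZab, Finset.mem_insert, Finset.mem_singleton] at ha'mem
    rcases ha'mem with h | h
    · exact absurd h ha'ne
    · exact h.symm
  have hxx : (⟨x, hx⟩ : P) * ⟨x, hx⟩ ≠ 1 := by
    intro h
    have h4 : x ^ 2 = 1 := by rw [sq]; exact congrArg Subtype.val h
    have h5 := orderOf_dvd_of_pow_eq_one h4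
    rw [d.st.hP.orderOf_eq hx hx1] at h5
    have := Nat.le_of_dvd (by norm_num) h5
    have := d.hp5
    omega
  have e1 := hv ⟨x, hx⟩ (fun h => hx1 (congrArg Subtype.val h))
  have e2 := hv (⟨x, hx⟩ * ⟨x, hx⟩) hxx
  rw [hb, ha'v] at e1 e2
  rw [Char.linChar_mul (CharBase.irr_isCharacter a) (hlin a), map_mul] at e2
  have e3 := Char.linChar_mul_conj (CharBase.irr_isCharacter a) (hlin a) ⟨x, hx⟩
  have e4 : ((⟨x, hx⟩ * ⟨x, hx⟩ : P) : G) = x * x := rfl
  rw [e4] at e2
  have e5 : ((⟨x, hx⟩ : P) : G) = x := rfl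
  rw [e5] at e1
  rw [e1, e2]
  linear_combination 2 * e3

end

end Cfsg.Agent.BT
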