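import Cfsg.Agent.BT.CaseOne
import Cfsg.Agent.BT.E2
import Cfsg.Agent.H75.Zeros

/-!
Tools: divisibility of the number of pairs, Galois stable sets, complements in `N(P)`.
-/

set_option autoImplicit false

open scoped ComplexConjugate

namespace Cfsg.Agent.BT

open Cfsg Subgroup Cfsg.Agent.BR
open Cfsg.Agent.CharBase (oneIrr)

universe u

section

variable {G : Type u} [Group G] [Fintype G]

/-- the number of pairs of conjugates with a given product is divisible by the orders of the
centralizers. -/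
theorem card_pairs_dvd [DecidableEq G] (g h x : G) :
    Nat.card (centralizer ({g} : Set G)) * Nat.card (centralizer ({h} : Set G)) ∣
      ((Finset.univ : Finset (G × G)).filter
        (fun q => q.1 * g * q.1⁻¹ * (q.2 * h * q.2⁻¹) = x)).card := by
  classical
  have h1 : ((Finset.univ : Finset (G × G)).filter
        (fun q => q.1 * g * q.1⁻¹ * (q.2 * h * q.2⁻¹) = x)).card =
      ∑ y : G, (Finset.univ.filter (fun a : G => a * g * a⁻¹ = y)).card *
        (Finset.univ.filter (fun b : G => b * h * b⁻¹ = y⁻¹ * x)).card := by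
    rw [Finset.card_eq_sum_card_fiberwise (f := fun q : G × G => q.1 * g * q.1⁻¹)
      (t := Finset.univ) (fun _ _ => Finset.mem_coe.mpr (Finset.mem_univ _))]
    refine Finset.sum_congr rfl fun y _ => ?_
    rw [← Finset.card_product]
    congr 1
    ext ⟨a, b⟩
    simp only [Finset.mem_filter, Finset.mem_univ, true_and, Finset.mem_product]
    constructor
    · rintro ⟨h2, h3⟩
      refine ⟨h3, ?_⟩
      rw [← h2, ← h3]; group
    · rintro ⟨h2, h3⟩
      refine ⟨?_, h2⟩
      rw [h2, h3]; group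
  rw [h1]
  refine Finset.dvd_sum fun y _ => ?_
  by_cases hy : IsConj g y
  · by_cases hy' : IsConj h (y⁻¹ * x)
    · rw [card_conj_to hy, card_conj_to hy']
    · have h3 : (Finset.univ.filter (fun b : G => b * h * b⁻¹ = y⁻¹ * x)) = ∅ := by
        rw [Finset.filter_eq_empty_iff]
        intro b _ hb
        exact hy' (isConj_iff.mpr ⟨b, hb⟩)
      rw [h3, Finset.card_empty, mul_zero]
      exact dvd_zero _
  · have h3 : (Finset.univ.filter (fun b : G => b * g * b⁻¹ = y)) = ∅ := by
      rw [Finset.filter_eq_empty_iff]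
      intro b _ hb
      exact hy (isConj_iff.mpr ⟨b, hb⟩)
    rw [h3, Finset.card_empty, zero_mul]
    exact dvd_zero _

/-- nonvanishing at `h` passes to powers prime to `|G|`. -/
theorem pow_ne_zero_of (χ : IrrCharacter G) {h : G} (h0 : (χ : G → ℂ) h ≠ 0) {k : ℕ}
    (hk : k.Coprime (Nat.card G)) : (χ : G → ℂ) (h ^ k) ≠ 0 := by
  obtain ⟨σ, hσ⟩ := Char.exists_aut_pow (Nat.card_pos (α := G)).ne' hk
  rw [← Char.map_char_eq (CharBase.irr_isCharacter χ) h (orderOf_dvd_natCard h) σ hσ]
  exact (map_ne_zero_iff _ σ.injective).mpr h0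

/-- if `∑_{χ ∈ O} |χ(h^k)|² = 1` for all `k` prime to `|G|` then exactly one `χ` is nonzero. -/
theorem unique_of_norm_sum {O : Finset (IrrCharacter G)} {h : G}
    (hO : ∀ k : ℕ, k.Coprime (Nat.card G) →
      ∑ χ ∈ O, Complex.normSq ((χ : G → ℂ) (h ^ k)) = 1) :
    ∃ χ ∈ O, Complex.normSq ((χ : G → ℂ) h) = 1 ∧
      ∀ χ' ∈ O, χ' ≠ χ → (χ' : G → ℂ) h = 0 := by
  classical
  set S : Finset G := Finset.univ.filter (fun g => ∃ k : ℕ, k.Coprime (Nat.card G) ∧ g = h ^ k)
    with hS
  have hpow : ∀ k : ℕ, k.Coprime (Nat.card G) → ∀ g ∈ S, g ^ k ∈ S := by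
    intro k hk g hg
    rw [hS, Finset.mem_filter] at hg ⊢
    obtain ⟨-, l, hl, rfl⟩ := hg
    exact ⟨Finset.mem_univ _, l * k, hl.mul_left hk, (pow_mul h l k).symm⟩
  have hS1 : h ∈ S := by
    rw [hS, Finset.mem_filter]
    exact ⟨Finset.mem_univ _, 1, Nat.coprime_one_left _, (pow_one h).symm⟩
  have hSpos : (0 : ℝ) < S.card := by
    exact_mod_cast Finset.card_pos.mpr ⟨h, hS1⟩
  have hge : ∀ χ : IrrCharacter G, (χ : G → ℂ) h ≠ 0 →
      (S.card : ℝ) ≤ ∑ g ∈ S, Complex.normSq ((χ : G → ℂ) g) := by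
    intro χ h0
    refine Cfsg.Agent.H75.card_le_sum_normSq (CharBase.irr_isCharacter χ) S hpow ?_
    intro g hg
    rw [hS, Finset.mem_filter] at hg
    obtain ⟨-, k, hk, rfl⟩ := hg
    exact pow_ne_zero_of χ h0 hk
  have htot : ∑ χ ∈ O, ∑ g ∈ S, Complex.normSq ((χ : G → ℂ) g) = S.card := by
    rw [Finset.sum_comm, Finset.sum_congr rfl (g := fun _ => (1 : ℝ))]
    · rw [Finset.sum_const, nsmul_eq_mul, mul_one]
    · intro g hg
      rw [hS, Finset.mem_filter] at hg
      obtain ⟨-, k, hk, rfl⟩ := hg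
      exact hO k hk
  have h1 := hO 1 (Nat.coprime_one_left _)
  rw [pow_one] at h1
  obtain ⟨χ, hχ, hχ0⟩ : ∃ χ ∈ O, (χ : G → ℂ) h ≠ 0 := by
    by_contra hcon
    push Not at hcon
    rw [Finset.sum_eq_zero] at h1
    · norm_num at h1
    · intro χ hχ
      rw [hcon χ hχ, map_zero]
  have huniq : ∀ χ' ∈ O, χ' ≠ χ → (χ' : G → ℂ) h = 0 := by
    intro χ' hχ' hne
    by_contra h0
    have h2 : ∑ ξ ∈ ({χ, χ'} : Finset (IrrCharacter G)), ∑ g ∈ S,
        Complex.normSq ((ξ : G → ℂ) g) ≤ S.card := by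
      rw [← htot]
      refine Finset.sum_le_sum_of_subset_of_nonneg ?_ ?_
      · intro ξ hξ
        rw [Finset.mem_insert, Finset.mem_singleton] at hξ
        rcases hξ with rfl | rfl
        · exact hχ
        · exact hχ'
      · intro ξ _ _
        exact Finset.sum_nonneg fun g _ => Complex.normSq_nonneg _
    rw [Finset.sum_pair hne.symm] at h2
    have h3 := hge χ hχ0
    have h4 := hge χ' h0
    linarith
  refine ⟨χ, hχ, ?_, huniq⟩
  rw [Finset.sum_eq_single χ] at h1
  · exact h1
  · intro χ' hχ' hne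
    rw [huniq χ' hχ' hne, map_zero]
  · intro h
    exact absurd hχ h

end

section

variable {G : Type u} [Group G] [Finite G] {p : ℕ} [hp : Fact p.Prime] {P : Subgroup G}

/-- an abelian complement in the normalizer. -/
theorem Ex.exists_compl (st : Ex p P) : ∃ E : Subgroup G, Nat.card E = ind P ∧
    ∀ a ∈ E, ∀ b ∈ E, a * b = b * a := by
  classical
  have hPn : (P.subgroupOf (normalizer (P : Set G))).Normal := Subgroup.normal_in_normalizer
  have hcN := BR.card_N st.hP st.hC
  have hcard : Nat.card (P.subgroupOf (normalizer (P : Set G))) = p := by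
    rw [Nat.card_congr (Subgroup.subgroupOfEquivOfLe
      (Subgroup.le_normalizer (H := P))).toEquiv, st.hP.card]
  have hidx : (P.subgroupOf (normalizer (P : Set G))).index = ind P := by
    have h1 := Subgroup.card_mul_index (P.subgroupOf (normalizer (P : Set G)))
    rw [hcard, hcN] at h1
    exact Nat.eq_of_mul_eq_mul_left hp.out.pos h1
  have hele := ind_le st.hP
  have hepos := ind_pos P
  have hcop : (Nat.card (P.subgroupOf (normalizer (P : Set G)))).Coprime
      (P.subgroupOf (normalizer (P : Set G))).index := by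
    rw [hcard, hidx]
    refine (hp.out.coprime_iff_not_dvd).mpr (fun h => ?_)
    have := Nat.le_of_dvd hepos h
    have := hp.out.two_le
    omega
  obtain ⟨K, hK⟩ := Subgroup.exists_right_complement'_of_coprime hcop
  have hKc : Nat.card K = ind P := by rw [← hidx, ← hK.symm.index_eq_card]
  have hdisj : ∀ y : normalizer (P : Set G), y ∈ K → (y : G) ∈ P → (y : G) = 1 := by
    intro y hy hyP
    have h1 := hK.disjoint
    have h2 : y ∈ P.subgroupOf (normalizer (P : Set G)) ⊓ K :=
      ⟨Subgroup.mem_subgroupOf.mpr hyP, hy⟩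
    rw [h1.eq_bot, Subgroup.mem_bot] at h2
    rw [h2]; rfl
  refine ⟨K.map (normalizer (P : Set G)).subtype, ?_, ?_⟩
  · rw [Nat.card_congr (K.equivMapOfInjective _
      (Subgroup.subtype_injective _)).symm.toEquiv, hKc]
  · rintro a ⟨a', ha', rfl⟩ b ⟨b', hb', rfl⟩
    -- the action on `P`
    have hcyc : IsCyclic P := isCyclic_of_prime_card st.hP.card
    let φ : normalizer (P : Set G) →* MulAut (P.subgroupOf (normalizer (P : Set G))) :=
      MulAut.conjNormal
    have hcyc' : IsCyclic (P.subgroupOf (normalizer (P : Set G))) :=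
      isCyclic_of_prime_card hcard
    have habel : ∀ a b : MulAut (P.subgroupOf (normalizer (P : Set G))), a * b = b * a := by
      intro a b
      obtain ⟨e⟩ : Nonempty (MulAut (P.subgroupOf (normalizer (P : Set G))) ≃*
        (ZMod (Nat.card (P.subgroupOf (normalizer (P : Set G)))))ˣ) :=
        ⟨IsCyclic.mulAutMulEquiv _⟩
      apply e.injective
      rw [map_mul, map_mul, mul_comm]
    set c : normalizer (P : Set G) := a' * b' * a'⁻¹ * b'⁻¹ with hc
    have hφc : φ c = 1 := by
      rw [hc, map_mul, map_mul, map_mul, map_inv, map_inv, habel (φ a') (φ b')]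
      group
    have hcC : (c : G) ∈ centralizer (P : Set G) := by
      rw [Subgroup.mem_centralizer_iff]
      intro x hx
      have h1 : φ c ⟨⟨x, Subgroup.le_normalizer hx⟩, Subgroup.mem_subgroupOf.mpr hx⟩ =
          ⟨⟨x, Subgroup.le_normalizer hx⟩, Subgroup.mem_subgroupOf.mpr hx⟩ := by rw [hφc]; rfl
      have h2 : (c : G) * x * (c : G)⁻¹ = x := by
        have := congrArg (fun z => ((z : normalizer (P : Set G)) : G)) (congrArg Subtype.val h1)
        simpa [φ] using this
      calc x * c = ((c : G) * x * (c : G)⁻¹) * c := by rw [h2]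
        _ = c * x := by group
    rw [st.hC] at hcC
    have hcK : c ∈ K := by
      rw [hc]
      exact K.mul_mem (K.mul_mem (K.mul_mem ha' hb') (K.inv_mem ha')) (K.inv_mem hb')
    have h1 := hdisj c hcK hcC
    have h2 : (a' : G) * b' * (a' : G)⁻¹ * (b' : G)⁻¹ = 1 := by rw [← h1, hc]; rfl
    show (a' : G) * b' = b' * a'
    calc (a' : G) * b' = ((a' : G) * b' * (a' : G)⁻¹ * (b' : G)⁻¹) * (b' * a') := by group
      _ = b' * a' := by rw [h2, one_mul]

/-- an element of order `r`, `r ∣ e`, with `e ∣ |C(h)|`. -/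
theorem Ex.exists_elt (st : Ex p P) {r : ℕ} (hr : r.Prime) (hre : r ∣ ind P) :
    ∃ h : G, orderOf h = r ∧ ind P ∣ Nat.card (centralizer ({h} : Set G)) := by
  obtain ⟨E, hE, hcomm⟩ := st.exists_compl
  have hrf : Fact r.Prime := ⟨hr⟩
  rw [← hE] at hre
  obtain ⟨h, hh⟩ := exists_prime_orderOf_dvd_card' r hre
  refine ⟨h, by rw [Subgroup.orderOf_coe]; exact hh, ?_⟩
  rw [← hE]
  apply Subgroup.card_dvd_of_le
  intro a ha
  rw [Subgroup.mem_centralizer_iff]
  intro y hy
  rw [Set.mem_singleton_iff.mp hy]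
  exact hcomm _ h.2 _ ha

end

end Cfsg.Agent.BT
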