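import Cfsg.Agent.BT.Cof3
import Cfsg.Agent.BT.Tools
import Cfsg.Agent.BT.E2b

/-!
Simple groups of order `3 * 2^x * r^y` and `4 * 3^x * r^y` with small faithful characters:
bounding `y`.
-/

set_option autoImplicit false

open scoped ComplexConjugate

namespace Cfsg.Agent.BT

open Cfsg Subgroup Cfsg.Agent.BR
open Cfsg.Agent.CharBase (oneIrr)

universe u

section

theorem nt3 {r ν x : ℕ} (hr : r = 5 ∨ r = 7) (hx : x ≤ 11) (h : ν ∣ 3 * 2 ^ x)
    (hm : ν ≡ 1 [MOD r ^ 2]) : ν = 1 := by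
  obtain ⟨d, e, h1, h2, rfl⟩ := (Nat.dvd_mul).mp h
  obtain ⟨j, hj, rfl⟩ := (Nat.dvd_prime_pow Nat.prime_two).mp h2
  have hj' : j ≤ 11 := hj.trans hx
  unfold Nat.ModEq at hm
  rcases hr with rfl | rfl <;> rcases (Nat.dvd_prime Nat.prime_three).mp h1 with rfl | rfl <;>
    interval_cases j <;> first | (norm_num at hm; done) | norm_num

theorem nt4 {r ν x : ℕ} (hr : r = 5 ∨ r = 7) (hx : x ≤ 10) (h : ν ∣ 2 ^ 2 * 3 ^ x)
    (hm : ν ≡ 1 [MOD r ^ 2]) : ν = 1 := by
  obtain ⟨d, e, h1, h2, rfl⟩ := (Nat.dvd_mul).mp h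
  obtain ⟨j, hj, rfl⟩ := (Nat.dvd_prime_pow Nat.prime_three).mp h2
  obtain ⟨i, hi, rfl⟩ := (Nat.dvd_prime_pow Nat.prime_two).mp h1
  have hj' : j ≤ 10 := hj.trans hx
  unfold Nat.ModEq at hm
  rcases hr with rfl | rfl <;> interval_cases i <;>
    interval_cases j <;> first | (norm_num at hm; done) | norm_num

theorem nt3' {r ν x : ℕ} (hr : r = 5 ∨ r = 7) (hx : x ≤ 2) (h : ν ∣ 3 * 2 ^ x)
    (hm : ν ≡ 1 [MOD r]) : ν = 1 ∨ ν = 6 := by
  obtain ⟨d, e, h1, h2, rfl⟩ := (Nat.dvd_mul).mp h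
  obtain ⟨j, hj, rfl⟩ := (Nat.dvd_prime_pow Nat.prime_two).mp h2
  have hj' : j ≤ 2 := hj.trans hx
  unfold Nat.ModEq at hm
  rcases hr with rfl | rfl <;> rcases (Nat.dvd_prime Nat.prime_three).mp h1 with rfl | rfl <;>
    interval_cases j <;> first | (norm_num at hm; done) | norm_num

theorem nt4' {r ν x : ℕ} (hr : r = 5 ∨ r = 7) (hx : x ≤ 2) (h : ν ∣ 2 ^ 2 * 3 ^ x)
    (hm : ν ≡ 1 [MOD r]) : ν = 1 ∨ ν = 6 ∨ ν = 36 := by
  obtain ⟨d, e, h1, h2, rfl⟩ := (Nat.dvd_mul).mp h
  obtain ⟨j, hj, rfl⟩ := (Nat.dvd_prime_pow Nat.prime_three).mp h2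
  obtain ⟨i, hi, rfl⟩ := (Nat.dvd_prime_pow Nat.prime_two).mp h1
  have hj' : j ≤ 2 := hj.trans hx
  unfold Nat.ModEq at hm
  rcases hr with rfl | rfl <;> interval_cases i <;>
    interval_cases j <;> first | (norm_num at hm; done) | norm_num

end

section

variable {G : Type u} [Group G] [Finite G]

theorem not_twentyfive {r y : ℕ} (hr : r = 5 ∨ r = 7) (hy : 2 ≤ y) (hG : r ^ y ∣ Nat.card G)
    (h6 : 2 * Nat.card G ∣ (6 : ℕ).factorial) : False := by
  have h1 : r ^ 2 ∣ (6 : ℕ).factorial :=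
    ((pow_dvd_pow r hy).trans hG).trans ((Dvd.intro_left _ rfl).trans h6)
  rcases hr with rfl | rfl <;> revert h1 <;> decide

/-- order `3 * 2^x * r^y`. -/
theorem three_le_one [IsSimpleGroup G] (hnc : ∃ a b : G, a * b ≠ b * a) {r x y : ℕ}
    (hr : r = 5 ∨ r = 7) (hG : Nat.card G = 3 * 2 ^ x * r ^ y) (hxy : x ≤ 2 ∨ y ≤ 2)
    {χ : IrrCharacter G} (hχ : dg χ = 3)
    (hf : ∀ g : G, (χ : G → ℂ) g = (χ : G → ℂ) 1 → g = 1) : y ≤ 1 := by
  by_contra hy
  push Not at hy
  have hnm := nmc hnc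
  have hrp : r.Prime := by rcases hr with rfl | rfl <;> norm_num
  have hrf : Fact r.Prime := ⟨hrp⟩
  have hr2 : r ≠ 2 := by rcases hr with rfl | rfl <;> norm_num
  have hr3 : r ≠ 3 := by rcases hr with rfl | rfl <;> norm_num
  have hrm : ¬ r ∣ 3 * 2 ^ x := by
    intro h
    rcases (hrp.dvd_mul).mp h with h | h
    · exact hr3 ((Nat.prime_dvd_prime_iff_eq hrp Nat.prime_three).mp h)
    · exact hr2 ((Nat.prime_dvd_prime_iff_eq hrp Nat.prime_two).mp (hrp.dvd_of_dvd_pow h))
  have hrG : r ∣ Nat.card G := by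
    rw [hG]; exact Dvd.dvd.mul_left (dvd_pow_self r (by omega)) _
  have hν1 : Nat.card (Sylow r G) ≠ 1 := H17.card_sylow_ne_one hnm hrG
  have hνd : Nat.card (Sylow r G) ∣ 3 * 2 ^ x := card_sylow_dvd hG hrm
  have hνm : Nat.card (Sylow r G) ≡ 1 [MOD r] := card_sylow_modEq_one r G
  have hν6 := H17.two_mul_card_dvd_factorial_card_sylow (p := r) hnm hrG
  by_cases hx : x ≤ 2
  · rcases nt3' hr hx hνd hνm with h | h
    · exact hν1 h
    · rw [h] at hν6
      exact not_twentyfive hr hy (by rw [hG]; exact Dvd.intro_left _ rfl) hν6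
  · have hy2 : y = 2 := by omega
    subst hy2
    obtain ⟨R⟩ : Nonempty (Sylow r G) := inferInstance
    have hRc := card_sylow_of hG hrm R
    have hmod : Nat.card (Sylow r G) ≡ 1 [MOD r ^ 2] := by
      refine card_sylow_mod R hRc fun g hg Q => ?_
      have hg1 : g ≠ 1 := by
        rintro rfl
        rw [orderOf_one] at hg
        exact hrp.one_lt.ne hg
      have h3 : 3 ∣ (centralizer ({g} : Set G)).index :=
        dvd_index_of_pelt hnc Nat.prime_three (k := 0) (by rw [hχ]; norm_num) hrp hr3 hg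
      refine sylow_cent_normal hnc (χ := χ) (by omega) (by rcases hr with rfl | rfl <;> omega)
        hg1 hf ?_ Q
      apply solv_of_dvd (p := 2) (q := r) (a := x) (b := 2) Nat.prime_two hrp
      obtain ⟨t, ht⟩ := h3
      have h4 := (centralizer ({g} : Set G)).card_mul_index
      rw [ht, hG] at h4
      refine ⟨t, ?_⟩
      have h5 : 3 * (2 ^ x * r ^ 2) = 3 * (Nat.card (centralizer ({g} : Set G)) * t) := by
        rw [← mul_assoc, ← h4]; ring
      exact Nat.eq_of_mul_eq_mul_left (by norm_num) h5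
    have hx11 : x ≤ 11 := by
      have h2f : Fact (Nat.Prime 2) := ⟨Nat.prime_two⟩
      obtain ⟨T⟩ : Nonempty (Sylow 2 G) := inferInstance
      have h1 := card_sylow_le hnc (CharBase.irr_isCharacter χ) hf
        (by have : charDegree (χ : G → ℂ) = 3 := hχ
            omega) T
      have h2 : Nat.card (T : Subgroup G) = 2 ^ x := by
        apply card_sylow_of (m := 3 * r ^ 2) (by rw [hG]; ring)
        intro h
        rcases (Nat.prime_two.dvd_mul).mp h with h | h
        · omega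
        · exact hr2 ((Nat.prime_dvd_prime_iff_eq Nat.prime_two hrp).mp
            (Nat.prime_two.dvd_of_dvd_pow h)).symm
      have h3 : charDegree (χ : G → ℂ) = 3 := hχ
      rw [h2, h3] at h1
      by_contra hcon
      push Not at hcon
      have h4 : 2 ^ 12 ≤ 2 ^ x := Nat.pow_le_pow_right (by norm_num) hcon
      have h5 := h4.trans h1
      norm_num at h5
    exact hν1 (nt3 hr hx11 hνd hmod)

/-- order `4 * 3^x * r^y`. -/
theorem four_le_one [IsSimpleGroup G] (hnc : ∃ a b : G, a * b ≠ b * a) {r x y : ℕ}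
    (hr : r = 5 ∨ r = 7) (hG : Nat.card G = 2 ^ 2 * 3 ^ x * r ^ y) (hxy : x ≤ 2 ∨ y ≤ 2)
    {χ : IrrCharacter G} (hχ : dg χ = 4)
    (hf : ∀ g : G, (χ : G → ℂ) g = (χ : G → ℂ) 1 → g = 1) : y ≤ 1 := by
  by_contra hy
  push Not at hy
  have hnm := nmc hnc
  have hrp : r.Prime := by rcases hr with rfl | rfl <;> norm_num
  have hrf : Fact r.Prime := ⟨hrp⟩
  have hr2 : r ≠ 2 := by rcases hr with rfl | rfl <;> norm_num
  have hr3 : r ≠ 3 := by rcases hr with rfl | rfl <;> norm_num
  have hχ' : charDegree (χ : G → ℂ) = 4 := hχ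
  have hrm : ¬ r ∣ 2 ^ 2 * 3 ^ x := by
    intro h
    rcases (hrp.dvd_mul).mp h with h | h
    · exact hr2 ((Nat.prime_dvd_prime_iff_eq hrp Nat.prime_two).mp (hrp.dvd_of_dvd_pow h))
    · exact hr3 ((Nat.prime_dvd_prime_iff_eq hrp Nat.prime_three).mp (hrp.dvd_of_dvd_pow h))
  have hrG : r ∣ Nat.card G := by
    rw [hG]; exact Dvd.dvd.mul_left (dvd_pow_self r (by omega)) _
  have hν1 : Nat.card (Sylow r G) ≠ 1 := H17.card_sylow_ne_one hnm hrG
  have hνd : Nat.card (Sylow r G) ∣ 2 ^ 2 * 3 ^ x := card_sylow_dvd hG hrm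
  have hνm : Nat.card (Sylow r G) ≡ 1 [MOD r] := card_sylow_modEq_one r G
  have hν6 := H17.two_mul_card_dvd_factorial_card_sylow (p := r) hnm hrG
  obtain ⟨R⟩ : Nonempty (Sylow r G) := inferInstance
  have hRc := card_sylow_of hG hrm R
  by_cases hx : x ≤ 2
  · rcases nt4' hr hx hνd hνm with h | h | h
    · exact hν1 h
    · rw [h] at hν6
      exact not_twentyfive hr hy (by rw [hG]; exact Dvd.intro_left _ rfl) hν6
    · -- self-normalizing abelian Sylow subgroup
      apply H17.not_normalizer_le_centralizer hnm hrG R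
      have h1 := (normalizer ((R : Subgroup G) : Set G)).card_mul_index
      have h0 : (normalizer ((R : Subgroup G) : Set G)).index = 36 := by
        rw [← h]; exact R.card_eq_index_normalizer.symm
      rw [h0, hG] at h1
      have h2 : Nat.card (normalizer ((R : Subgroup G) : Set G)) ≤ Nat.card (R : Subgroup G) := by
        rw [hRc]
        have h3 : 2 ^ 2 * 3 ^ x ≤ 36 := by
          have : 3 ^ x ≤ 3 ^ 2 := Nat.pow_le_pow_right (by norm_num) hx
          omega
        have h4 : Nat.card (normalizer ((R : Subgroup G) : Set G)) * 36 ≤ r ^ y * 36 := by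
          rw [h1]
          calc 2 ^ 2 * 3 ^ x * r ^ y ≤ 36 * r ^ y := Nat.mul_le_mul_right _ h3
            _ = r ^ y * 36 := mul_comm _ _
        exact Nat.le_of_mul_le_mul_right h4 (by norm_num)
      have h3 : (R : Subgroup G) = normalizer ((R : Subgroup G) : Set G) :=
        Subgroup.eq_of_le_of_card_ge Subgroup.le_normalizer h2
      rw [← h3]
      intro a ha
      rw [Subgroup.mem_centralizer_iff]
      intro b hb
      have h4 := comm_of_deg_lt R.2
        (CharBase.isCharacter_restrict (CharBase.irr_isCharacter χ) (R : Subgroup G))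
        (fun g hg => Subtype.ext (hf g hg))
        (by
          have h5 : charDegree (fun x : (R : Subgroup G) => (χ : G → ℂ) x) = 4 := hχ
          rw [h5]; rcases hr with rfl | rfl <;> norm_num) ⟨b, hb⟩ ⟨a, ha⟩
      exact congrArg Subtype.val h4
  · have hy2 : y = 2 := by omega
    subst hy2
    have hmod : Nat.card (Sylow r G) ≡ 1 [MOD r ^ 2] := by
      refine card_sylow_mod R hRc fun g hg Q => ?_
      have hg1 : g ≠ 1 := by
        rintro rfl
        rw [orderOf_one] at hg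
        exact hrp.one_lt.ne hg
      have h3 : 2 ∣ (centralizer ({g} : Set G)).index :=
        dvd_index_of_pelt hnc Nat.prime_two (k := 1) (by rw [hχ]; norm_num) hrp hr2 hg
      refine sylow_cent_normal hnc (χ := χ) (by omega) (by rcases hr with rfl | rfl <;> omega)
        hg1 hf ?_ Q
      apply solv_of_dvd_two (p := 3) (q := r) (a := x) (b := 2) Nat.prime_three hrp (by norm_num) hr2
      obtain ⟨t, ht⟩ := h3
      have h4 := (centralizer ({g} : Set G)).card_mul_index
      rw [ht, hG] at h4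
      refine ⟨t, ?_⟩
      have h5 : 2 * (2 * (3 ^ x * r ^ 2)) = 2 * (Nat.card (centralizer ({g} : Set G)) * t) := by
        calc 2 * (2 * (3 ^ x * r ^ 2)) = 2 ^ 2 * 3 ^ x * r ^ 2 := by ring
          _ = _ := by rw [← h4]; ring
      exact Nat.eq_of_mul_eq_mul_left (by norm_num) h5
    have hx10 : x ≤ 10 := by
      have h3f : Fact (Nat.Prime 3) := ⟨Nat.prime_three⟩
      obtain ⟨T⟩ : Nonempty (Sylow 3 G) := inferInstance
      have h1 := card_sylow_le hnc (CharBase.irr_isCharacter χ) hf (by omega) T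
      have h2 : Nat.card (T : Subgroup G) = 3 ^ x := by
        apply card_sylow_of (m := 2 ^ 2 * r ^ 2) (by rw [hG]; ring)
        intro h
        rcases (Nat.prime_three.dvd_mul).mp h with h | h
        · omega
        · exact hr3 ((Nat.prime_dvd_prime_iff_eq Nat.prime_three hrp).mp
            (Nat.prime_three.dvd_of_dvd_pow h)).symm
      rw [h2, hχ'] at h1
      by_contra hcon
      push Not at hcon
      have h4 : 3 ^ 11 ≤ 3 ^ x := Nat.pow_le_pow_right (by norm_num) hcon
      have h5 := h4.trans h1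
      norm_num at h5
    exact hν1 (nt4 hr hx10 hνd hmod)

end

end Cfsg.Agent.BT
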