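import Cfsg.Agent.BT.TwoPrime
import Cfsg.Agent.S0144
import Cfsg.Agent.BR.Rows2

/-!
Rows S0904, S1001.
-/

set_option autoImplicit false

namespace Cfsg.Agent.BT

open Cfsg Subgroup Cfsg.Agent.BR

universe u

section

variable {G : Type u} [Group G] [Finite G] [IsSimpleGroup G]

/-- simple of order `p^a q^b r`, nonabelian: Sylow `r`-subgroups are self-centralizing. -/
theorem cent_of_order {p q r a b : ℕ} (hp : p.Prime) (hq : q.Prime) [hr : Fact r.Prime] (hpq : p ≠ q)
    (hpr : p ≠ r) (hqr : q ≠ r) (hnc : ¬ IsMulCommutative G) (hG : Nat.card G = p ^ a * q ^ b * r)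
    {S : Subgroup G} (hS : Sp r S) : centralizer (S : Set G) = S := by
  have := Fintype.ofFinite G
  have hcyc : IsCyclic S := isCyclic_of_prime_card hS.card
  have hcomm : IsMulCommutative S := IsCyclic.isMulCommutative
  have h1 : S ≤ centralizer (S : Set G) := Subgroup.le_centralizer_iff_isMulCommutative.mpr hcomm
  obtain ⟨s, hs, hs1⟩ := exists_ne_one hS
  have hso := hS.orderOf_eq hs hs1
  -- no element of order `p` or `q`
  have key : ∀ l : ℕ, l.Prime → l ≠ r → (∀ y : G, l ∣ orderOf y → r ∣ orderOf y → False) →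
      ¬ l ∣ Nat.card (centralizer (S : Set G)) := by
    intro l hl hlr hy hdvd
    have hlf : Fact l.Prime := ⟨hl⟩
    obtain ⟨y, hyo⟩ := exists_prime_orderOf_dvd_card' l hdvd
    have hyo' : orderOf (y : G) = l := by rw [Subgroup.orderOf_coe]; exact hyo
    have hc : Commute s (y : G) := Subgroup.mem_centralizer_iff.mp y.2 s hs
    have hcop : (orderOf s).Coprime (orderOf (y : G)) := by
      rw [hso, hyo']
      exact (Nat.coprime_primes hr.out hl).mpr hlr.symm
    have ho := hc.orderOf_mul_eq_mul_orderOf_of_coprime hcop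
    rw [hso, hyo'] at ho
    exact hy _ (by rw [ho]; exact Dvd.intro_left _ rfl) (by rw [ho]; exact Dvd.intro _ rfl)
  have hp' := key p hp hpr (fun y h1 h2 => no_pr hp hq hr.out hpq hpr hqr hnc hG h1 h2)
  have hq' := key q hq hqr (fun y h1 h2 => no_pr (a := b) (b := a) hq hp hr.out hpq.symm hqr hpr hnc
    (by rw [hG]; ring) h1 h2)
  have hdvd : Nat.card (centralizer (S : Set G)) ∣ r := by
    have h2 : Nat.card (centralizer (S : Set G)) ∣ p ^ a * q ^ b * r := by
      rw [← hG]; exact Subgroup.card_subgroup_dvd_card _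
    have h3 : (Nat.card (centralizer (S : Set G))).Coprime (p ^ a) :=
      Nat.Coprime.pow_right a ((hp.coprime_iff_not_dvd).mpr hp').symm
    have h4 : (Nat.card (centralizer (S : Set G))).Coprime (q ^ b) :=
      Nat.Coprime.pow_right b ((hq.coprime_iff_not_dvd).mpr hq').symm
    exact (h3.mul_right h4).dvd_of_dvd_mul_left h2
  symm
  apply Subgroup.eq_of_le_of_card_ge h1
  rw [hS.card]
  exact Nat.le_of_dvd hr.out.pos hdvd

omit [IsSimpleGroup G] [Finite G] in
theorem comm_card [Finite G] [IsSimpleGroup G] (h : IsMulCommutative G) : (Nat.card G).Prime := by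
  have : ∀ a b : G, a * b = b * a := fun a b => h.is_comm.comm a b
  letI : CommGroup G := { (inferInstance : Group G) with mul_comm := this }
  exact IsSimpleGroup.prime_card

theorem sp_of_order {m r : ℕ} [hr : Fact r.Prime] (hG : Nat.card G = m * r) (hm : ¬ r ∣ m)
    (S : Sylow r G) : Sp r (S : Subgroup G) := by
  refine Sp.of_sylow S ?_
  obtain ⟨k, hk⟩ := (IsPGroup.iff_card (p := r)).mp S.2
  have h1 := (S : Subgroup G).card_mul_index
  have h2 := S.not_dvd_index
  rw [hk, hG] at h1
  rcases Nat.lt_or_ge k 2 with h | h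
  · have h3 : k = 0 ∨ k = 1 := by omega
    rcases h3 with rfl | rfl
    · exfalso
      rw [pow_zero, one_mul] at h1
      exact h2 (by rw [h1]; exact Dvd.intro_left _ rfl)
    · rw [hk, pow_one]
  · exfalso
    apply hm
    have h3 : r ^ 2 ∣ m * r := by
      rw [← h1]
      exact (Nat.pow_dvd_pow r h).trans (Dvd.intro _ rfl)
    rw [pow_two] at h3
    exact Nat.dvd_of_mul_dvd_mul_right hr.out.pos h3

/-- S0904 -/
theorem row904 {p q r a b : ℕ} (hp : p.Prime) (hq : q.Prime) [hr : Fact r.Prime] (hpq : p ≠ q)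
    (hpr : p ≠ r) (hqr : q ≠ r) (hG : Nat.card G = p ^ a * q ^ b * r) (S : Sylow r G) :
    centralizer ((S : Subgroup G) : Set G) = (S : Subgroup G) := by
  have hm : ¬ r ∣ p ^ a * q ^ b := by
    intro h
    rcases (hr.out.dvd_mul).mp h with h5 | h5
    · exact hpr ((Nat.prime_dvd_prime_iff_eq hr.out hp).mp (hr.out.dvd_of_dvd_pow h5)).symm
    · exact hqr ((Nat.prime_dvd_prime_iff_eq hr.out hq).mp (hr.out.dvd_of_dvd_pow h5)).symm
  have hS := sp_of_order hG hm S
  by_cases hnc : IsMulCommutative G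
  · have h1 := comm_card hnc
    have h2 : r = Nat.card G := by
      have h3 : r ∣ Nat.card G := by rw [hG]; exact Dvd.intro_left _ rfl
      exact (Nat.prime_dvd_prime_iff_eq hr.out h1).mp h3
    have h3 : (S : Subgroup G) = ⊤ := by
      apply Subgroup.eq_top_of_card_eq
      rw [hS.card, h2]
    rw [h3, eq_top_iff]
    intro x _
    rw [Subgroup.mem_centralizer_iff]
    intro y _
    exact hnc.is_comm.comm y x
  · exact cent_of_order hp hq hpq hpr hqr hnc hG hS

/-- S1001 -/
theorem row1001 {p a b : ℕ} (hp : p.Prime) (hG : Nat.card G = p * 3 ^ a * 2 ^ b) {x : G}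
    (hx : orderOf x = p) : centralizer ({x} : Set G) = zpowers x := by
  have hcomm : IsMulCommutative G → centralizer ({x} : Set G) = zpowers x := by
    intro hnc
    have h1 := comm_card hnc
    have h2 : p = Nat.card G := by
      have h3 : p ∣ Nat.card G := by rw [← hx]; exact orderOf_dvd_natCard x
      exact (Nat.prime_dvd_prime_iff_eq hp h1).mp h3
    have h3 : zpowers x = ⊤ := by
      apply Subgroup.eq_top_of_card_eq
      rw [Nat.card_zpowers, hx, h2]
    rw [h3, eq_top_iff]
    intro z _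
    rw [Subgroup.mem_centralizer_iff]
    intro y _
    exact hnc.is_comm.comm y z
  have hsolv : ∀ c d : ℕ, Nat.card G = 3 ^ c * 2 ^ d → IsMulCommutative G := by
    intro c d h
    have h1 : Group.IsSolvable G := S0144.result 3 2 c d Nat.prime_three Nat.prime_two h
    by_contra hnc
    have h2 := perfect_of_simple hnc
    exact absurd h2 (Group.IsSolvable.commutator_lt_top_of_nontrivial G).ne
  by_cases h3 : p = 3
  · exact hcomm (hsolv (a + 1) b (by rw [hG, h3]; ring))
  by_cases h2 : p = 2
  · exact hcomm (hsolv a (b + 1) (by rw [hG, h2]; ring))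
  by_cases hnc : IsMulCommutative G
  · exact hcomm hnc
  have hpf : Fact p.Prime := ⟨hp⟩
  have hm : ¬ p ∣ 3 ^ a * 2 ^ b := by
    intro h
    rcases (hp.dvd_mul).mp h with h5 | h5
    · exact h3 ((Nat.prime_dvd_prime_iff_eq hp Nat.prime_three).mp (hp.dvd_of_dvd_pow h5))
    · exact h2 ((Nat.prime_dvd_prime_iff_eq hp Nat.prime_two).mp (hp.dvd_of_dvd_pow h5))
  have hG' : Nat.card G = 3 ^ a * 2 ^ b * p := by rw [hG]; ring
  have hSp : Sp p (zpowers x) := by
    have hc : Nat.card (zpowers x) = p := by rw [Nat.card_zpowers, hx]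
    refine ⟨hc, ?_⟩
    intro hd
    have h1 := (zpowers x).card_mul_index
    obtain ⟨k, hk⟩ := hd
    rw [hc, hG', hk] at h1
    apply hm
    refine ⟨k, ?_⟩
    have h4 : (3 ^ a * 2 ^ b) * p = (p * k) * p := by rw [← h1]; ring
    exact Nat.eq_of_mul_eq_mul_right hp.pos h4
  have hx1 : x ≠ 1 := by
    rintro rfl
    rw [orderOf_one] at hx
    exact hp.one_lt.ne hx
  rw [hSp.centralizer_eq (mem_zpowers x) hx1]
  exact cent_of_order Nat.prime_three Nat.prime_two (by norm_num) (fun h => h3 h.symm)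
    (fun h => h2 h.symm) hnc hG' hSp

end

end Cfsg.Agent.BT
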