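import Cfsg.Agent.BT.Cof4
import Cfsg.Agent.BT.TwoPrimeRow
import Cfsg.Agent.BT.Kernel

/-!
Simple groups of order `20 * 3^x`.
-/

set_option autoImplicit false

open scoped ComplexConjugate

namespace Cfsg.Agent.BT

open Cfsg Subgroup Cfsg.Agent.BR
open Cfsg.Agent.CharBase (oneIrr)

universe u

section

variable {G : Type u} [Group G] [Finite G] {p : ℕ} [hp : Fact p.Prime] {P : Subgroup G}

/-- a cyclic complement in the normalizer. -/
theorem Ex.exists_cyc_compl (st : Ex p P) : ∃ E : Subgroup G, Nat.card E = ind P ∧ IsCyclic E := by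
  classical
  have hPn : (P.subgroupOf (normalizer (P : Set G))).Normal := Subgroup.normal_in_normalizer
  have hcN := BR.card_N st.hP st.hC
  have hcard : Nat.card (P.subgroupOf (normalizer (P : Set G))) = p := by
    rw [Nat.card_congr (Subgroup.subgroupOfEquivOfLe
      (Subgroup.le_normalizer (H := P))).toEquiv, st.hP.card]
  have hidx : (P.subgroupOf (normalizer (P : Set G))).index = ind P := by
    have h1 := Subgroup.card_mul_index (P.subgroupOf (normalizer (P : Set G)))
    rw [hcard, hcN] at h1
    exact Nat.eq_of_mul_eq_mul_left hp.out.pos h1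
  have hele := ind_le st.hP
  have hepos := ind_pos P
  have hcop : (Nat.card (P.subgroupOf (normalizer (P : Set G)))).Coprime
      (P.subgroupOf (normalizer (P : Set G))).index := by
    rw [hcard, hidx]
    refine (hp.out.coprime_iff_not_dvd).mpr (fun h => ?_)
    have := Nat.le_of_dvd hepos h
    have := hp.out.two_le
    omega
  obtain ⟨K, hK⟩ := Subgroup.exists_right_complement'_of_coprime hcop
  have hKc : Nat.card K = ind P := by rw [← hidx, ← hK.symm.index_eq_card]
  have hdisj : ∀ y : normalizer (P : Set G), y ∈ K → (y : G) ∈ P → (y : G) = 1 := by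
    intro y hy hyP
    have h1 := hK.disjoint
    have h2 : y ∈ P.subgroupOf (normalizer (P : Set G)) ⊓ K :=
      ⟨Subgroup.mem_subgroupOf.mpr hyP, hy⟩
    rw [h1.eq_bot, Subgroup.mem_bot] at h2
    rw [h2]; rfl
  refine ⟨K.map (normalizer (P : Set G)).subtype, ?_, ?_⟩
  · rw [Nat.card_congr (K.equivMapOfInjective _
      (Subgroup.subtype_injective _)).symm.toEquiv, hKc]
  · let φ : normalizer (P : Set G) →* MulAut (P.subgroupOf (normalizer (P : Set G))) :=
      MulAut.conjNormal
    have hcyc' : IsCyclic (P.subgroupOf (normalizer (P : Set G))) :=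
      isCyclic_of_prime_card hcard
    have hinj : Function.Injective (φ.comp K.subtype) := by
      rw [injective_iff_map_eq_one]
      rintro ⟨c, hcK⟩ hφc
      have hφc' : φ c = 1 := hφc
      have hcC : (c : G) ∈ centralizer (P : Set G) := by
        rw [Subgroup.mem_centralizer_iff]
        intro x hx
        have h1 : φ c ⟨⟨x, Subgroup.le_normalizer hx⟩, Subgroup.mem_subgroupOf.mpr hx⟩ =
            ⟨⟨x, Subgroup.le_normalizer hx⟩, Subgroup.mem_subgroupOf.mpr hx⟩ := by
          rw [hφc']; rfl
        have h2 : (c : G) * x * (c : G)⁻¹ = x := by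
          have := congrArg (fun z => ((z : normalizer (P : Set G)) : G)) (congrArg Subtype.val h1)
          simpa [φ] using this
        calc x * c = ((c : G) * x * (c : G)⁻¹) * c := by rw [h2]
          _ = c * x := by group
      rw [st.hC] at hcC
      have h1 := hdisj c hcK hcC
      exact Subtype.ext (Subtype.ext h1)
    obtain ⟨e⟩ : Nonempty (MulAut (P.subgroupOf (normalizer (P : Set G))) ≃*
      (ZMod (Nat.card (P.subgroupOf (normalizer (P : Set G)))))ˣ) :=
      ⟨IsCyclic.mulAutMulEquiv _⟩
    have hcu : IsCyclic (ZMod (Nat.card (P.subgroupOf (normalizer (P : Set G)))))ˣ := by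
      rw [hcard]; exact ZMod.isCyclic_units_prime hp.out
    have hKcyc : IsCyclic K := by
      refine isCyclic_of_injective (e.toMonoidHom.comp (φ.comp K.subtype)) ?_
      exact e.injective.comp hinj
    exact isCyclic_of_injective
      (K.equivMapOfInjective _ (Subgroup.subtype_injective _)).symm.toMonoidHom
      (K.equivMapOfInjective _ (Subgroup.subtype_injective _)).symm.injective

end

section

variable {G : Type u} [Group G] [Finite G]

/-- simple groups of order `20 * 3^x` with a character of degree `4` have order `60`. -/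
theorem order_twenty [IsSimpleGroup G] (hnc : ∃ a b : G, a * b ≠ b * a) {x : ℕ}
    (hG : Nat.card G = 2 ^ 2 * 3 ^ x * 5) {χ : IrrCharacter G} (hχ : dg χ = 4) :
    Nat.card G = 60 := by
  classical
  have := Fintype.ofFinite G
  have hnm := nmc hnc
  have h5f : Fact (Nat.Prime 5) := ⟨by norm_num⟩
  have hperf := perfect_of_simple hnm
  obtain ⟨S⟩ : Nonempty (Sylow 5 G) := inferInstance
  have hS : Sp 5 (S : Subgroup G) := sp_of_order (m := 2 ^ 2 * 3 ^ x) hG (by
    intro h
    rcases (h5f.out.dvd_mul).mp h with h | h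
    · omega
    · have := (Nat.prime_dvd_prime_iff_eq h5f.out Nat.prime_three).mp (h5f.out.dvd_of_dvd_pow h)
      omega) S
  have hC := cent_of_order Nat.prime_two Nat.prime_three (r := 5) (by norm_num) (by norm_num)
    (by norm_num) hnm hG hS
  obtain ⟨B⟩ := CycG.nonempty_data hS
  let st : Ex 5 (S : Subgroup G) := ⟨hS, hC, B, by norm_num⟩
  have he2 := two_le_ind hS hperf
  have hcY := B.cardY
  have hed : ind (S : Subgroup G) ∣ 4 := Dvd.intro_left _ hcY
  have hele := Nat.le_of_dvd (by norm_num) hed
  have he : ind (S : Subgroup G) = 2 ∨ ind (S : Subgroup G) = 4 := by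
    generalize ind (S : Subgroup G) = e at *
    interval_cases e <;> omega
  rcases he with he | he
  · -- inertial index two
    have hX : χ ∈ B.X := by
      rcases st.mem_or χ with h | h | h
      · exact h
      · exfalso
        have h1 := B.congr_Y hS h
        rw [hχ, he] at h1
        rcases B.sgn₀ with h2 | h2 <;> rw [h2] at h1 <;> norm_num at h1
      · exfalso
        rw [hχ] at h
        norm_num at h
    have hδ : B.δ χ = -1 := by
      have h1 := B.congr_X hS hX
      rcases B.sgn χ hX with h2 | h2
      · rw [hχ, h2] at h1; norm_num at h1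
      · exact h2
    have hne : oneIrr G ≠ χ := by
      rintro rfl
      have h1 := dg_eq (oneIrr G)
      rw [CharBase.oneIrr_apply, hχ] at h1
      norm_num at h1
    have hXe : B.X = {oneIrr G, χ} := by
      symm
      apply Finset.eq_of_subset_of_card_le
      · intro ξ hξ
        rw [Finset.mem_insert, Finset.mem_singleton] at hξ
        rcases hξ with rfl | rfl
        · exact B.one_mem
        · exact hX
      · rw [B.cardX, he, Finset.card_pair hne]
    obtain ⟨ψ₀, hψ₀⟩ := st.exists_Y
    have hdeg : ∀ ψ ∈ B.Y, B.δ₀ * (dg ψ : ℤ) = 3 := by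
      intro ψ hψ
      have h1 := B.degEq hψ
      rw [hXe, Finset.sum_pair hne, B.δ_one hS, hδ, hχ] at h1
      have h2 : dg (oneIrr G) = 1 := by
        have h3 := dg_eq (oneIrr G)
        rw [CharBase.oneIrr_apply] at h3
        exact_mod_cast h3.symm
      rw [h2] at h1
      push_cast at h1
      linarith
    have hδ₀ : B.δ₀ = 1 := by
      rcases B.sgn₀ with h | h
      · exact h
      · exfalso
        have h1 := hdeg ψ₀ hψ₀
        rw [h] at h1
        omega
    have hd3 : ∀ ψ ∈ B.Y, dg ψ + 2 = 5 := by
      intro ψ hψ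
      have h1 := hdeg ψ hψ
      rw [hδ₀] at h1
      omega
    let d : E2 5 (S : Subgroup G) := ⟨st, he, hδ₀, hd3, fun ψ hψ g hg => by
      refine faithful_of_simple ?_ hg
      rintro rfl
      have h1 := hd3 _ hψ
      have h2 : dg (oneIrr G) = 1 := by
        have h3 := dg_eq (oneIrr G)
        rw [CharBase.oneIrr_apply] at h3
        exact_mod_cast h3.symm
      omega, by norm_num⟩
    obtain ⟨m, F, _, _, τ, hm, h1, -, -, -, -, -, h2⟩ := d.ident_full
    have h3 : 2 ^ m = 4 := by omega
    rw [h2, h3]
  · -- inertial index four: cyclic Sylow 2-subgroup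
    exfalso
    have h2f : Fact (Nat.Prime 2) := ⟨Nat.prime_two⟩
    obtain ⟨E, hE, hcyc⟩ := st.exists_cyc_compl
    rw [he] at hE
    have hEp : IsPGroup 2 E := IsPGroup.of_card (n := 2) (by rw [hE]; norm_num)
    obtain ⟨Q, hQ⟩ := hEp.exists_le_sylow
    have hQc : Nat.card (Q : Subgroup G) = 2 ^ 2 := by
      apply card_sylow_of (m := 3 ^ x * 5) (by rw [hG]; ring)
      intro h
      rcases (Nat.prime_two.dvd_mul).mp h with h | h
      · have := (Nat.prime_dvd_prime_iff_eq Nat.prime_two Nat.prime_three).mp
          (Nat.prime_two.dvd_of_dvd_pow h)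
        omega
      · omega
    have hEQ : E = (Q : Subgroup G) :=
      Subgroup.eq_of_le_of_card_ge hQ (by rw [hQc, hE]; norm_num)
    have hQcyc : IsCyclic (Q : Subgroup G) := hEQ ▸ hcyc
    have hmin : (Nat.card G).minFac = 2 := by
      rw [Nat.minFac_eq_two_iff, hG]
      exact Dvd.intro (2 * (3 ^ x * 5)) (by ring)
    exact H17.not_normalizer_le_centralizer (p := 2) hnm (by rw [hG]; exact Dvd.intro (2 * (3 ^ x * 5)) (by ring)) Q
      (IsCyclic.normalizer_le_centralizer hmin hQcyc)

end

end Cfsg.Agent.BT
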