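import Cfsg.Agent.BT.E2b
import Cfsg.Agent.BT.Kernel

/-!
The functional `2 χ(1) - (p+1) (χ|_P, 1) + (p-1) (χ, 1)`.
-/

set_option autoImplicit false

open scoped ComplexConjugate

namespace Cfsg.Agent.BT

open Cfsg Subgroup Cfsg.Agent.BR
open Cfsg.Agent.CharBase (oneIrr)

universe u

section

variable {G : Type u} [Group G] [Fintype G] {p : ℕ} [hp : Fact p.Prime] {P : Subgroup G}
  (st : Ex p P)

include st in
theorem Ex.exists_fx (χ : IrrCharacter G) : ∃ m : ℕ, ∑ᶠ x : P, (χ : G → ℂ) x = (p : ℂ) * m := by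
  have := Fintype.ofFinite P
  obtain ⟨m, hm⟩ := st.hP.exists_sum (CharBase.irr_isCharacter χ)
  exact ⟨m, by rw [finsum_eq_sum_of_fintype, hm]⟩

/-- the dimension of the `P`-fixed space. -/
noncomputable def Ex.fx (χ : IrrCharacter G) : ℕ := (st.exists_fx χ).choose

theorem Ex.sum_fx [Fintype P] (χ : IrrCharacter G) :
    ∑ x : P, (χ : G → ℂ) x = (p : ℂ) * st.fx χ := by
  rw [← finsum_eq_sum_of_fintype]
  exact (st.exists_fx χ).choose_spec

theorem Ex.fx_X {χ : IrrCharacter G} (hχ : χ ∈ st.B.X) :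
    (p : ℤ) * st.fx χ = dg χ + (p - 1) * st.B.δ χ := by
  have := Fintype.ofFinite P
  have h1 := st.sum_fx χ
  rw [st.B.sum_X st.hP hχ, Nat.cast_sub hp.out.one_lt.le] at h1
  push_cast at h1
  exact_mod_cast h1.symm

theorem Ex.fx_Y {ψ : IrrCharacter G} (hψ : ψ ∈ st.B.Y) :
    (p : ℤ) * st.fx ψ = dg ψ + st.B.δ₀ * ind P := by
  have := Fintype.ofFinite P
  have h1 := st.sum_fx ψ
  rw [st.B.sum_Y hψ] at h1
  exact_mod_cast h1.symm

theorem Ex.fx_out {χ : IrrCharacter G} (h1 : χ ∉ st.B.X) (h2 : χ ∉ st.B.Y) :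
    p * st.fx χ = dg χ := by
  classical
  have := Fintype.ofFinite P
  have hm := st.sum_fx χ
  rw [sum_P_split (fun x : P => (χ : G → ℂ) x)] at hm
  rw [Finset.sum_eq_zero, add_zero, Subgroup.coe_one, dg_eq] at hm
  · exact_mod_cast hm.symm
  · intro x hx
    exact st.B.out st.hC χ h1 h2 x x.2 (fun h => (Finset.mem_erase.mp hx).1 (Subtype.ext h))

open Classical in
/-- the functional. -/
noncomputable def Ex.ell (χ : IrrCharacter G) : ℤ :=
  2 * dg χ - (p + 1) * st.fx χ + (p - 1) * (if χ = oneIrr G then 1 else 0)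

theorem dg_one : dg (oneIrr G) = 1 := by
  have : ((dg (oneIrr G) : ℕ) : ℂ) = 1 := by rw [← dg_eq, CharBase.oneIrr_apply]
  exact_mod_cast this

theorem Ex.ell_one : st.ell (oneIrr G) = 0 := by
  unfold Ex.ell
  have h1 := st.fx_X st.B.one_mem
  rw [st.B.δ_one st.hP, dg_one] at h1
  have h2 : (st.fx (oneIrr G) : ℤ) = 1 := by
    have h3 : (p : ℤ) * st.fx (oneIrr G) = p * 1 := by rw [h1]; push_cast; ring
    exact mul_left_cancel₀ (by exact_mod_cast hp.out.ne_zero) h3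
  rw [h2, dg_one, if_pos rfl]
  push_cast
  ring

/-- the functional on a nonexceptional character. -/
theorem Ex.ell_X {χ : IrrCharacter G} (hχ : χ ∈ st.B.X) (h1 : χ ≠ oneIrr G) {k : ℤ}
    (hk : (dg χ : ℤ) = k * p + st.B.δ χ) : st.ell χ = (k - st.B.δ χ) * (p - 1) := by
  unfold Ex.ell
  have h2 := st.fx_X hχ
  rw [hk] at h2
  have h3 : (st.fx χ : ℤ) = k + st.B.δ χ := by
    have h4 : (p : ℤ) * st.fx χ = p * (k + st.B.δ χ) := by rw [h2]; ring
    exact mul_left_cancel₀ (by exact_mod_cast hp.out.ne_zero) h4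
  rw [h3, hk, if_neg h1]
  ring

theorem Ex.ell_Y {ψ : IrrCharacter G} (hψ : ψ ∈ st.B.Y) :
    st.ell ψ = 2 * dg ψ - (p + 1) * st.fx ψ := by
  unfold Ex.ell
  rw [if_neg, mul_zero, add_zero]
  rintro rfl
  exact Finset.disjoint_left.mp st.B.disj st.B.one_mem hψ

theorem Ex.ell_out {χ : IrrCharacter G} (h1 : χ ∉ st.B.X) (h2 : χ ∉ st.B.Y) :
    st.ell χ = (p - 1) * st.fx χ := by
  unfold Ex.ell
  have h3 := st.fx_out h1 h2
  rw [if_neg (by rintro rfl; exact h1 st.B.one_mem), ← h3]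
  push_cast
  ring

theorem Ex.fx_pos_out {χ : IrrCharacter G} (h1 : χ ∉ st.B.X) (h2 : χ ∉ st.B.Y) :
    1 ≤ st.fx χ := by
  have h3 := st.fx_out h1 h2
  have h4 := dg_pos χ
  rcases Nat.eq_zero_or_pos (st.fx χ) with h | h
  · rw [h, mul_zero] at h3; omega
  · exact h

/-- evaluation of the functional on a character. -/
theorem Ex.sum_ell [Fintype (IrrCharacter G)] [Fintype P] {Θ : G → ℂ} {m : IrrCharacter G → ℕ}
    (hsum : Θ = ∑ χ : IrrCharacter G, m χ • (χ : G → ℂ)) {d c : ℕ} (hd : Θ 1 = d)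
    (hc : ∑ x : P, Θ x = (p : ℂ) * c) :
    ∑ χ : IrrCharacter G, (m χ : ℤ) * st.ell χ =
      2 * d - (p + 1) * c + (p - 1) * m (oneIrr G) := by
  classical
  have h1 : ∑ χ : IrrCharacter G, (m χ : ℤ) * dg χ = d := by
    have h2 := congrFun hsum 1
    rw [hd, Finset.sum_apply] at h2
    have h3 : ((∑ χ : IrrCharacter G, (m χ : ℤ) * dg χ : ℤ) : ℂ) = ((d : ℤ) : ℂ) := by
      push_cast
      rw [h2]
      refine Finset.sum_congr rfl fun χ _ => ?_
      rw [Pi.smul_apply, dg_eq, nsmul_eq_mul]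
    exact_mod_cast h3
  have h2 : ∑ χ : IrrCharacter G, (m χ : ℤ) * st.fx χ = c := by
    have h3 : (p : ℂ) * ((∑ χ : IrrCharacter G, (m χ : ℤ) * st.fx χ : ℤ) : ℂ) = (p : ℂ) * c := by
      rw [← hc, hsum]
      push_cast
      rw [Finset.mul_sum]
      have h4 : ∀ x : P, (∑ χ : IrrCharacter G, m χ • (χ : G → ℂ)) x =
          ∑ χ : IrrCharacter G, (m χ : ℂ) * (χ : G → ℂ) x := by
        intro x
        rw [Finset.sum_apply]
        refine Finset.sum_congr rfl fun χ _ => ?_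
        rw [Pi.smul_apply, nsmul_eq_mul]
      rw [Finset.sum_congr rfl (fun x _ => h4 x), Finset.sum_comm]
      refine Finset.sum_congr rfl fun χ _ => ?_
      rw [← Finset.mul_sum, st.sum_fx χ]
      ring
    have hp0 : (p : ℂ) ≠ 0 := by exact_mod_cast hp.out.ne_zero
    exact_mod_cast mul_left_cancel₀ hp0 h3
  have h3 : ∑ χ : IrrCharacter G, (m χ : ℤ) * (if χ = oneIrr G then 1 else 0) = m (oneIrr G) := by
    simp
  unfold Ex.ell
  rw [← h1, ← h2, ← h3, Finset.mul_sum, Finset.mul_sum, Finset.mul_sum,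
    ← Finset.sum_sub_distrib, ← Finset.sum_add_distrib]
  refine Finset.sum_congr rfl fun χ _ => ?_
  ring

end

end Cfsg.Agent.BT
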