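import Cfsg.Agent.BT.FcStr

/-!
# S4146: commuting pairs and the one-prime case.
-/

set_option autoImplicit false
set_option linter.style.haveILetI false
set_option linter.unusedSectionVars false

namespace Cfsg.Agent.BT.Fc

open Cfsg.Agent.H35.CR

universe u

variable {G : Type u} [Group G] [Finite G] {n m : ℕ}

/-- `n`, `m` are powers of different primes -/
def PP (n m : ℕ) : Prop := ∃ p q a b : ℕ, p.Prime ∧ q.Prime ∧ p ≠ q ∧ n = p ^ a ∧ m = q ^ b

theorem PP.symm (h : PP n m) : PP m n := by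
  obtain ⟨p, q, a, b, hp, hq, hpq, hn, hm⟩ := h
  exact ⟨q, p, b, a, hq, hp, Ne.symm hpq, hm, hn⟩

theorem F4.not_dvd' (h : F4 G n m) : ¬ m ∣ n := h.symm.not_dvd

theorem F4.cs_of_dvd (h : F4 G n m) {z : G} (hz : z ∉ Subgroup.center G) (hd : cs z ∣ n) : cs z = n := by
  rcases h.all z with h1 | h1 | h1 | h1
  · exact absurd (cs_eq_one.1 h1) hz
  · exact h1
  · rw [h1] at hd; exact absurd hd h.not_dvd'
  · rw [h1] at hd; exact absurd ((Dvd.intro_left n rfl).trans hd) h.not_dvd'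

theorem F4.exX (h : F4 G n m) : ∃ (r : ℕ) (x : G), r.Prime ∧ PE r x ∧ cs x = n := by
  obtain ⟨g, hg⟩ := h.exn
  have hgc : g ∉ Subgroup.center G := not_central_of_cs (by rw [hg]; exact h.hn.ne')
  obtain ⟨r, k, hr, hk, hkc⟩ := exists_primary hgc
  exact ⟨r, g ^ k, hr, hk, h.cs_of_dvd hkc (hg ▸ cs_dvd (cz_pow_le g k))⟩

theorem PE.cop_prime {p r : ℕ} (hp : p.Prime) (hr : r.Prime) (hpr : r ≠ p) {w : G} (hw : PE r w) :
    (_root_.orderOf w).Coprime p := by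
  obtain ⟨k, hk⟩ := hw.orderOf hr
  rw [hk]
  exact Nat.Coprime.pow_left _ ((Nat.coprime_primes hr hp).2 hpr)

theorem F4.alpha1 (h : F4 G n m) {p q : ℕ} (hp : p.Prime) (hq : q.Prime) (hpq : p ≠ q) {x y : G} (hx : PE p x)
    (hy : PE q y) (hcx : cs x = n) (hcy : cs y = m) (hxy : y ∈ cz x) : ∃ c d, m = p ^ c * q ^ d := by
  have hnc : ¬ cz x ≤ cz y := fun hle => h.not_dvd' (by have := cs_dvd hle; rwa [hcx, hcy] at this)
  rcases h.str hp hx hcx hxy (hy.cop_prime hp hq (Ne.symm hpq)) hnc with ⟨c, hc⟩ | ⟨q1, hq1, hq1p, ⟨c, d, hcd⟩, hF⟩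
  · exact ⟨c, 0, by rw [hc, pow_zero, mul_one]⟩
  · by_cases hqq : q = q1
    · subst hqq
      exact ⟨c, d, hcd⟩
    · exact absurd (hF q hq (Ne.symm hpq) hqq y hxy hy) hnc

theorem F4.alpha (h : F4 G n m) {p q : ℕ} (hp : p.Prime) (hq : q.Prime) (hpq : p ≠ q) {x y : G} (hx : PE p x)
    (hy : PE q y) (hcx : cs x = n) (hcy : cs y = m) (hxy : y ∈ cz x) : PP n m := by
  obtain ⟨c, d, hm⟩ := h.alpha1 hp hq hpq hx hy hcx hcy hxy
  obtain ⟨c', d', hn⟩ := h.symm.alpha1 hq hp (Ne.symm hpq) hy hx hcy hcx (mem_cz_symm hxy)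
  have hnot : ∀ r : ℕ, r.Prime → r ∣ n → ¬ r ∣ m := fun r hr h1 h2 =>
    Nat.not_coprime_of_dvd_of_dvd hr.one_lt h1 h2 h.cop
  have hn1 := h.hn
  have hm1 := h.hm
  rcases Nat.eq_zero_or_pos c with hc0 | hc0
  · subst hc0
    rw [pow_zero, one_mul] at hm
    have hd0 : d ≠ 0 := by rintro rfl; rw [hm, pow_zero] at hm1; exact lt_irrefl _ hm1
    have hc'0 : c' = 0 := by
      by_contra hne
      exact hnot q hq (hn ▸ (dvd_pow_self q hne).mul_right _) (hm ▸ dvd_pow_self q hd0)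
    subst hc'0
    rw [pow_zero, one_mul] at hn
    exact ⟨p, q, d', d, hp, hq, hpq, hn, hm⟩
  · have hd'0 : d' = 0 := by
      by_contra hne
      exact hnot p hp (hn ▸ (dvd_pow_self p hne).mul_left _) (hm ▸ (dvd_pow_self p hc0.ne').mul_right _)
    subst hd'0
    rw [pow_zero, mul_one] at hn
    have hc'0 : c' ≠ 0 := by rintro rfl; rw [hn, pow_zero] at hn1; exact lt_irrefl _ hn1
    have hd0 : d = 0 := by
      by_contra hne
      exact hnot q hq (hn ▸ dvd_pow_self q hc'0) (hm ▸ (dvd_pow_self q hne).mul_left _)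
    subst hd0
    rw [pow_zero, mul_one] at hm
    exact ⟨q, p, c', c, hq, hp, Ne.symm hpq, hn, hm⟩

theorem F4.r2a (h : F4 G n m) {p : ℕ} (hp : p.Prime)
    (hall : ∀ r : ℕ, r.Prime → ∀ z : G, PE r z → (cs z = n ∨ cs z = m) → r = p) (hpm : ¬ p ∣ m) : PP n m := by
  obtain ⟨r1, x, hr1, hx, hcx⟩ := h.exX
  rw [hall r1 hr1 x hx (Or.inl hcx)] at hx
  obtain ⟨r2, y, hr2, hy, hcy⟩ := h.symm.exX
  rw [hall r2 hr2 y hy (Or.inr hcy)] at hy
  have hn1 := h.hn
  have hm1 := h.hm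
  have hW : ∀ r : ℕ, r.Prime → r ≠ p → ∀ w : G, PE r w → w ∉ Subgroup.center G → cs w = n * m := by
    intro r hr hrp w hw hwc
    rcases h.all w with h1 | h1 | h1 | h1
    · exact absurd (cs_eq_one.1 h1) hwc
    · exact absurd (hall r hr w hw (Or.inl h1)) hrp
    · exact absurd (hall r hr w hw (Or.inr h1)) hrp
    · exact h1
  obtain ⟨r, hr, hrm⟩ := Nat.exists_prime_and_dvd hm1.ne'
  have hrp : r ≠ p := by rintro rfl; exact hpm hrm
  have hrn : ¬ r ∣ n := fun h1 => Nat.not_coprime_of_dvd_of_dvd hr.one_lt h1 hrm h.cop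
  obtain ⟨w, hw, hwr, hwc⟩ := exists_PE_cz (g := x) hr (hrm.trans (hcy ▸ cs_dvd_index_center y)) (by rw [hcx]; exact hrn)
  have hcw := hW r hr hrp w hwr hwc
  have hnc : ∀ (z : G), cs z = n → cs w = n * m → ¬ cz z ≤ cz w := fun z hz hww hle => h.not_dvd' (by
    have h1 := cs_dvd hle
    rw [hz, hww] at h1
    exact (Dvd.intro_left n rfl).trans h1)
  rcases h.str hp hx hcx hw (hwr.cop_prime hp hr hrp) (hnc x hcx hcw) with ⟨c, hc⟩ | ⟨q1, hq1, hq1p, ⟨c, d, hcd⟩, hF⟩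
  · exfalso
    have hc0 : c ≠ 0 := by rintro rfl; rw [hc, pow_zero] at hm1; exact lt_irrefl _ hm1
    exact hpm (hc ▸ dvd_pow_self p hc0)
  · have hc0 : c = 0 := by
      by_contra hne
      exact hpm (hcd ▸ (dvd_pow_self p hne).mul_right _)
    subst hc0
    rw [pow_zero, one_mul] at hcd
    have hd0 : d ≠ 0 := by rintro rfl; rw [hcd, pow_zero] at hm1; exact lt_irrefl _ hm1
    have hq1m : q1 ∣ m := hcd ▸ dvd_pow_self q1 hd0
    -- noncentral r-element in cz y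
    have hex : ∃ w' ∈ cz y, PE r w' ∧ w' ∉ Subgroup.center G := by
      by_contra hno
      push Not at hno
      exact lemT hr (y := y) (u := w) hno (self_mem w) hwr hwc (by rw [hcy, hcw]; exact Dvd.intro_left n rfl)
    obtain ⟨w', hw', hwr', hwc'⟩ := hex
    have hcw' := hW r hr hrp w' hwr' hwc'
    have hnc' : ¬ cz y ≤ cz w' := fun hle => h.not_dvd (by
      have h1 := cs_dvd hle
      rw [hcy, hcw'] at h1
      exact (Dvd.intro m rfl).trans h1)
    rcases h.symm.str hp hy hcy hw' (hwr'.cop_prime hp hr hrp) hnc' with ⟨c', hc'⟩ | ⟨q2, hq2, hq2p, ⟨c', d', hcd'⟩, _⟩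
    · exact ⟨p, q1, c', d, hp, hq1, Ne.symm hq1p, hc', hcd⟩
    · rcases Nat.eq_zero_or_pos d' with hd'0 | hd'0
      · subst hd'0
        rw [pow_zero, mul_one] at hcd'
        exact ⟨p, q1, c', d, hp, hq1, Ne.symm hq1p, hcd', hcd⟩
      · exfalso
        have hq2n : q2 ∣ n := hcd' ▸ (dvd_pow_self q2 hd'0.ne').mul_left _
        have hq2m : ¬ q2 ∣ m := fun h1 => Nat.not_coprime_of_dvd_of_dvd hq2.one_lt hq2n h1 h.cop
        have hq21 : q2 ≠ q1 := by rintro rfl; exact hq2m hq1m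
        obtain ⟨w2, hw2, hw2r, hw2c⟩ := exists_PE_cz (g := y) hq2 (hq2n.trans (hcx ▸ cs_dvd_index_center x))
          (by rw [hcy]; exact hq2m)
        have hcw2 := hW q2 hq2 hq2p w2 hw2r hw2c
        refine lemT hq2 (y := x) (u := w2) ?_ (self_mem w2) hw2r hw2c (by rw [hcx, hcw2]; exact Dvd.intro m rfl)
        intro v hv hvr
        by_contra hvc
        have h1 := cs_dvd (hF q2 hq2 hq2p hq21 v hv hvr)
        rw [hcx] at h1
        exact hq2p (hall q2 hq2 v hvr (Or.inl (h.cs_of_dvd hvc h1)))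

theorem F4.r2 (h : F4 G n m) {p : ℕ} (hp : p.Prime)
    (hall : ∀ r : ℕ, r.Prime → ∀ z : G, PE r z → (cs z = n ∨ cs z = m) → r = p) : PP n m := by
  by_cases hpm : p ∣ m
  · have hpn : ¬ p ∣ n := fun h1 => Nat.not_coprime_of_dvd_of_dvd hp.one_lt h1 hpm h.cop
    exact (h.symm.r2a hp (fun r hr z hz hc => hall r hr z hz hc.symm) hpn).symm
  · exact h.r2a hp hall hpm

end Cfsg.Agent.BT.Fc
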