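import Cfsg.Agent.BT.FcD

/-!
# S4146: non-commuting pairs, part 1
-/

set_option autoImplicit false
set_option linter.style.haveILetI false
set_option linter.unusedSectionVars false

namespace Cfsg.Agent.BT.Fc

open Cfsg.Agent.H35.CR
open Cfsg.Agent.H72 (Cl card_Cl)

universe u

variable {G : Type u} [Group G] [Finite G] {n m : ℕ}

theorem conj_mul {u v : G} (huv : (cz u).index.Coprime (cz v).index) (g h : G) :
    IsConj (u * v) ((g * u * g⁻¹) * (h * v * h⁻¹)) := by
  obtain ⟨a, ha, b, hb, hab⟩ := Cfsg.Agent.H72.exists_mul_of_coprime_index huv (g⁻¹ * h)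
  refine isConj_iff.2 ⟨g * a, ?_⟩
  have h1 : a * u * a⁻¹ = u := by rw [mem_cz.1 ha]; group
  have h2 : b * v * b⁻¹ = v := by rw [mem_cz.1 hb]; group
  have h3 : h = g * a * b := by
    rw [mul_assoc, ← hab]; group
  calc g * a * (u * v) * (g * a)⁻¹ = g * (a * u * a⁻¹) * (a * v * a⁻¹) * g⁻¹ := by group
    _ = g * u * (a * v * a⁻¹) * g⁻¹ := by rw [h1]
    _ = g * u * (a * (b * v * b⁻¹) * a⁻¹) * g⁻¹ := by rw [h2]
    _ = (g * u * g⁻¹) * (h * v * h⁻¹) := by rw [h3]; group

theorem le_cs_mul {u v : G} (huv : (cz u).index.Coprime (cz v).index) : cs u ≤ cs (u * v) := by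
  have h1 : Nat.card (Cl u) = cs u := card_Cl u
  have h2 : Nat.card (Cl (u * v)) = cs (u * v) := card_Cl _
  rw [← h1, ← h2]
  have hmem : ∀ t : Cl u, (t : G) * v ∈ Cl (u * v) := by
    intro t
    obtain ⟨g, hg⟩ := t.2
    obtain ⟨c, hc⟩ := isConj_iff.1 (conj_mul huv g 1)
    refine ⟨c, ?_⟩
    show c * (u * v) * c⁻¹ = t * v
    rw [hc, ← hg]
    group
  refine Nat.card_le_card_of_injective (fun t : Cl u => (⟨(t : G) * v, hmem t⟩ : Cl (u * v))) ?_
  intro a b hab
  have := congrArg Subtype.val hab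
  exact Subtype.ext (mul_right_cancel this)

theorem comm_of_cs_mul {u v : G} (h : cs (u * v) = cs u * cs v) : v ∈ cz u := by
  have hle : cz u ⊓ cz v ≤ cz (u * v) := by
    intro z hz
    have h1 := mem_cz.1 hz.1
    have h2 := mem_cz.1 hz.2
    rw [mem_cz, ← mul_assoc, h1, mul_assoc, h2, mul_assoc]
  have h1 : (cz u ⊓ cz v).index ≤ cs u * cs v := Subgroup.index_inf_le
  have h2 : (cz (u * v)).index ∣ (cz u ⊓ cz v).index := Subgroup.index_dvd_of_le hle
  have h3 : (cz u ⊓ cz v).index ≠ 0 := Subgroup.index_ne_zero_of_finite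
  have h4 : (cz u ⊓ cz v).index = (cz (u * v)).index := by
    refine le_antisymm ?_ (Nat.le_of_dvd (Nat.pos_of_ne_zero h3) h2)
    rw [← h] at h1; exact h1
  have h5 := Subgroup.relIndex_mul_index hle
  have h6 : (cz u ⊓ cz v).relIndex (cz (u * v)) = 1 := by
    rw [h4] at h5
    have h7 : (cz (u * v)).index ≠ 0 := Subgroup.index_ne_zero_of_finite
    exact Nat.eq_of_mul_eq_mul_right (Nat.pos_of_ne_zero h7) (by rw [one_mul]; exact h5)
  have h7 : cz (u * v) ≤ cz u ⊓ cz v := Subgroup.relIndex_eq_one.1 h6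
  have h8 := mem_cz.1 (h7 (self_mem (u * v))).1
  rw [mem_cz]
  have h9 : u * (v * u) = u * (u * v) := by rw [← mul_assoc]; exact h8
  exact mul_left_cancel h9

theorem F4.le_of_max (h : F4 G n m) {w u : G} (hcw : cs w = n * m) (hu : u ∈ cz w)
    (hcop : (orderOf w).Coprime (orderOf u)) : cz w ≤ cz u := by
  have h1 := cs_mul hu hcop
  have hnm : 0 < n * m := Nat.mul_pos (lt_trans Nat.zero_lt_one h.hn) (lt_trans Nat.zero_lt_one h.hm)
  have h2 : (cz u).relIndex (cz w) = 1 := by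
    have h3 : cs (w * u) ≤ n * m := by
      have hn := h.hn
      have hm := h.hm
      rcases h.all (w * u) with h4 | h4 | h4 | h4 <;> rw [h4] <;> nlinarith
    rw [hcw] at h1
    rw [h1] at h3
    have h4 : (cz u).relIndex (cz w) ≤ 1 := by
      by_contra hlt
      push Not at hlt
      nlinarith
    have h5 : (cz u).relIndex (cz w) ≠ 0 := Subgroup.index_ne_zero_of_finite (H := (cz u).subgroupOf (cz w))
    omega
  exact Subgroup.relIndex_eq_one.1 h2

theorem PE.mul {p : ℕ} {a b : G} (ha : PE p a) (hb : PE p b) (hab : a * b = b * a) : PE p (a * b) := by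
  obtain ⟨i, hi⟩ := ha
  obtain ⟨j, hj⟩ := hb
  refine ⟨i + j, ?_⟩
  rw [(show Commute a b from hab).mul_pow, pow_add, pow_mul, hi, one_pow, one_mul, mul_comm (p ^ i), pow_mul, hj,
    one_pow]

theorem PE.dvd_orderOf {p : ℕ} (hp : p.Prime) {a : G} (ha : PE p a) (h1 : a ≠ 1) : p ∣ _root_.orderOf a := by
  obtain ⟨k, hk⟩ := ha.orderOf hp
  rw [hk]
  refine dvd_pow_self p ?_
  rintro rfl
  rw [pow_zero] at hk
  exact h1 (orderOf_eq_one_iff.1 hk)

/-- the situation after step 1 -/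
structure VD (V : Subgroup G) (p : ℕ) (x' y : G) (n : ℕ) : Prop where
  nor : V.Normal
  ab : ∀ a ∈ V, ∀ b ∈ V, a * b = b * a
  pe : ∀ v ∈ V, PE p v
  mem : x' ∈ V
  cs : cs x' = n
  cy : ∀ v ∈ V, v ∈ cz y → v = 1

theorem F4.step1 (h : F4 G n m) (hnm : n < m) {p q : ℕ} (hp : p.Prime) (hq : q.Prime) (hpq : p ≠ q) {x y : G}
    (hx : PE p x) (hy : PE q y) (hcx : cs x = n) (hcy : cs y = m) (hxy : x ∉ cz y) :
    p ∣ m ∧ ∃ (V : Subgroup G) (x' : G), VD V p x' y n := by
  have hco : (cz y).index.Coprime (cz x).index := by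
    show (cs y).Coprime (cs x)
    rw [hcx, hcy]; exact h.cop.symm
  have hn1 := h.hn
  have hm1 := h.hm
  have h1 : cs (y * x) = m := by
    have h2 := le_cs_mul hco
    rw [hcy] at h2
    rcases h.all (y * x) with h3 | h3 | h3 | h3
    · rw [h3] at h2; omega
    · rw [h3] at h2; omega
    · exact h3
    · exact absurd (comm_of_cs_mul (by rw [h3, hcy, hcx, mul_comm])) hxy
  obtain ⟨M, hMn, hMab, ⟨w, hw, hwx⟩, hMcard, hM⟩ := dich (x := y) (y := x) hco (by
    show (cs (y * x)).Coprime (cs x)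
    rw [h1, hcx]; exact h.cop.symm)
  have hczw : cz w = cz x := by
    ext g
    rw [mem_cz, mem_cz]
    have h2 : g * (w * x) = (w * x) * g := (Subgroup.mem_center_iff.1 hwx g)
    constructor
    · intro h3
      have h4 : w * (g * x) = w * (x * g) := by
        rw [← mul_assoc, ← h3, mul_assoc, h2, mul_assoc]
      exact mul_left_cancel h4
    · intro h3
      have h4 : (g * w) * x = (w * g) * x := by
        rw [mul_assoc, h2, mul_assoc, mul_assoc, h3]
      exact mul_right_cancel h4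
  have hcw : cs w = n := by rw [← hcx, cs, cs, hczw]
  have hwc : w ∉ Subgroup.center G := not_central_of_cs (by rw [hcw]; exact hn1.ne')
  have hxc : x ∉ Subgroup.center G := not_central_of_cs (by rw [hcx]; exact hn1.ne')
  have hd : p ∣ orderOf (QuotientGroup.mk w : G ⧸ Subgroup.center G) := by
    have h2 : (QuotientGroup.mk w : G ⧸ Subgroup.center G) = (QuotientGroup.mk x)⁻¹ := by
      apply eq_inv_of_mul_eq_one_left
      rw [← QuotientGroup.mk_mul]
      exact (QuotientGroup.eq_one_iff _).2 hwx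
    rw [h2, orderOf_inv]
    exact hx.dvd_mk hp hxc
  obtain ⟨k, hk, hkc⟩ := exists_primary_of hp hd
  have hk1 : w ^ k ≠ 1 := fun h2 => hkc (by rw [h2]; exact Subgroup.one_mem _)
  let V : Subgroup G :=
    { carrier := {v | v ∈ M ∧ PE p v}
      mul_mem' := fun {a b} ha hb => ⟨M.mul_mem ha.1 hb.1, ha.2.mul hb.2 (hMab a ha.1 b hb.1)⟩
      one_mem' := ⟨M.one_mem, 0, by simp⟩
      inv_mem' := fun {a} ha => ⟨M.inv_mem ha.1, by
        obtain ⟨j, hj⟩ := ha.2
        exact ⟨j, by rw [inv_pow, hj, inv_one]⟩⟩ }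
  refine ⟨?_, V, w ^ k, ⟨⟨fun v hv g => ⟨hMn.conj_mem v hv.1 g, hv.2.conj g⟩⟩, fun a ha b hb => hMab a ha.1 b hb.1,
    fun v hv => hv.2, ⟨M.pow_mem hw k, hk⟩, h.cs_of_dvd hkc (hcw ▸ cs_dvd (cz_pow_le w k)), ?_⟩⟩
  · have h2 : orderOf (w ^ k) ∣ Nat.card M := by
      have := orderOf_dvd_natCard (⟨w ^ k, M.pow_mem hw k⟩ : M)
      rwa [← Subgroup.orderOf_coe] at this
    have h3 : (cz y).index = m := hcy
    rw [h3] at hMcard
    exact (hk.dvd_orderOf hp hk1).trans (h2.trans hMcard)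
  · intro v hv hvy
    obtain ⟨g, hg⟩ := hM v hv.1
    have h2 : Commute y v := (mem_cz.1 hvy).symm
    have h3 : orderOf (y * v) = orderOf y * orderOf v := h2.orderOf_mul_eq_mul_orderOf_of_coprime (hy.cop hq hp (Ne.symm hpq) hv.2)
    rw [hg, orderOf_conj] at h3
    have h4 : 0 < orderOf y := orderOf_pos y
    have h5 : orderOf v = 1 := by
      have h6 : orderOf y * 1 = orderOf y * orderOf v := by rw [mul_one]; exact h3
      exact (Nat.eq_of_mul_eq_mul_left h4 h6).symm
    exact orderOf_eq_one_iff.1 h5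

end Cfsg.Agent.BT.Fc
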