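import Cfsg.Agent.BT.FcE

/-!
# S4146: non-commuting pairs, part 2; `n` and `m` are prime powers
-/

set_option autoImplicit false
set_option linter.style.haveILetI false
set_option linter.unusedSectionVars false

namespace Cfsg.Agent.BT.Fc

open Cfsg.Agent.H35.CR

universe u

variable {G : Type u} [Group G] [Finite G] {n m : ℕ}

theorem exists_fixed {p : ℕ} (hp : p.Prime) {V : Subgroup G} (hVn : V.Normal) (hVp : ∀ v ∈ V, PE p v) {x' : G}
    (hx' : x' ∈ V) (hx1 : x' ≠ 1) {w : G} (hw : PE p w) : ∃ c ∈ V, c ≠ 1 ∧ c ∈ cz w := by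
  haveI : Fact p.Prime := ⟨hp⟩
  haveI := hVn
  letI act : MulAction (Subgroup.zpowers w) V :=
    MulAction.compHom V ((MulAut.conjNormal (H := V)).comp (Subgroup.zpowers w).subtype)
  have hP : IsPGroup p (Subgroup.zpowers w) := zpowers_isPGroup hp hw
  have hd : p ∣ Nat.card V := by
    have h1 := orderOf_dvd_natCard (⟨x', hx'⟩ : V)
    rw [← Subgroup.orderOf_coe] at h1
    exact ((hVp x' hx').dvd_orderOf hp hx1).trans h1
  have h1 : (1 : V) ∈ MulAction.fixedPoints (Subgroup.zpowers w) V := by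
    intro g
    show (MulAut.conjNormal (H := V) (g : G)) 1 = 1
    exact map_one _
  obtain ⟨b, hb, hne⟩ := hP.exists_fixed_point_of_prime_dvd_card_of_fixed_point V hd h1
  have h2 := hb ⟨w, Subgroup.mem_zpowers w⟩
  have h3 : w * (b : G) * w⁻¹ = b := by
    have h4 : ((MulAut.conjNormal (H := V) w) b : G) = b := congrArg Subtype.val h2
    rwa [MulAut.conjNormal_apply] at h4
  refine ⟨b, b.2, fun h4 => hne (Subtype.ext h4.symm), ?_⟩
  rw [mem_cz]
  have h5 := congrArg (fun t => t * w) h3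
  simp only [inv_mul_cancel_right] at h5
  exact h5.symm

theorem F4.step2a (h : F4 G n m) (hnp : ¬ PP n m) {p q : ℕ} (hp : p.Prime) (hq : q.Prime) (hpq : p ≠ q) {y : G}
    (hy : PE q y) (hcy : cs y = m) (hqn : q ∣ n) {V : Subgroup G} {x' : G} (hV : VD V p x' y n) :
    ∀ w ∈ cz y, PE p w → w ∈ Subgroup.center G := by
  haveI : Fact q.Prime := ⟨hq⟩
  intro w hwy hwp
  by_contra hwc
  have hn1 := h.hn
  have hm1 := h.hm
  have hx1 : x' ≠ 1 := by
    rintro rfl
    have := hV.cs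
    rw [cs_eq_one.2 (Subgroup.one_mem _)] at this
    omega
  obtain ⟨c0, hc0, hc01, hc0w⟩ := exists_fixed hp hV.nor hV.pe hV.mem hx1 hwp
  have hyw : y ∈ cz w := mem_cz_symm hwy
  have hqm : ¬ q ∣ m := fun h1 => Nat.not_coprime_of_dvd_of_dvd hq.one_lt hqn h1 h.cop
  rcases h.all w with h1 | h1 | h1 | h1
  · exact hwc (cs_eq_one.1 h1)
  · exact hnp (h.alpha hp hq hpq hwp hy h1 hcy hyw)
  · -- cs w = m
    obtain ⟨Q, hQ1, hQ2⟩ := exists_sylow_le hq (g := w) (by rw [h1]; exact hqm) (zpowers_isPGroup hq hy)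
      (by rw [Subgroup.zpowers_le]; exact hyw)
    obtain ⟨Q1, hQ11, hQ12⟩ := exists_sylow_le hq (g := y) (by rw [hcy]; exact hqm) (zpowers_isPGroup hq hy)
      (by rw [Subgroup.zpowers_le]; exact self_mem y)
    obtain ⟨c, hc⟩ := MulAction.exists_smul_eq G Q1 Q
    have hQy' : (Q : Subgroup G) ≤ cz (c * y * c⁻¹) := by
      intro z hz
      rw [← hc] at hz
      obtain ⟨t, ht, rfl⟩ := hz
      have h3 := mem_cz.1 (hQ12 ht)
      rw [mem_cz]
      show (c * t * c⁻¹) * (c * y * c⁻¹) = (c * y * c⁻¹) * (c * t * c⁻¹)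
      calc (c * t * c⁻¹) * (c * y * c⁻¹) = c * (t * y) * c⁻¹ := by group
        _ = c * (y * t) * c⁻¹ := by rw [h3]
        _ = (c * y * c⁻¹) * (c * t * c⁻¹) := by group
    have hy'Q : c * y * c⁻¹ ∈ (Q : Subgroup G) := by
      rw [← SetLike.mem_coe, ← hc]
      exact ⟨y, hQ11 (Subgroup.mem_zpowers y), rfl⟩
    have hy'w : c * y * c⁻¹ ∈ cz w := hQ2 hy'Q
    have hcop : (orderOf w).Coprime (orderOf (c * y * c⁻¹)) := hwp.cop hp hq hpq (hy.conj c)
    have h2 : cz (w * (c * y * c⁻¹)) = cz w ⊓ cz (c * y * c⁻¹) := cz_mul (mem_cz.1 hy'w).symm hcop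
    have h3 : ¬ q ∣ cs (w * (c * y * c⁻¹)) := by
      intro h4
      have h5 : (Q : Subgroup G) ≤ cz (w * (c * y * c⁻¹)) := by rw [h2]; exact le_inf hQ2 hQy'
      have h6 : cs (w * (c * y * c⁻¹)) ∣ (Q : Subgroup G).index := Subgroup.index_dvd_of_le h5
      exact Q.not_dvd_index (h4.trans h6)
    have h4 : cs w ∣ cs (w * (c * y * c⁻¹)) := cs_dvd (by rw [h2]; exact inf_le_left)
    have h5 : cs w = cs (w * (c * y * c⁻¹)) := by
      rcases h.all (w * (c * y * c⁻¹)) with h6 | h6 | h6 | h6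
      · rw [h6, h1, Nat.dvd_one] at h4; omega
      · rw [h6] at h3; exact absurd hqn h3
      · rw [h6, h1]
      · rw [h6] at h3; exact absurd (hqn.mul_right m) h3
    have h6 : cz (w * (c * y * c⁻¹)) = cz w := cz_eq_of_cs (by rw [h2]; exact inf_le_left) h5.symm
    have h7 : cz w ≤ cz (c * y * c⁻¹) := by rw [← h6, h2]; exact inf_le_right
    have h8 := mem_cz.1 (h7 hc0w)
    have h9 : c⁻¹ * c0 * c ∈ cz y := by
      rw [mem_cz]
      calc c⁻¹ * c0 * c * y = c⁻¹ * (c0 * (c * y * c⁻¹)) * c := by group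
        _ = c⁻¹ * ((c * y * c⁻¹) * c0) * c := by rw [h8]
        _ = y * (c⁻¹ * c0 * c) := by group
    have h10 : c⁻¹ * c0 * c ∈ V := by
      have := hV.nor.conj_mem c0 hc0 c⁻¹
      rwa [inv_inv] at this
    have h11 := hV.cy _ h10 h9
    apply hc01
    calc c0 = c * (c⁻¹ * c0 * c) * c⁻¹ := by group
      _ = 1 := by rw [h11]; group
  · have h2 := h.le_of_max h1 hyw (hwp.cop hp hq hpq hy)
    exact hc01 (hV.cy c0 hc0 (h2 hc0w))

/-- elements commuting with a noncentral `p`-element -/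
theorem F4.two_b (h : F4 G n m) {p : ℕ} (hp : p.Prime) {y : G} (hcy : cs y = m)
    (hA : ∀ w ∈ cz y, PE p w → w ∈ Subgroup.center G) {u w : G} (hw : w ∈ cz u) (hwp : PE p w)
    (hwc : w ∉ Subgroup.center G) : cs u = 1 ∨ cs u = n := by
  have h1 := lemT hp hA hw hwp hwc
  rw [hcy] at h1
  rcases h.all u with h2 | h2 | h2 | h2
  · exact Or.inl h2
  · exact Or.inr h2
  · rw [h2] at h1; exact absurd dvd_rfl h1
  · rw [h2] at h1; exact absurd (Dvd.intro_left n rfl) h1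

theorem F4.two_d (h : F4 G n m) {p : ℕ} (hp : p.Prime) {y : G} (hcy : cs y = m)
    (hA : ∀ w ∈ cz y, PE p w → w ∈ Subgroup.center G) {u w : G} (hw : u ∈ cz w) (hwp : PE p w)
    (hwc : w ∉ Subgroup.center G) {s : ℕ} (hs : s.Prime) (hsp : s ≠ p) (hus : PE s u)
    (huc : u ∉ Subgroup.center G) : cz u = cz w := by
  have hn1 := h.hn
  have h1 : cs u = n := by
    rcases h.two_b hp hcy hA (mem_cz_symm hw) hwp hwc with h1 | h1
    · exact absurd (cs_eq_one.1 h1) huc
    · exact h1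
  have h1w : cs w = n := by
    rcases h.two_b hp hcy hA (self_mem w) hwp hwc with h1 | h1
    · exact absurd (cs_eq_one.1 h1) hwc
    · exact h1
  have hcop : (orderOf w).Coprime (orderOf u) := hwp.cop hp hs (Ne.symm hsp) hus
  have h2 : cz (w * u) = cz w ⊓ cz u := cz_mul (mem_cz.1 hw).symm hcop
  have h3 : w ∈ cz (w * u) := by rw [h2]; exact ⟨self_mem w, mem_cz_symm hw⟩
  have h4 : cs (w * u) = n := by
    rcases h.two_b hp hcy hA h3 hwp hwc with h4 | h4
    · exfalso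
      have h5 : cs w ∣ cs (w * u) := cs_dvd (by rw [h2]; exact inf_le_left)
      rw [h4, h1w, Nat.dvd_one] at h5
      omega
    · exact h4
  have h5 : cz (w * u) = cz w := cz_eq_of_cs (by rw [h2]; exact inf_le_left) (by rw [h4, h1w])
  have h6 : cz (w * u) = cz u := cz_eq_of_cs (by rw [h2]; exact inf_le_right) (by rw [h4, h1])
  rw [← h6, h5]

theorem F4.step2 (h : F4 G n m) (hnp : ¬ PP n m) (hnm : n < m) {p q : ℕ} (hp : p.Prime) (hq : q.Prime)
    (hpq : p ≠ q) {x y : G} (hx : PE p x) (hy : PE q y) (hcx : cs x = n) (hcy : cs y = m) (hqn : q ∣ n) :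
    False := by
  have hn1 := h.hn
  have hm1 := h.hm
  have hqm : ¬ q ∣ m := fun h1 => Nat.not_coprime_of_dvd_of_dvd hq.one_lt hqn h1 h.cop
  have hxy : x ∉ cz y := fun h1 => hnp (h.alpha hp hq hpq hx hy hcx hcy (mem_cz_symm h1))
  obtain ⟨hpm, V, x', hV⟩ := h.step1 hnm hp hq hpq hx hy hcx hcy hxy
  have hx'p : PE p x' := hV.pe x' hV.mem
  have hx'c : x' ∉ Subgroup.center G := not_central_of_cs (by rw [hV.cs]; exact hn1.ne')
  have hA := h.step2a hnp hp hq hpq hy hcy hqn hV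
  -- 2c
  have hC : ∀ t : ℕ, t.Prime → t ∣ m → ∀ w ∈ cz y, PE t w → w ∈ Subgroup.center G := by
    intro t ht htm
    by_cases htp : t = p
    · rw [htp]; exact hA
    have htn : ¬ t ∣ n := fun h1 => Nat.not_coprime_of_dvd_of_dvd ht.one_lt h1 htm h.cop
    obtain ⟨u, hu, hut, huc⟩ := exists_PE_cz (g := x') ht (htm.trans (hcy ▸ cs_dvd_index_center y))
      (by rw [hV.cs]; exact htn)
    have hcu : cs u = n := by
      rcases h.two_b hp hcy hA (mem_cz_symm hu) hx'p hx'c with h1 | h1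
      · exact absurd (cs_eq_one.1 h1) huc
      · exact h1
    have htq : t ≠ q := by rintro rfl; exact hqm htm
    have huy : u ∉ cz y := fun h1 => hnp (h.alpha ht hq htq hut hy hcu hcy (mem_cz_symm h1))
    obtain ⟨_, Vt, xt, hVt⟩ := h.step1 hnm ht hq htq hut hy hcu hcy huy
    exact h.step2a hnp ht hq htq hy hcy hqn hVt
  -- 2e
  have hE : ∃ (s : ℕ) (u : G), s.Prime ∧ s ∣ n ∧ u ∈ cz x' ∧ PE s u ∧ u ∉ Subgroup.center G := by
    by_contra hno
    push Not at hno
    obtain ⟨w1, hw1⟩ := h.exnm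
    have hw1c : w1 ∉ Subgroup.center G := not_central_of_cs (by rw [hw1]; nlinarith)
    obtain ⟨r, k, hr, hk, hkc⟩ := exists_primary hw1c
    have hwk : w1 ^ k ∈ cz w1 := (cz w1).pow_mem (self_mem w1) k
    by_cases hrn : r ∣ n
    · refine lemT hr (y := x') (u := w1) (fun w hw hwr => hno r w hr hrn hw hwr) hwk hk hkc ?_
      rw [hV.cs, hw1]; exact Dvd.intro m rfl
    by_cases hrm : r ∣ m
    · refine lemT hr (y := y) (u := w1) (hC r hr hrm) hwk hk hkc ?_
      rw [hcy, hw1]; exact Dvd.intro_left n rfl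
    · apply hkc
      apply central_of_not_dvd hr _ hk
      intro g hg
      rcases h.all g with h1 | h1 | h1 | h1
      · rw [h1, Nat.dvd_one] at hg; exact hr.one_lt.ne' hg
      · rw [h1] at hg; exact hrn hg
      · rw [h1] at hg; exact hrm hg
      · rw [h1] at hg
        rcases hr.dvd_mul.1 hg with h2 | h2
        · exact hrn h2
        · exact hrm h2
  obtain ⟨s, u, hs, hsn, hu, hus, huc⟩ := hE
  have hsm : ¬ s ∣ m := fun h1 => Nat.not_coprime_of_dvd_of_dvd hs.one_lt hsn h1 h.cop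
  have hsp : s ≠ p := by rintro rfl; exact hsm hpm
  have hux : cz u = cz x' := h.two_d hp hcy hA hu hx'p hx'c hs hsp hus huc
  obtain ⟨c, hc⟩ := exists_conj_mem_cz hs (g := y) (by rw [hcy]; exact hsm) hus
  -- `w := c⁻¹ x' c`
  have hw : c⁻¹ * x' * c ∈ V := by
    have := hV.nor.conj_mem x' hV.mem c⁻¹
    rwa [inv_inv] at this
  have hwc : c⁻¹ * x' * c ∉ Subgroup.center G := by
    have := conj_not_central hx'c c⁻¹
    rwa [inv_inv] at this
  have huw : u ∈ cz (c⁻¹ * x' * c) := by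
    have h1 : c⁻¹ * x' * c ∈ cz u := by
      rw [hux, mem_cz]
      exact hV.ab _ hw _ hV.mem
    exact mem_cz_symm h1
  have huw2 : cz u = cz (c⁻¹ * x' * c) := h.two_d hp hcy hA huw (hV.pe _ hw) hwc hs hsp hus huc
  have h1 : c⁻¹ * y * c ∈ cz u := by
    have h2 := mem_cz.1 hc
    rw [mem_cz]
    calc c⁻¹ * y * c * u = c⁻¹ * (y * (c * u * c⁻¹)) * c := by group
      _ = c⁻¹ * ((c * u * c⁻¹) * y) * c := by rw [h2]
      _ = u * (c⁻¹ * y * c) := by group
  rw [huw2, mem_cz] at h1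
  have h3 : x' ∈ cz y := by
    rw [mem_cz]
    calc x' * y = c * ((c⁻¹ * x' * c) * (c⁻¹ * y * c)) * c⁻¹ := by group
      _ = c * ((c⁻¹ * y * c) * (c⁻¹ * x' * c)) * c⁻¹ := by rw [h1]
      _ = y * x' := by group
  have h4 := hV.cy x' hV.mem h3
  exact hx'c (by rw [h4]; exact Subgroup.one_mem _)

theorem F4.prime_dvd (h : F4 G n m) {q : ℕ} (hq : q.Prime) {y : G} (hy : PE q y) (hyc : y ∉ Subgroup.center G) :
    q ∣ n ∨ q ∣ m := by
  by_contra hno
  push Not at hno
  apply hyc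
  apply central_of_not_dvd hq _ hy
  intro g hg
  rcases h.all g with h1 | h1 | h1 | h1
  · rw [h1, Nat.dvd_one] at hg; exact hq.one_lt.ne' hg
  · rw [h1] at hg; exact hno.1 hg
  · rw [h1] at hg; exact hno.2 hg
  · rw [h1] at hg
    rcases hq.dvd_mul.1 hg with h2 | h2
    · exact hno.1 h2
    · exact hno.2 h2

theorem F4.step3 (h : F4 G n m) (hnp : ¬ PP n m) (hnm : n < m) {p q : ℕ} (hp : p.Prime) (hq : q.Prime)
    (hpq : p ≠ q) {x y : G} (hx : PE p x) (hy : PE q y) (hcx : cs x = n) (hcy : cs y = m) : False := by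
  have hn1 := h.hn
  have hm1 := h.hm
  by_cases hqn : q ∣ n
  · exact h.step2 hnp hnm hp hq hpq hx hy hcx hcy hqn
  have hxy : x ∉ cz y := fun h1 => hnp (h.alpha hp hq hpq hx hy hcx hcy (mem_cz_symm h1))
  obtain ⟨hpm, _⟩ := h.step1 hnm hp hq hpq hx hy hcx hcy hxy
  have hpn : ¬ p ∣ n := fun h1 => Nat.not_coprime_of_dvd_of_dvd hp.one_lt h1 hpm h.cop
  have hyc : y ∉ Subgroup.center G := not_central_of_cs (by rw [hcy]; exact hm1.ne')
  have hqm : q ∣ m := (h.prime_dvd hq hy hyc).resolve_left hqn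
  obtain ⟨r, hr, hrn⟩ := Nat.exists_prime_and_dvd hn1.ne'
  have hrm : ¬ r ∣ m := fun h1 => Nat.not_coprime_of_dvd_of_dvd hr.one_lt hrn h1 h.cop
  have hrp : r ≠ p := by rintro rfl; exact hpn hrn
  have hrq : r ≠ q := by rintro rfl; exact hqn hrn
  have hW : ∀ w : G, PE r w → w ∉ Subgroup.center G → cs w = n * m := by
    intro w hw hwc
    obtain ⟨c, hc⟩ := exists_conj_mem_cz hr (g := y) (by rw [hcy]; exact hrm) hw
    have h1 := cs_conj c w
    rcases h.all w with h2 | h2 | h2 | h2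
    · exact absurd (cs_eq_one.1 h2) hwc
    · exact absurd (h.alpha hr hq hrq (hw.conj c) hy (h1.trans h2) hcy (mem_cz_symm hc)) hnp
    · exact (h.step2 hnp hnm hp hr (Ne.symm hrp) hx hw hcx h2 hrn).elim
    · exact h2
  obtain ⟨w0, _, hw0r, hw0c⟩ := exists_PE_cz (g := y) hr (hrn.trans (hcx ▸ cs_dvd_index_center x))
    (by rw [hcy]; exact hrm)
  have hcw0 := hW w0 hw0r hw0c
  have hex : ∃ w ∈ cz x, PE r w ∧ w ∉ Subgroup.center G := by
    by_contra hno
    push Not at hno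
    exact lemT hr (y := x) (u := w0) hno (self_mem w0) hw0r hw0c (by rw [hcx, hcw0]; exact Dvd.intro m rfl)
  obtain ⟨w, hw, hwr, hwc⟩ := hex
  have hcw := hW w hwr hwc
  have hnc : ¬ cz x ≤ cz w := fun hle => h.not_dvd' (by
    have h1 := cs_dvd hle
    rw [hcx, hcw] at h1
    exact (Dvd.intro_left n rfl).trans h1)
  have hqpc : ∀ c : ℕ, m ≠ p ^ c := by
    intro c hc
    rw [hc] at hqm
    exact hpq ((Nat.prime_dvd_prime_iff_eq hq hp).1 (hq.dvd_of_dvd_pow hqm)).symm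
  rcases h.str hp hx hcx hw (hwr.cop_prime hp hr hrp) hnc with ⟨c, hc⟩ | ⟨q1, hq1, hq1p, ⟨c, d, hcd⟩, hF⟩
  · exact hqpc c hc
  · by_cases hrq1 : r = q1
    · subst hrq1
      rcases Nat.eq_zero_or_pos d with hd | hd
      · subst hd
        rw [pow_zero, mul_one] at hcd
        exact hqpc c hcd
      · exact hrm (hcd ▸ (dvd_pow_self r hd.ne').mul_left _)
    · exact hnc (hF r hr hrp hrq1 w hw hwr)

theorem F4.pp_aux (h : F4 G n m) (hnp : ¬ PP n m) (hnm : n < m) : False := by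
  obtain ⟨r1, x, hr1, hx, hcx⟩ := h.exX
  obtain ⟨r2, y, hr2, hy, hcy⟩ := h.symm.exX
  have key : ∀ {p q : ℕ}, p.Prime → q.Prime → ∀ {a b : G}, PE p a → PE q b → cs a = n → cs b = m → p = q := by
    intro p q hp hq a b ha hb hca hcb
    by_contra hpq
    exact h.step3 hnp hnm hp hq hpq ha hb hca hcb
  apply hnp
  refine h.r2 hr1 ?_
  intro r hr z hz hcz
  rcases hcz with h1 | h1
  · rw [key hr hr2 hz hy h1 hcy, key hr1 hr2 hx hy hcx hcy]
  · exact (key hr1 hr hx hz hcx h1).symm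

theorem F4.pp (h : F4 G n m) : PP n m := by
  by_contra hnp
  rcases lt_trichotomy n m with h1 | h1 | h1
  · exact h.pp_aux hnp h1
  · have h2 := h.cop
    have h3 := h.hn
    rw [← h1, Nat.coprime_self] at h2
    omega
  · exact h.symm.pp_aux (fun h2 => hnp h2.symm) h1

end Cfsg.Agent.BT.Fc
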