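import Cfsg.Agent.BT.FcF

/-!
# S4146: assembly
-/

set_option autoImplicit false
set_option linter.style.haveILetI false
set_option linter.unusedSectionVars false

namespace Cfsg.Agent.BT.Fc

open Cfsg.Agent.H35.CR

universe u

/-- the statements of the pieces -/
def Nat1 : Prop := ∀ {G : Type u} [Group G] [Finite G] {p q a b : ℕ} (_ : F4 G (p ^ a) (q ^ b)) (_ : p.Prime) (_ : q.Prime)
  (_ : p ≠ q) {x y : G} (_ : PE p x) (_ : cs x = p ^ a) (_ : PE q y) (_ : cs y = q ^ b), Group.IsNilpotent G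

def Mixed1 : Prop := ∀ {G : Type u} [Group G] [Finite G] {p q a b : ℕ} (_ : F4 G (p ^ a) (q ^ b)) (_ : p.Prime) (_ : q.Prime)
  (_ : p ≠ q) {x y : G} (_ : PE q x) (_ : cs x = p ^ a) (_ : PE q y) (_ : cs y = q ^ b), False

def Unnat1 : Prop := ∀ {G : Type u} [Group G] [Finite G] {p q a b : ℕ} (_ : F4 G (p ^ a) (q ^ b)) (_ : p.Prime) (_ : q.Prime)
  (_ : p ≠ q) (_ : ∀ x : G, PE p x → cs x ≠ p ^ a) (_ : ∀ y : G, PE q y → cs y ≠ q ^ b), False

theorem camina (c1 : Nat1.{u}) (c2 : Mixed1.{u}) (c3 : Unnat1.{u}) {G : Type u} [Group G] [Finite G] {p q a b : ℕ}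
    (h : F4 G (p ^ a) (q ^ b)) (hp : p.Prime) (hq : q.Prime) (hpq : p ≠ q) : Group.IsNilpotent G := by
  have hpr : ∀ {r : ℕ}, r.Prime → ∀ {z : G}, PE r z → z ∉ Subgroup.center G → r = p ∨ r = q := by
    intro r hr z hz hzc
    rcases h.prime_dvd hr hz hzc with h1 | h1
    · exact Or.inl ((Nat.prime_dvd_prime_iff_eq hr hp).1 (hr.dvd_of_dvd_pow h1))
    · exact Or.inr ((Nat.prime_dvd_prime_iff_eq hr hq).1 (hr.dvd_of_dvd_pow h1))
  have hnX : ∀ {z : G}, cs z = p ^ a → z ∉ Subgroup.center G := fun hz =>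
    not_central_of_cs (by rw [hz]; exact h.hn.ne')
  have hnY : ∀ {z : G}, cs z = q ^ b → z ∉ Subgroup.center G := fun hz =>
    not_central_of_cs (by rw [hz]; exact h.hm.ne')
  obtain ⟨r1, x, hr1, hx, hcx⟩ := h.exX
  obtain ⟨r2, y, hr2, hy, hcy⟩ := h.symm.exX
  by_cases hX : ∃ x : G, PE p x ∧ cs x = p ^ a
  · obtain ⟨x, hx, hcx⟩ := hX
    rcases hpr hr2 hy (hnY hcy) with e | e
    · rw [e] at hy
      exact (c2 h.symm hq hp (Ne.symm hpq) hy hcy hx hcx).elim
    · rw [e] at hy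
      exact c1 h hp hq hpq hx hcx hy hcy
  · push Not at hX
    have hxq : PE q x := by
      rcases hpr hr1 hx (hnX hcx) with e | e
      · rw [e] at hx; exact absurd hcx (hX x hx)
      · rw [e] at hx; exact hx
    by_cases hY : ∃ y : G, PE q y ∧ cs y = q ^ b
    · obtain ⟨y, hy, hcy⟩ := hY
      exact (c2 h hp hq hpq hxq hcx hy hcy).elim
    · push Not at hY
      exact (c3 h hp hq hpq hX hY).elim

theorem main (c1 : Nat1.{u}) (c2 : Mixed1.{u}) (c3 : Unnat1.{u}) {G : Type u} [Group G] [Finite G] (n m : ℕ)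
    (hn : 1 < n) (hm : 1 < m) (hcop : n.Coprime m)
    (h : Set.range (fun x : G => (Subgroup.centralizer ({x} : Set G)).index) = ({1, n, m, n * m} : Set ℕ)) :
    Group.IsNilpotent G ∧ IsPrimePow n ∧ IsPrimePow m := by
  have hF : F4 G n m := by
    refine ⟨hn, hm, hcop, ?_, ?_, ?_, ?_⟩
    · intro g
      have h1 : cs g ∈ Set.range (fun x : G => (Subgroup.centralizer ({x} : Set G)).index) := ⟨g, rfl⟩
      rw [h] at h1
      exact h1
    · have h1 : n ∈ Set.range (fun x : G => (Subgroup.centralizer ({x} : Set G)).index) := by rw [h]; simp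
      exact h1
    · have h1 : m ∈ Set.range (fun x : G => (Subgroup.centralizer ({x} : Set G)).index) := by rw [h]; simp
      exact h1
    · have h1 : n * m ∈ Set.range (fun x : G => (Subgroup.centralizer ({x} : Set G)).index) := by rw [h]; simp
      exact h1
  obtain ⟨p, q, a, b, hp, hq, hpq, hnp, hmq⟩ := hF.pp
  subst hnp hmq
  refine ⟨camina c1 c2 c3 hF hp hq hpq, ⟨p, a, hp.prime, ?_, rfl⟩, ⟨q, b, hq.prime, ?_, rfl⟩⟩
  · rcases Nat.eq_zero_or_pos a with h0 | h0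
    · rw [h0, pow_zero] at hn; exact absurd hn (lt_irrefl _)
    · exact h0
  · rcases Nat.eq_zero_or_pos b with h0 | h0
    · rw [h0, pow_zero] at hm; exact absurd hm (lt_irrefl _)
    · exact h0

end Cfsg.Agent.BT.Fc
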