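import Cfsg.Agent.BT.FcPri
import Cfsg.Agent.S4033
import Cfsg.Agent.S4034

/-!
# S4146: structure of centralizers from the theorem on two p-regular class sizes.
-/

set_option autoImplicit false
set_option linter.style.haveILetI false
set_option linter.unusedSectionVars false

namespace Cfsg.Agent.BT.Fc

open Cfsg.Agent.H35.CR

universe u

variable {G : Type u} [Group G] [Finite G]

theorem cs_mul {x u : G} (hxu : u ∈ cz x) (hcop : (orderOf x).Coprime (orderOf u)) :
    cs (x * u) = (cz u).relIndex (cz x) * cs x := by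
  have h1 : cz (x * u) = cz x ⊓ cz u := cz_mul (mem_cz.1 hxu).symm hcop
  rw [cs, h1, cs, ← Subgroup.relIndex_mul_index (show cz x ⊓ cz u ≤ cz x from inf_le_left),
    Subgroup.inf_relIndex_left]

theorem ncard_sub (x : G) (u : cz x) : (ConjClasses.mk u).carrier.ncard = (cz (u : G)).relIndex (cz x) := by
  rw [Cfsg.Agent.H67.ncard_carrier_eq_index u]
  have : Subgroup.centralizer ({u} : Set (cz x)) = (cz (u : G)).subgroupOf (cz x) := by
    ext z
    rw [Subgroup.mem_centralizer_singleton_iff, Subgroup.mem_subgroupOf, mem_cz, ← Subgroup.coe_mul,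
      ← Subgroup.coe_mul, Subtype.ext_iff]
  rw [this]
  rfl

variable {n m : ℕ}

theorem F4.not_dvd (h : F4 G n m) : ¬ n ∣ m := by
  intro hd
  have := Nat.Coprime.eq_one_of_dvd h.cop hd
  exact h.hn.ne' this

theorem F4.reg (h : F4 G n m) {x : G} (hcx : cs x = n) {u : G} (hu : u ∈ cz x)
    (hcop : (orderOf x).Coprime (orderOf u)) : (cz u).relIndex (cz x) = 1 ∨ (cz u).relIndex (cz x) = m := by
  have h1 := cs_mul hu hcop
  rw [hcx] at h1
  have hn0 : 0 < n := lt_trans Nat.zero_lt_one h.hn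
  rcases h.all (x * u) with h2 | h2 | h2 | h2
  · exfalso
    rw [h2] at h1
    have : n ∣ 1 := ⟨_, by rw [mul_comm]; exact h1⟩
    exact h.hn.ne' (Nat.dvd_one.1 this)
  · left
    rw [h2] at h1
    exact Nat.eq_of_mul_eq_mul_right hn0 (by rw [one_mul]; exact h1.symm)
  · exfalso
    rw [h2] at h1
    exact h.not_dvd ⟨_, by rw [mul_comm]; exact h1⟩
  · right
    rw [h2, mul_comm n m] at h1
    exact (Nat.eq_of_mul_eq_mul_right hn0 h1).symm

/-- structure of `cz x` for a `p`-element `x` with class size `n` having a noncentral `p`-regular element in `cz x`. -/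
theorem F4.str (h : F4 G n m) {p : ℕ} (hp : p.Prime) {x : G} (hx : PE p x) (hcx : cs x = n) {u : G}
    (hu : u ∈ cz x) (hup : (orderOf u).Coprime p) (hnc : ¬ cz x ≤ cz u) :
    (∃ c, m = p ^ c) ∨ ∃ q : ℕ, q.Prime ∧ q ≠ p ∧ (∃ c d, m = p ^ c * q ^ d) ∧
      ∀ r : ℕ, r.Prime → r ≠ p → r ≠ q → ∀ w ∈ cz x, PE r w → cz x ≤ cz w := by
  classical
  have hreg : ∀ v : cz x, (orderOf v).Coprime p → (ConjClasses.mk v).carrier.ncard = 1 ∨
      (ConjClasses.mk v).carrier.ncard = m := by
    intro v hv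
    rw [ncard_sub]
    obtain ⟨k, hk⟩ := hx.orderOf hp
    refine h.reg hcx v.2 ?_
    rw [hk, Subgroup.orderOf_coe]
    exact Nat.Coprime.pow_left _ hv.symm
  have hum : (ConjClasses.mk (⟨u, hu⟩ : cz x)).carrier.ncard = m := by
    have huo : (orderOf (⟨u, hu⟩ : cz x)).Coprime p := by
      rw [← Subgroup.orderOf_coe]; exact hup
    rcases hreg ⟨u, hu⟩ huo with h1 | h1
    · exfalso
      rw [ncard_sub] at h1
      exact hnc (Subgroup.relIndex_eq_one.1 h1)
    · exact h1
  have h1m : (1 : ℕ) ≠ m := h.hm.ne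
  have h2 : Set.ncard (Set.range fun v : {v : cz x // (orderOf v).Coprime p} =>
      (ConjClasses.mk (v : cz x)).carrier.ncard) = 2 := by
    have : (Set.range fun v : {v : cz x // (orderOf v).Coprime p} =>
        (ConjClasses.mk (v : cz x)).carrier.ncard) = {1, m} := by
      ext k
      constructor
      · rintro ⟨⟨v, hv⟩, rfl⟩
        rcases hreg v hv with h1 | h1
        · left; exact h1
        · right; exact h1
      · rintro (rfl | hk)
        · refine ⟨⟨1, by simp⟩, ?_⟩
          show (ConjClasses.mk (1 : cz x)).carrier.ncard = 1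
          rw [ncard_sub]
          rw [Subgroup.relIndex_eq_one]
          intro z _
          rw [mem_cz]
          simp
        · rw [Set.mem_singleton_iff] at hk
          subst hk
          exact ⟨⟨⟨u, hu⟩, by rw [← Subgroup.orderOf_coe]; exact hup⟩, hum⟩
    rw [this, Set.ncard_pair h1m]
  rcases Cfsg.Agent.S4033.result hp h2 with ⟨H, hH1, hH2, hH3⟩ | ⟨q, hq, P, Q, A, hqp, hA, hcard, hN, hinf, hsup⟩
  · left
    obtain ⟨c, hc⟩ := (Cfsg.Agent.S4034.result hp).2 ⟨H, hH1, hH2, hH3⟩ (⟨u, hu⟩ : cz x) (by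
      rw [← Subgroup.orderOf_coe]; exact hup)
    exact ⟨c, by rw [← hum, hc]⟩
  · right
    haveI : Fact p.Prime := ⟨hp⟩
    set N := (P : Subgroup (cz x)) ⊔ (Q : Subgroup (cz x)) with hNdef
    haveI : N.Normal := hN
    obtain ⟨i, hi⟩ := IsPGroup.iff_card.1 P.2
    obtain ⟨j, hj⟩ := IsPGroup.iff_card.1 Q.2
    have hNcard : Nat.card N = p ^ i * q ^ j := by rw [hcard, hi, hj]
    have hprod : ∀ z : cz x, ∃ s ∈ N, ∃ t ∈ A, s * t = z := by
      intro z
      have hz : z ∈ N ⊔ A := by rw [hsup]; trivial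
      exact Subgroup.mem_sup_of_normal_left.1 hz
    have hAidx : A.index = Nat.card N := by
      have hc : N.IsComplement' A := by
        apply Subgroup.isComplement'_of_disjoint_and_mul_eq_univ
        · rw [disjoint_iff]; exact hinf
        · ext z
          simp only [Set.mem_univ, iff_true]
          obtain ⟨s, hs, t, ht, hst⟩ := hprod z
          exact ⟨s, hs, t, ht, hst⟩
      exact hc.index_eq_card
    refine ⟨q, hq.out, hqp, ?_, ?_⟩
    · have h3 : m ∣ Nat.card N := by
        rw [← hAidx, ← hum, Cfsg.Agent.H67.ncard_carrier_eq_index]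
        apply Subgroup.index_dvd_of_le
        intro a ha
        rw [Subgroup.mem_centralizer_singleton_iff]
        exact (Subgroup.mem_center_iff.1 (hA ha) _).symm
      rw [hNcard] at h3
      obtain ⟨k1, k2, hk1, hk2, hk⟩ := (Nat.dvd_mul).1 h3
      obtain ⟨c, _, hc⟩ := (Nat.dvd_prime_pow hp).1 hk1
      obtain ⟨d, _, hd⟩ := (Nat.dvd_prime_pow hq.out).1 hk2
      exact ⟨c, d, by rw [← hk, hc, hd]⟩
    · intro r hr hrp hrq w hw hwr
      obtain ⟨k, hk⟩ := hwr
      obtain ⟨s, hs, t, ht, hst⟩ := hprod ⟨w, hw⟩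
      have hcomm : Commute s t := (Subgroup.mem_center_iff.1 (hA ht) s)
      have h4 : (⟨w, hw⟩ : cz x) ^ Nat.card N = t ^ Nat.card N := by
        rw [← hst, hcomm.mul_pow]
        have : s ^ Nat.card N = 1 := by
          have := pow_card_eq_one' (x := (⟨s, hs⟩ : N))
          exact congrArg Subtype.val this
        rw [this, one_mul]
      have hcopN : (Nat.card N).Coprime (r ^ k) := by
        rw [hNcard]
        apply Nat.Coprime.pow_right
        apply Nat.Coprime.mul_left
        · exact Nat.Coprime.pow_left _ ((Nat.coprime_primes hp hr).2 (Ne.symm hrp))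
        · exact Nat.Coprime.pow_left _ ((Nat.coprime_primes hq.out hr).2 (Ne.symm hrq))
      have h5 : (⟨w, hw⟩ : cz x) ∈ A := by
        have h6 : (⟨w, hw⟩ : cz x) ^ (r ^ k) = 1 := Subtype.ext hk
        have h7 : (⟨w, hw⟩ : cz x) ^ Nat.card N ∈ A := by rw [h4]; exact A.pow_mem ht _
        have h8 : (Nat.card N).Coprime (orderOf (⟨w, hw⟩ : cz x)) :=
          Nat.Coprime.coprime_dvd_right (orderOf_dvd_of_pow_eq_one h6) hcopN
        obtain ⟨e, he⟩ := exists_pow_eq_self_of_coprime h8
        rw [← he]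
        exact A.pow_mem h7 e
      intro z hz
      have h9 := Subgroup.mem_center_iff.1 (hA h5) ⟨z, hz⟩
      rw [mem_cz]
      exact congrArg Subtype.val h9

end Cfsg.Agent.BT.Fc
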