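import Cfsg.Agent.BT.FcV
import Cfsg.Agent.H65.FcC1

/-!
# S4146, piece C2
-/

set_option autoImplicit false
set_option linter.style.haveILetI false
set_option linter.unusedSectionVars false

open Cfsg

namespace Cfsg.Agent.BT.Fc

open Cfsg.Agent.H35.CR

universe u

/-- the unnatural situation -/
structure UN (G : Type u) [Group G] [Finite G] (p q a b : ℕ) : Prop where
  h : F4 G (p ^ a) (q ^ b)
  hp : p.Prime
  hq : q.Prime
  hpq : p ≠ q
  hX : ∀ x : G, PE p x → cs x ≠ p ^ a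
  hY : ∀ y : G, PE q y → cs y ≠ q ^ b

variable {G : Type u} [Group G] [Finite G] {p q a b : ℕ}

theorem UN.symm (U : UN G p q a b) : UN G q p b a :=
  ⟨U.h.symm, U.hq, U.hp, Ne.symm U.hpq, U.hY, U.hX⟩

theorem UN.a_ne (U : UN G p q a b) : a ≠ 0 := by
  rintro rfl
  have := U.h.hn
  simp at this

theorem UN.b_ne (U : UN G p q a b) : b ≠ 0 := U.symm.a_ne

theorem UN.not_dvd_pow (U : UN G p q a b) (c : ℕ) : ¬ q ∣ p ^ c := fun h1 =>
  U.hpq ((Nat.prime_dvd_prime_iff_eq U.hq U.hp).1 (U.hq.dvd_of_dvd_pow h1)).symm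

/-- class sizes of noncentral `p`-elements -/
theorem UN.pcs (U : UN G p q a b) {u : G} (hu : PE p u) (hc : u ∉ Subgroup.center G) :
    cs u = q ^ b ∨ cs u = p ^ a * q ^ b := by
  rcases U.h.all u with h1 | h1 | h1 | h1
  · exact absurd (cs_eq_one.1 h1) hc
  · exact absurd h1 (U.hX u hu)
  · exact Or.inl h1
  · exact Or.inr h1

theorem UN.nc_of (U : UN G p q a b) {z : G} (hz : cs z = q ^ b) : z ∉ Subgroup.center G :=
  not_central_of_cs (by rw [hz]; exact U.h.hm.ne')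

theorem UN.exY (U : UN G p q a b) : ∃ y : G, PE p y ∧ cs y = q ^ b := by
  obtain ⟨r, y, hr, hy, hcy⟩ := U.h.symm.exX
  have hyc := U.nc_of hcy
  have : r = p := by
    by_contra hrp
    by_cases hrq : r = q
    · subst hrq; exact U.hY y hy hcy
    · exact hyc (Cfsg.Agent.H65.FcC1.other U.h U.hp U.hq hr hrp hrq hy)
  subst this
  exact ⟨y, hy, hcy⟩

theorem UN.exX' (U : UN G p q a b) : ∃ x : G, PE q x ∧ cs x = p ^ a := U.symm.exY

/-- (Z): every `p`-element commutes with a `p`-element of class size `q ^ b` lying in the centre of a Sylow subgroup -/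
theorem UN.exZ (U : UN G p q a b) {u : G} (hu : PE p u) : ∃ z : G, PE p z ∧ cs z = q ^ b ∧ z ∈ cz u := by
  haveI : Fact p.Prime := ⟨U.hp⟩
  obtain ⟨y, hy, hcy⟩ := U.exY
  obtain ⟨c, hc⟩ := exists_conj_mem_cz U.hp (g := y) (by rw [hcy]; exact U.symm.not_dvd_pow b) hu
  refine ⟨c⁻¹ * y * c, ?_, ?_, ?_⟩
  · have := hy.conj c⁻¹; rwa [inv_inv] at this
  · have := cs_conj c⁻¹ y; rw [inv_inv] at this; rw [this, hcy]
  · have h2 := mem_cz.1 hc
    rw [mem_cz]
    calc c⁻¹ * y * c * u = c⁻¹ * (y * (c * u * c⁻¹)) * c := by group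
      _ = c⁻¹ * ((c * u * c⁻¹) * y) * c := by rw [h2]
      _ = u * (c⁻¹ * y * c) := by group

/-- elements of class size prime to `r` centralize `O_r(G)` -/
theorem mem_cz_of_pCore {r : ℕ} (hr : r.Prime) {z k : G} (hz : PE r z) (hcz : ¬ r ∣ cs z) (hk : k ∈ pCore r G) :
    k ∈ cz z := by
  haveI : Fact r.Prime := ⟨hr⟩
  obtain ⟨R, _, hR2⟩ := exists_sylow_le hr hcz (IsPGroup.of_bot (p := r) (G := G)) bot_le
  exact hR2 (Cfsg.Agent.Solv.pCore_le_sylow R hk)

/-- (i) -/
theorem UN.i (U : UN G p q a b) {y : G} (_ : PE p y) (hcy : cs y = q ^ b) :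
    ∃ v ∈ cz y, PE q v ∧ v ∉ Subgroup.center G := by
  by_contra hno
  push Not at hno
  have hp1 : 1 < p ^ a := U.h.hn
  have hq1 : 1 < q ^ b := U.h.hm
  have hT : ∀ {u w : G}, w ∈ cz u → PE q w → w ∉ Subgroup.center G → cs u = 1 ∨ cs u = p ^ a :=
    fun hw hwq hwc => U.h.two_b U.hq hcy hno hw hwq hwc
  obtain ⟨g, hg⟩ := U.h.exnm
  obtain ⟨x, w, hx, hw, hgxw, hxp, hwp⟩ := split g U.hp
  have hwg : w ∈ cz g := by
    obtain ⟨i, rfl⟩ := hw
    exact (cz g).zpow_mem (self_mem g) i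
  have hwc : w ∈ Subgroup.center G := by
    by_contra hwc
    obtain ⟨r, k, hr, hk, hkc⟩ := exists_primary hwc
    have hk1 : w ^ k ≠ 1 := fun h2 => hkc (by rw [h2]; exact Subgroup.one_mem _)
    have hrw : r ∣ orderOf w := (hk.dvd_orderOf hr hk1).trans (orderOf_pow_dvd k)
    have hrp : r ≠ p := by rintro rfl; exact hwp hrw
    have hrq : r = q := by
      by_contra hrq
      exact hkc (Cfsg.Agent.H65.FcC1.other U.h U.hp U.hq hr hrp hrq hk)
    subst hrq
    rcases hT ((cz g).pow_mem hwg k) hk hkc with h1 | h1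
    · rw [hg] at h1; nlinarith
    · rw [hg] at h1; nlinarith
  have hczg : cz g = cz x := by
    ext z
    have h1 : z * w = w * z := Subgroup.mem_center_iff.1 hwc z
    rw [mem_cz, mem_cz, hgxw]
    constructor
    · intro h2
      have h3 : (z * x) * w = (x * z) * w := by
        rw [mul_assoc, h2, mul_assoc, mul_assoc, h1]
      exact mul_right_cancel h3
    · intro h2
      rw [← mul_assoc, h2, mul_assoc, h1, mul_assoc]
  have hcx : cs x = p ^ a * q ^ b := by rw [← hg, cs, cs, hczg]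
  have hxc : x ∉ Subgroup.center G := not_central_of_cs (by rw [hcx]; nlinarith)
  obtain ⟨x0, hx0, hcx0⟩ := U.exX'
  have hx0c := U.symm.nc_of hcx0
  have hex : ∃ t ∈ cz x0, PE p t ∧ t ∉ Subgroup.center G := by
    by_contra hno2
    push Not at hno2
    exact lemT U.hp (y := x0) (u := x) hno2 (self_mem x) hxp hxc (by rw [hcx0, hcx]; exact Dvd.intro _ rfl)
  obtain ⟨t, ht, htp, htc⟩ := hex
  rcases hT (mem_cz_symm ht) hx0 hx0c with h1 | h1
  · exact htc (cs_eq_one.1 h1)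
  · exact U.hX t htp h1

theorem UN.exq (U : UN G p q a b) {g : G} (hcg : cs g = p ^ a * q ^ b) :
    ∃ w ∈ cz g, PE q w ∧ w ∉ Subgroup.center G := by
  obtain ⟨y, hy, hcy⟩ := U.exY
  obtain ⟨v, hv, hvq, hvc⟩ := U.i hy hcy
  have h2 := dvd_of_PE U.hq hv hvq hvc
  have h3 : (Subgroup.center G).relIndex (cz y) = (Subgroup.center G).relIndex (cz g) * p ^ a := by
    have h4 := index_center y
    have h5 := index_center g
    rw [hcy] at h4
    rw [hcg, ← h4, ← mul_assoc] at h5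
    exact (Nat.eq_of_mul_eq_mul_right (pow_pos U.hq.pos b) h5).symm
  rw [h3] at h2
  rcases U.hq.dvd_mul.1 h2 with h4 | h4
  · exact exists_PE_of_dvd U.hq h4
  · exact (U.not_dvd_pow a h4).elim

/-- a group with abelian Sylow `p`-subgroups and central `p`-regular elements is abelian -/
theorem abelian_of {C : Type u} [Group C] [Finite C] {p : ℕ} (hp : p.Prime)
    (hreg : ∀ s : C, ¬ p ∣ orderOf s → s ∈ Subgroup.center C) (S : Sylow p C)
    (hS : ∀ s ∈ (S : Subgroup C), ∀ t ∈ (S : Subgroup C), s * t = t * s) : ∀ s t : C, s * t = t * s := by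
  haveI : Fact p.Prime := ⟨hp⟩
  have hconj : ∀ x : C, PE p x → ∃ c : C, c * x * c⁻¹ ∈ (S : Subgroup C) := by
    intro x hx
    obtain ⟨T, hT⟩ := (zpowers_isPGroup hp hx).exists_le_sylow
    obtain ⟨c, hc⟩ := MulAction.exists_smul_eq C T S
    refine ⟨c, ?_⟩
    have h2 : x ∈ (T : Subgroup C) := hT (Subgroup.mem_zpowers x)
    rw [← SetLike.mem_coe, ← hc]
    exact ⟨x, h2, rfl⟩
  have htop : Subgroup.centralizer ((S : Subgroup C) : Set C) = ⊤ := by
    apply Cfsg.Agent.H67.eq_top_of_conj_cover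
    intro g
    obtain ⟨x, w, _, _, hgxw, hxp, hwp⟩ := split g hp
    obtain ⟨c, hc⟩ := hconj x hxp
    refine ⟨c, ?_⟩
    have hw := hreg w hwp
    have h1 : c * g * c⁻¹ = (c * x * c⁻¹) * w := by
      rw [hgxw]
      have h2 : w * c⁻¹ = c⁻¹ * w := (Subgroup.mem_center_iff.1 hw c⁻¹).symm
      calc c * (x * w) * c⁻¹ = c * x * (w * c⁻¹) := by group
        _ = (c * x * c⁻¹) * w := by rw [h2]; group
    rw [h1]
    refine (Subgroup.centralizer _).mul_mem ?_ ?_
    · rw [Subgroup.mem_centralizer_iff]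
      intro s hs
      exact hS s hs _ hc
    · rw [Subgroup.mem_centralizer_iff]
      intro s _
      exact Subgroup.mem_center_iff.1 hw s
  have hSc : ∀ s ∈ (S : Subgroup C), s ∈ Subgroup.center C := by
    intro s hs
    rw [Subgroup.mem_center_iff]
    intro g
    have h1 : g ∈ Subgroup.centralizer ((S : Subgroup C) : Set C) := by rw [htop]; trivial
    exact (Subgroup.mem_centralizer_iff.1 h1 s hs).symm
  intro s t
  obtain ⟨x, w, _, _, hgxw, hxp, hwp⟩ := split t hp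
  obtain ⟨c, hc⟩ := hconj x hxp
  have hx : x ∈ Subgroup.center C := by
    have h1 := (inferInstance : (Subgroup.center C).Normal).conj_mem _ (hSc _ hc) c⁻¹
    have h2 : c⁻¹ * (c * x * c⁻¹) * c⁻¹⁻¹ = x := by group
    rwa [h2] at h1
  have h3 : t ∈ Subgroup.center C := by
    rw [hgxw]; exact (Subgroup.center C).mul_mem hx (hreg w hwp)
  exact Subgroup.mem_center_iff.1 h3 s

/-- (ii) -/
theorem UN.ab (U : UN G p q a b) {g : G} (hg : PE p g) (hcg : cs g = p ^ a * q ^ b) :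
    ∀ s ∈ cz g, ∀ t ∈ cz g, s * t = t * s := by
  haveI : Fact p.Prime := ⟨U.hp⟩
  haveI : Fact q.Prime := ⟨U.hq⟩
  have hcopp : ∀ {u w : G}, PE p u → ¬ p ∣ orderOf w → (orderOf u).Coprime (orderOf w) := by
    intro u w hu hw
    obtain ⟨k, hk⟩ := hu
    exact orderOf_two_pow_coprime U.hp hk hw
  have hcopq : ∀ {u w : G}, PE q u → ¬ q ∣ orderOf w → (orderOf u).Coprime (orderOf w) := by
    intro u w hu hw
    obtain ⟨k, hk⟩ := hu
    exact orderOf_two_pow_coprime U.hq hk hw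
  have hreg : ∀ u ∈ cz g, ¬ p ∣ orderOf u → cz g ≤ cz u := fun u hu hup =>
    U.h.le_of_max hcg hu (hcopp hg hup)
  obtain ⟨v, hv, hvq, hvc⟩ := U.exq hcg
  have hgv : cz g ≤ cz v := U.h.le_of_max hcg hv (hg.cop U.hp U.hq U.hpq hvq)
  rcases U.symm.pcs hvq hvc with h1 | h1
  · -- cs v = p ^ a
    have h34 : ∀ x : cz v, (orderOf x).Coprime q → ∃ k : ℕ, (ConjClasses.mk x).carrier.ncard = q ^ k := by
      intro x hx
      rw [ncard_sub]
      have hxo : (orderOf (x : G)).Coprime q := by rw [Subgroup.orderOf_coe]; exact hx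
      obtain ⟨j, hj⟩ := hvq.orderOf U.hq
      rcases U.h.reg h1 x.2 (by rw [hj]; exact Nat.Coprime.pow_left _ hxo.symm) with h2 | h2
      · exact ⟨0, by rw [h2, pow_zero]⟩
      · exact ⟨b, h2⟩
    obtain ⟨H, hHab, hHq, k, hHi⟩ := (Cfsg.Agent.S4034.result U.hq).1 h34
    have hpH : ¬ p ∣ H.index := by
      rw [hHi]
      exact U.symm.not_dvd_pow k
    obtain ⟨P1, hP1⟩ := Cfsg.Agent.H65.FcC1.exists_sylow_le (r := p) H hpH
    -- p-subgroups of cz v are abelian
    have hPab : ∀ T : Sylow p (cz v), ∀ s ∈ (T : Subgroup (cz v)), ∀ t ∈ (T : Subgroup (cz v)), s * t = t * s := by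
      intro T s hs t ht
      obtain ⟨c, hc⟩ := MulAction.exists_smul_eq (cz v) T P1
      have hs' : c * s * c⁻¹ ∈ H := hP1 (by rw [← SetLike.mem_coe, ← hc]; exact ⟨s, hs, rfl⟩)
      have ht' : c * t * c⁻¹ ∈ H := hP1 (by rw [← SetLike.mem_coe, ← hc]; exact ⟨t, ht, rfl⟩)
      have h3 : (c * s * c⁻¹) * (c * t * c⁻¹) = (c * t * c⁻¹) * (c * s * c⁻¹) := by
        have := hHab.is_comm.comm (⟨_, hs'⟩ : H) ⟨_, ht'⟩
        exact congrArg Subtype.val this
      have h4 : c * (s * t) * c⁻¹ = c * (t * s) * c⁻¹ := by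
        calc c * (s * t) * c⁻¹ = (c * s * c⁻¹) * (c * t * c⁻¹) := by group
          _ = (c * t * c⁻¹) * (c * s * c⁻¹) := h3
          _ = c * (t * s) * c⁻¹ := by group
      exact mul_left_cancel (mul_right_cancel h4)
    obtain ⟨S⟩ : Nonempty (Sylow p (cz g)) := inferInstance
    have hSv : IsPGroup p ((S : Subgroup (cz g)).map (Subgroup.inclusion hgv)) := S.2.map _
    obtain ⟨T, hT⟩ := hSv.exists_le_sylow
    have hSab : ∀ s ∈ (S : Subgroup (cz g)), ∀ t ∈ (S : Subgroup (cz g)), s * t = t * s := by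
      intro s hs t ht
      have h3 := hPab T _ (hT (Subgroup.mem_map_of_mem _ hs)) _ (hT (Subgroup.mem_map_of_mem _ ht))
      rw [← map_mul, ← map_mul] at h3
      exact Subgroup.inclusion_injective hgv h3
    have hall := abelian_of U.hp (C := cz g) (fun s hs => by
      rw [Subgroup.mem_center_iff]
      intro t
      have h3 : ¬ p ∣ orderOf (s : G) := by rw [Subgroup.orderOf_coe]; exact hs
      exact Subtype.ext (mem_cz.1 (hreg s s.2 h3 t.2))) S hSab
    intro s hs t ht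
    exact congrArg Subtype.val (hall ⟨s, hs⟩ ⟨t, ht⟩)
  · -- cs v = q ^ b * p ^ a
    have h2 : cs v = p ^ a * q ^ b := by rw [h1, mul_comm]
    have hgv' : cz g = cz v := cz_eq_of_cs hgv (by rw [hcg, h2])
    intro s hs t ht
    obtain ⟨x, w, hx, hw, hgxw, hxp, hwp⟩ := split s U.hp
    have hxg : x ∈ cz g := by
      obtain ⟨i, rfl⟩ := hx
      exact (cz g).zpow_mem hs i
    have hwg : w ∈ cz g := by
      obtain ⟨i, rfl⟩ := hw
      exact (cz g).zpow_mem hs i
    have h3 : t * w = w * t := mem_cz.1 (hreg w hwg hwp ht)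
    have hxq : (orderOf v).Coprime (orderOf x) := hvq.cop U.hq U.hp (Ne.symm U.hpq) hxp
    have h4 : cz v ≤ cz x := U.h.le_of_max h2 (hgv hxg) hxq
    have h5 : t * x = x * t := mem_cz.1 (h4 (hgv ht))
    rw [hgxw, mul_assoc, ← h3, ← mul_assoc, ← h5, mul_assoc]

theorem UN.le_cz (U : UN G p q a b) {g z : G} (hg : PE p g) (hcg : cs g = p ^ a * q ^ b) (hz : z ∈ cz g) :
    cz g ≤ cz z := fun s hs => mem_cz.2 (U.ab hg hcg s hs z hz)

/-- Form A -/
theorem UN.formA (U : UN G p q a b) {g z : G} (hg : PE p g) (hcg : cs g = p ^ a * q ^ b) (hz : z ∈ cz g)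
    (hcz : cs z = q ^ b) {D : Subgroup G} (hDn : D.Normal) (hDq : IsPGroup q D) (hD : D ≤ cz z) : D ≤ cz g := by
  haveI : Fact q.Prime := ⟨U.hq⟩
  have hle := U.le_cz hg hcg hz
  have h1 : (cz g).relIndex (cz z) = p ^ a := by
    have h2 := Subgroup.relIndex_mul_index hle
    have h3 : (cz z).index = q ^ b := hcz
    have h4 : (cz g).index = p ^ a * q ^ b := hcg
    rw [h3, h4] at h2
    exact Nat.eq_of_mul_eq_mul_right (pow_pos U.hq.pos b) h2
  have h2 : (cz g).relIndex D ∣ (cz g).relIndex (cz z) := by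
    have e1 : D.relIndex (D ⊔ cz g) = D.relIndex (cz g) := Subgroup.relIndex_sup_left _ _
    have e3 : (cz g).relIndex (D ⊔ cz g) = (cz g).relIndex D := by
      have f1 : (D ⊓ cz g).relIndex D * D.relIndex (D ⊔ cz g) = (D ⊓ cz g).relIndex (D ⊔ cz g) :=
        Subgroup.relIndex_mul_relIndex _ _ _ inf_le_left le_sup_left
      have f2 : (D ⊓ cz g).relIndex (cz g) * (cz g).relIndex (D ⊔ cz g) = (D ⊓ cz g).relIndex (D ⊔ cz g) :=
        Subgroup.relIndex_mul_relIndex _ _ _ inf_le_right le_sup_right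
      rw [Subgroup.inf_relIndex_left] at f1
      rw [Subgroup.inf_relIndex_right] at f2
      rw [← f1, e1, mul_comm] at f2
      have f3 : D.relIndex (cz g) ≠ 0 := Subgroup.index_ne_zero_of_finite (H := D.subgroupOf (cz g))
      exact Nat.eq_of_mul_eq_mul_right (Nat.pos_of_ne_zero f3) f2
    rw [← e3]
    have h3 : (cz g).relIndex (D ⊔ cz g) * (D ⊔ cz g).relIndex (cz z) = (cz g).relIndex (cz z) :=
      Subgroup.relIndex_mul_relIndex _ _ _ le_sup_right (sup_le hD hle)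
    exact ⟨_, h3.symm⟩
  have h3 : (cz g).relIndex D ∣ Nat.card D := Subgroup.index_dvd_card _
  obtain ⟨k, hk⟩ := IsPGroup.iff_card.1 hDq
  rw [h1] at h2
  rw [hk] at h3
  have h4 : (cz g).relIndex D = 1 :=
    Nat.eq_one_of_dvd_coprimes (Nat.Coprime.pow _ _ ((Nat.coprime_primes U.hp U.hq).2 U.hpq)) h2 h3
  exact Subgroup.relIndex_eq_one.1 h4

theorem UN.solv (U : UN G p q a b) : Group.IsSolvable G :=
  Cfsg.Agent.H65.FcC1.solv_of_central U.hp U.hq
    (fun _ hr hrp hrq _ hg => Cfsg.Agent.H65.FcC1.other U.h U.hp U.hq hr hrp hrq hg)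

theorem pe_of_pCore {r : ℕ} {k : G} (hk : k ∈ pCore r G) : PE r k := by
  obtain ⟨i, hi⟩ := Cfsg.Agent.Solv.pCore_isPGroup (G := G) r ⟨k, hk⟩
  exact ⟨i, congrArg Subtype.val hi⟩

/-- (F) -/
theorem UN.mem_core (U : UN G p q a b) {v : G} (hv : PE p v) (h1 : ∀ k ∈ pCore p G, k ∈ cz v)
    (h2 : ∀ k ∈ pCore q G, k ∈ cz v) : v ∈ pCore p G := by
  haveI : Fact p.Prime := ⟨U.hp⟩
  haveI := U.solv
  have h3 : (v : G) ∈ Subgroup.centralizer (fittingSubgroup G : Set G) := by
    have h2 : Subgroup.zpowers (v : G) ≤ Subgroup.centralizer (fittingSubgroup G : Set G) := by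
      rw [Subgroup.le_centralizer_iff, Cfsg.Agent.Solv.fitting_eq_iSup_pCore]
      apply iSup_le
      rintro ⟨s, hs⟩
      rw [Subgroup.le_centralizer_iff, Subgroup.zpowers_le, Subgroup.mem_centralizer_iff]
      intro k hk
      by_cases hsp : s = p
      · subst hsp; exact mem_cz.1 (h1 k hk)
      · by_cases hsr : s = q
        · subst hsr; exact mem_cz.1 (h2 k hk)
        · have := Cfsg.Agent.H65.FcC1.other U.h U.hp U.hq hs hsp hsr (pe_of_pCore hk)
          exact (Subgroup.mem_center_iff.1 this v).symm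
    exact h2 (Subgroup.mem_zpowers _)
  have h4 : (v : G) ∈ fittingSubgroup G := Cfsg.Agent.Solv.centralizer_fitting_le h3
  apply Cfsg.Agent.H63.mem_pCore_of_mem_fitting h4
  obtain ⟨k, hk⟩ := hv
  exact ⟨k, by rw [hk]; exact one_mem _⟩

/-- a `q`-element centralized by all `p`-elements is not noncentral -/
theorem UN.central_of_all (U : UN G p q a b) {l : G} (hl : PE q l) (hall : ∀ g : G, PE p g → g ∈ cz l) :
    l ∈ Subgroup.center G := by
  haveI : Fact p.Prime := ⟨U.hp⟩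
  by_contra hc
  have h1 : p ∣ cs l := by
    rcases U.symm.pcs hl hc with h1 | h1
    · rw [h1]; exact dvd_pow_self p U.a_ne
    · rw [h1]; exact (dvd_pow_self p U.a_ne).mul_left _
  obtain ⟨P⟩ : Nonempty (Sylow p G) := inferInstance
  have h2 : (P : Subgroup G) ≤ cz l := by
    intro g hg
    apply hall
    obtain ⟨k, hk⟩ := P.isPGroup' ⟨g, hg⟩
    exact ⟨k, congrArg Subtype.val hk⟩
  have h3 : cs l ∣ (P : Subgroup G).index := Subgroup.index_dvd_of_le h2
  exact P.not_dvd_index (h1.trans h3)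

/-- (iv) -/
theorem UN.iv (U : UN G p q a b) {g : G} (hg : g ∈ pCore p G) (hgc : g ∉ Subgroup.center G) : cs g = q ^ b := by
  haveI : Fact p.Prime := ⟨U.hp⟩
  haveI : Fact q.Prime := ⟨U.hq⟩
  rcases U.pcs (pe_of_pCore hg) hgc with h1 | h1
  · exact h1
  exfalso
  have hgp := pe_of_pCore hg
  have hYg : ∀ z : G, PE p z → cs z = q ^ b → z ∈ cz g := by
    intro z hz hcz
    exact mem_cz_symm (mem_cz_of_pCore U.hp hz (by rw [hcz]; exact U.symm.not_dvd_pow b) hg)
  -- q-elements of `cz g` centralize `O_p(G)`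
  let Ug : Subgroup G :=
    { carrier := {u | PE q u ∧ u ∈ cz g}
      mul_mem' := fun {s t} hs ht => ⟨hs.1.mul ht.1 (U.ab hgp h1 s hs.2 t ht.2), (cz g).mul_mem hs.2 ht.2⟩
      one_mem' := ⟨⟨0, by simp⟩, (cz g).one_mem⟩
      inv_mem' := fun {s} hs => ⟨by
        obtain ⟨j, hj⟩ := hs.1
        exact ⟨j, by rw [inv_pow, hj, inv_one]⟩, (cz g).inv_mem hs.2⟩ }
  have hUgq : IsPGroup q Ug := by
    intro s
    obtain ⟨j, hj⟩ := s.2.1
    exact ⟨j, Subtype.ext hj⟩
  have hK : IsPGroup p (pCore p G) := Cfsg.Agent.Solv.pCore_isPGroup p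
  have hUgK : Ug ≤ Subgroup.centralizer (pCore p G : Set G) := by
    refine Cfsg.Agent.Cop.le_centralizer_of_AxB p (P := Subgroup.zpowers g) ?_ ?_ hK ?_ ?_ ?_ ?_
    · exact zpowers_isPGroup U.hp hgp
    · obtain ⟨k, hk⟩ := IsPGroup.iff_card.mp hUgq
      rw [hk]
      exact Nat.Coprime.pow_left _ ((Nat.coprime_primes U.hq U.hp).2 (Ne.symm U.hpq))
    · rw [Subgroup.zpowers_le, Subgroup.mem_centralizer_iff]
      intro s hs
      exact mem_cz.1 hs.2
    · rw [Subgroup.normalizer_eq_top]; exact le_top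
    · rw [Subgroup.normalizer_eq_top]; exact le_top
    · rintro u ⟨huL, huc⟩
      rw [Subgroup.mem_centralizer_iff]
      intro s hs
      have huy : u ∈ cz g := mem_cz.2 (Subgroup.mem_centralizer_iff.1 huc g (Subgroup.mem_zpowers g)).symm
      exact U.ab hgp h1 s hs.2 u huy
  have hUgeq : ∀ u : G, u ∈ Ug ↔ PE q u ∧ u ∈ Subgroup.centralizer (pCore p G : Set G) := by
    intro u
    constructor
    · intro hu
      exact ⟨hu.1, hUgK hu⟩
    · rintro ⟨hu, hu2⟩
      exact ⟨hu, mem_cz.2 (Subgroup.mem_centralizer_iff.1 hu2 g hg).symm⟩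
  have hUgn : Ug.Normal := by
    refine ⟨fun n hn k => ?_⟩
    rw [hUgeq] at hn ⊢
    refine ⟨hn.1.conj k, ?_⟩
    exact (inferInstance : (Subgroup.centralizer (pCore p G : Set G)).Normal).conj_mem n hn.2 k
  -- all p-elements centralize Ug
  have hall : ∀ u : G, PE p u → Ug ≤ cz u := by
    intro u hu
    by_cases huc : u ∈ Subgroup.center G
    · intro s _
      exact mem_cz.2 (Subgroup.mem_center_iff.1 huc s)
    have hY : ∀ z : G, PE p z → cs z = q ^ b → Ug ≤ cz z := fun z hz hcz s hs =>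
      U.le_cz hgp h1 (hYg z hz hcz) hs.2
    rcases U.pcs hu huc with h2 | h2
    · exact hY u hu h2
    · obtain ⟨z, hz, hcz, hzu⟩ := U.exZ hu
      exact U.formA hu h2 hzu hcz hUgn hUgq (hY z hz hcz)
  -- a noncentral q-element of `cz g`
  obtain ⟨w, hw, hwq, hwc⟩ := U.exq h1
  exact hwc (U.central_of_all hwq (fun s hs => mem_cz_symm (hall s hs ⟨hwq, hw⟩)))

/-- `O_p(G)` is abelian -/
theorem UN.core_ab (U : UN G p q a b) : ∀ s ∈ pCore p G, ∀ t ∈ pCore p G, s * t = t * s := by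
  intro s hs t ht
  by_cases hsc : t ∈ Subgroup.center G
  · exact Subgroup.mem_center_iff.1 hsc s
  · exact mem_cz.1 (mem_cz_of_pCore U.hp (pe_of_pCore ht) (by rw [U.iv ht hsc]; exact U.symm.not_dvd_pow b) hs)

/-- (v) -/
theorem UN.v (U : UN G p q a b) {x : G} (hx : PE q x) (hcx : cs x = p ^ a) (hnc : ∃ k ∈ pCore p G, k ∉ cz x) :
    (∀ k ∈ pCore p G, k ∈ cz x → k ∈ Subgroup.center G) ∧ q ^ b < p ^ a :=
  step_v U.hp U.hq U.hpq inferInstance U.core_ab (fun _ hk => pe_of_pCore hk) (fun _ hk hkc => U.iv hk hkc) hx hcx hnc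

/-- every `q`-element of class size `p ^ a` centralizes `O_p(G)` -/
theorem UN.cent (U : UN G p q a b) {x : G} (hx : PE q x) (hcx : cs x = p ^ a) : ∀ k ∈ pCore p G, k ∈ cz x := by
  by_contra hno
  push Not at hno
  obtain ⟨hv1, hv2⟩ := U.v hx hcx hno
  have hY : ∀ y : G, PE p y → cs y = q ^ b → y ∈ pCore p G := by
    intro y hy hcy
    apply U.mem_core hy
    · intro k hk
      exact mem_cz_of_pCore U.hp hy (by rw [hcy]; exact U.symm.not_dvd_pow b) hk
    · by_contra hno2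
      push Not at hno2
      have := (U.symm.v hy hcy hno2).2
      omega
  obtain ⟨u, hu, hup, huc⟩ := U.symm.i hx hcx
  rcases U.pcs hup huc with h1 | h1
  · exact huc (hv1 u (hY u hup h1) hu)
  · obtain ⟨z, hz, hcz, hzu⟩ := U.exZ hup
    have h2 : z ∈ cz x := mem_cz.2 (U.ab hup h1 z hzu x (mem_cz_symm hu))
    exact U.nc_of hcz (hv1 z (hY z hz hcz) h2)

theorem UN.mem_X (U : UN G p q a b) {x : G} (hx : PE q x) (hcx : cs x = p ^ a) : x ∈ pCore q G := by
  apply U.symm.mem_core hx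
  · intro k hk
    exact mem_cz_of_pCore U.hq hx (by rw [hcx]; exact U.not_dvd_pow a) hk
  · exact U.cent hx hcx

theorem UN.false (U : UN G p q a b) : False := by
  haveI : Fact p.Prime := ⟨U.hp⟩
  haveI : Fact q.Prime := ⟨U.hq⟩
  have hLq : IsPGroup q (pCore q G) := Cfsg.Agent.Solv.pCore_isPGroup q
  have hYL : ∀ y : G, PE p y → cs y = q ^ b → pCore q G ≤ cz y := fun y hy hcy k hk => U.symm.cent hy hcy k hk
  have hall : ∀ u : G, PE p u → pCore q G ≤ cz u := by
    intro u hu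
    by_cases huc : u ∈ Subgroup.center G
    · intro s _
      exact mem_cz.2 (Subgroup.mem_center_iff.1 huc s)
    rcases U.pcs hu huc with h2 | h2
    · exact hYL u hu h2
    · obtain ⟨z, hz, hcz, hzu⟩ := U.exZ hu
      exact U.formA hu h2 hzu hcz inferInstance hLq (hYL z hz hcz)
  obtain ⟨x, hx, hcx⟩ := U.exX'
  have h1 := U.mem_X hx hcx
  exact U.symm.nc_of hcx (U.central_of_all hx (fun s hs => mem_cz_symm (hall s hs h1)))

end Cfsg.Agent.BT.Fc
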