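import Cfsg.Agent.BT.FcF

/-!
# S4146, piece C2, step (v)
-/

set_option autoImplicit false
set_option linter.style.haveILetI false
set_option linter.unusedSectionVars false

namespace Cfsg.Agent.BT.Fc

open Cfsg.Agent.H35.CR

universe u

variable {G : Type u} [Group G] [Finite G] {p q a b : ℕ}

theorem relIndex_le_index' {H K : Subgroup G} (h : H.index ≠ 0) : H.relIndex K ≤ H.index := by
  rw [← H.relIndex_top_right] at h ⊢
  exact Subgroup.relIndex_le_of_le_right le_top h

/-- a Sylow `q`-subgroup is transitive on a class of size `q ^ b` -/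
theorem relIndex_sylow (hq : q.Prime) {u : G} (hu : cs u = q ^ b) (Q : Sylow q G) :
    (cz u).relIndex (Q : Subgroup G) = q ^ b := by
  haveI : Fact q.Prime := ⟨hq⟩
  have h1 : (cz u).relIndex (Q : Subgroup G) ≤ q ^ b := by
    have h2 : (cz u).index ≠ 0 := Subgroup.index_ne_zero_of_finite
    have := relIndex_le_index' (H := cz u) (K := (Q : Subgroup G)) h2
    rw [← hu]; exact this
  have h2 : (cz u).relIndex (Q : Subgroup G) ≠ 0 :=
    Subgroup.index_ne_zero_of_finite (H := (cz u).subgroupOf (Q : Subgroup G))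
  refine le_antisymm h1 (Nat.le_of_dvd (Nat.pos_of_ne_zero h2) ?_)
  -- card of the intersection
  have hP : IsPGroup q ((Q : Subgroup G) ⊓ cz u : Subgroup G) := Q.2.to_le inf_le_left
  obtain ⟨i, hi⟩ := IsPGroup.iff_card.1 hP
  have h3 : q ^ i ∣ Nat.card (cz u) := by rw [← hi]; exact Subgroup.card_dvd_of_le inf_le_right
  have h4 : q ^ (i + b) ∣ Nat.card (Q : Subgroup G) := by
    apply Q.pow_dvd_card_of_pow_dvd_card
    rw [pow_add, ← cs_mul_card u, hu, mul_comm]
    exact Nat.mul_dvd_mul dvd_rfl h3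
  have h5 : Nat.card ((Q : Subgroup G) ⊓ cz u : Subgroup G) * (cz u).relIndex (Q : Subgroup G) =
      Nat.card (Q : Subgroup G) := by
    have := Cfsg.Agent.H67.natCard_mul_relIndex ((Q : Subgroup G) ⊓ cz u) (Q : Subgroup G) inf_le_left
    rwa [Subgroup.inf_relIndex_left] at this
  rw [← h5, hi, pow_add] at h4
  exact Nat.dvd_of_mul_dvd_mul_left (pow_pos hq.pos i) h4

/-- If the normal abelian `p`-subgroup `K` is not centralized by the `q`-element `x` of class size `p ^ a` and all
noncentral elements of `K` have class size `q ^ b`, then `C_K(x)` is central and `q ^ b < p ^ a`. -/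
theorem step_v (hp : p.Prime) (hq : q.Prime) (hpq : p ≠ q) {K : Subgroup G} (hKn : K.Normal)
    (hKab : ∀ s ∈ K, ∀ t ∈ K, s * t = t * s) (hKp : ∀ k ∈ K, PE p k)
    (hK : ∀ k ∈ K, k ∉ Subgroup.center G → cs k = q ^ b) {x : G} (hx : PE q x) (hcx : cs x = p ^ a)
    (hnc : ∃ k ∈ K, k ∉ cz x) : (∀ k ∈ K, k ∈ cz x → k ∈ Subgroup.center G) ∧ q ^ b < p ^ a := by
  haveI : Fact q.Prime := ⟨hq⟩
  haveI : Fact p.Prime := ⟨hp⟩
  have hqx : ¬ q ∣ cs x := by
    rw [hcx]
    intro h1
    exact hpq ((Nat.prime_dvd_prime_iff_eq hq hp).1 (hq.dvd_of_dvd_pow h1)).symm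
  obtain ⟨Q, hxQ', hQx⟩ := exists_sylow_le hq (g := x) hqx (zpowers_isPGroup hq hx)
    (by rw [Subgroup.zpowers_le]; exact self_mem x)
  have hxQ : x ∈ (Q : Subgroup G) := hxQ' (Subgroup.mem_zpowers x)
  -- conjugation by x
  letI : CommGroup K := { (inferInstance : Group K) with
    mul_comm := fun s t => Subtype.ext (hKab s s.2 t t.2) }
  let φ : K →* K :=
    { toFun := fun k => ⟨x * k * x⁻¹, hKn.conj_mem k k.2 x⟩
      map_one' := Subtype.ext (by simp)
      map_mul' := fun s t => Subtype.ext (by simp) }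
  let f : K →* K :=
    { toFun := fun k => φ k * k⁻¹
      map_one' := by simp
      map_mul' := fun s t => by
        rw [map_mul, mul_inv]
        exact mul_mul_mul_comm _ _ _ _ }
  set o := orderOf x with ho
  -- powers of φ
  have hφ : ∀ (i : ℕ) (k : K), ((φ^[i]) k : G) = x ^ i * k * (x ^ i)⁻¹ := by
    intro i
    induction i with
    | zero => intro k; simp
    | succ i ih =>
      intro k
      rw [Function.iterate_succ_apply']
      show x * ((φ^[i]) k : G) * x⁻¹ = _
      rw [ih, pow_succ']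
      group
  let N : K → K := fun k => ∏ i ∈ Finset.range o, (φ^[i]) k
  have hφo : ∀ k : K, (φ^[o]) k = k := by
    intro k
    apply Subtype.ext
    rw [hφ, ho, pow_orderOf_eq_one]
    group
  have hNf : ∀ k : K, N (f k) = 1 := by
    intro k
    have hit : ∀ i : ℕ, (φ^[i]) (f k) = (φ^[i + 1]) k * ((φ^[i]) k)⁻¹ := by
      intro i
      apply Subtype.ext
      rw [hφ, Subgroup.coe_mul, Subgroup.coe_inv, hφ, hφ]
      show x ^ i * ((x * k * x⁻¹) * (k : G)⁻¹) * (x ^ i)⁻¹ = _
      rw [pow_succ]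
      group
    show ∏ i ∈ Finset.range o, (φ^[i]) (f k) = 1
    rw [Finset.prod_congr rfl (fun i _ => hit i)]
    have htel : ∀ r : ℕ, ∏ i ∈ Finset.range r, ((φ^[i + 1]) k * ((φ^[i]) k)⁻¹) = (φ^[r]) k * k⁻¹ := by
      intro r
      induction r with
      | zero => simp
      | succ r ih =>
        rw [Finset.prod_range_succ, ih]
        rw [mul_comm ((φ^[r]) k) k⁻¹, mul_comm ((φ^[r + 1]) k), mul_assoc, ← mul_assoc ((φ^[r]) k), mul_inv_cancel,
          one_mul, mul_comm]
    rw [htel, hφo, mul_inv_cancel]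
  have hNmul : ∀ s t : K, N (s * t) = N s * N t := by
    intro s t
    show ∏ i ∈ Finset.range o, (φ^[i]) (s * t) = _
    rw [← Finset.prod_mul_distrib]
    refine Finset.prod_congr rfl (fun i _ => ?_)
    apply Subtype.ext
    rw [Subgroup.coe_mul, hφ, hφ, hφ, Subgroup.coe_mul]
    group
  have hNfix : ∀ s : K, (s : G) ∈ cz x → N s = s ^ o := by
    intro s hs
    show ∏ i ∈ Finset.range o, (φ^[i]) s = _
    have : ∀ i ∈ Finset.range o, (φ^[i]) s = s := by
      intro i _
      apply Subtype.ext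
      rw [hφ]
      have h1 : (s : G) ∈ cz (x ^ i) := cz_pow_le x i hs
      rw [← mem_cz.1 h1]
      group
    rw [Finset.prod_congr rfl this, Finset.prod_const, Finset.card_range]
  -- coprimality
  have hoc : ∀ k : K, o.Coprime (orderOf (k : G)) := fun k => hx.cop hq hp (Ne.symm hpq) (hKp k k.2)
  -- a commutator that commutes with x is trivial
  have hfx : ∀ k : K, ((f k : K) : G) ∈ cz x → f k = 1 := by
    intro k hk
    have h1 := hNfix _ hk
    rw [hNf] at h1
    have h2 : ((f k : K) : G) ^ o = 1 := congrArg Subtype.val h1.symm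
    have h3 : orderOf ((f k : K) : G) = 1 :=
      Nat.Coprime.eq_one_of_dvd ((hoc (f k)).symm) (orderOf_dvd_of_pow_eq_one h2)
    exact Subtype.ext (orderOf_eq_one_iff.1 h3)
  obtain ⟨k0, hk0, hk0x⟩ := hnc
  set v : K := f ⟨k0, hk0⟩ with hv
  have hvne : v ≠ 1 := by
    intro h1
    apply hk0x
    have h2 : (x * k0 * x⁻¹) * k0⁻¹ = 1 := congrArg Subtype.val h1
    have h3 : x * k0 * x⁻¹ = k0 := mul_inv_eq_one.1 h2
    rw [mem_cz]
    calc k0 * x = (x * k0 * x⁻¹) * x := by rw [h3]
      _ = x * k0 := by group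
  have hvx : (v : G) ∉ cz x := fun h1 => hvne (hfx _ h1)
  have hvc : (v : G) ∉ Subgroup.center G := fun h1 => hvx (center_le_cz x h1)
  have hcv : cs (v : G) = q ^ b := hK v v.2 hvc
  refine ⟨?_, ?_⟩
  · intro u hu hux
    by_contra huc
    set u' : K := ⟨u, hu⟩ with hu'
    have huvc : ((u' * v : K) : G) ∉ Subgroup.center G := by
      intro h1
      apply hvx
      have h2 : ((u' * v : K) : G) ∈ cz x := center_le_cz x h1
      have h3 : (v : G) = (u : G)⁻¹ * ((u' * v : K) : G) := by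
        rw [Subgroup.coe_mul]; show (v : G) = u⁻¹ * (u * v); group
      rw [h3]
      exact (cz x).mul_mem ((cz x).inv_mem hux) h2
    have hcu : cs u = q ^ b := hK u hu huc
    have hcuv : cs ((u' * v : K) : G) = q ^ b := hK _ (u' * v).2 huvc
    -- C_Q(uv) ≤ C_Q(u)
    have hle : (Q : Subgroup G) ⊓ cz ((u' * v : K) : G) ≤ (Q : Subgroup G) ⊓ cz u := by
      intro g hg
      refine ⟨hg.1, ?_⟩
      have hgx : g ∈ cz x := hQx hg.1
      have hguv := mem_cz.1 hg.2
      -- g commutes with N (u v)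
      have h1 : ∀ i : ℕ, g * ((φ^[i]) (u' * v) : G) = ((φ^[i]) (u' * v) : G) * g := by
        intro i
        rw [hφ]
        have h2 : g ∈ cz (x ^ i) := cz_pow_le x i hgx
        have h3 : g ∈ cz ((x ^ i)⁻¹) := by rw [cz_inv]; exact h2
        rw [mem_cz] at h2 h3
        calc g * (x ^ i * ((u' * v : K) : G) * (x ^ i)⁻¹) = (g * x ^ i) * ((u' * v : K) : G) * (x ^ i)⁻¹ := by group
          _ = x ^ i * (g * ((u' * v : K) : G)) * (x ^ i)⁻¹ := by rw [h2]; group
          _ = x ^ i * ((u' * v : K) : G) * (g * (x ^ i)⁻¹) := by rw [hguv]; group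
          _ = x ^ i * ((u' * v : K) : G) * (x ^ i)⁻¹ * g := by rw [h3]; group
      have h2 : g * ((N (u' * v) : K) : G) = ((N (u' * v) : K) : G) * g := by
        show g * ((∏ i ∈ Finset.range o, (φ^[i]) (u' * v) : K) : G) = ((∏ i ∈ Finset.range o, (φ^[i]) (u' * v) : K) : G) * g
        generalize o = r
        induction r with
        | zero => simp
        | succ r ih =>
          rw [Finset.prod_range_succ, Subgroup.coe_mul, ← mul_assoc, ih, mul_assoc, h1, mul_assoc]
      rw [hNmul, hNf, mul_one, hNfix u' hux] at h2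
      have h3 : g * u ^ o = u ^ o * g := h2
      obtain ⟨e, he⟩ := exists_pow_eq_self_of_coprime (x := u) (hoc u')
      have h4 : g ∈ cz ((u ^ o) ^ e) := cz_pow_le (u ^ o) e (mem_cz.2 h3)
      rwa [he] at h4
    have hr1 := relIndex_sylow hq hcu Q
    have hr2 := relIndex_sylow hq hcuv Q
    have hcard1 := Cfsg.Agent.H67.natCard_mul_relIndex ((Q : Subgroup G) ⊓ cz u) (Q : Subgroup G) inf_le_left
    have hcard2 := Cfsg.Agent.H67.natCard_mul_relIndex ((Q : Subgroup G) ⊓ cz ((u' * v : K) : G)) (Q : Subgroup G)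
      inf_le_left
    rw [Subgroup.inf_relIndex_left] at hcard1 hcard2
    rw [hr1] at hcard1
    rw [hr2, ← hcard1] at hcard2
    have heq := Subgroup.eq_of_le_of_card_ge hle (Nat.eq_of_mul_eq_mul_right (pow_pos hq.pos b) hcard2).ge
    have hxu : x ∈ (Q : Subgroup G) ⊓ cz u := ⟨hxQ, mem_cz_symm hux⟩
    rw [← heq] at hxu
    have h5 := mem_cz_symm hxu.2
    apply hvx
    have h3 : (v : G) = (u : G)⁻¹ * ((u' * v : K) : G) := by
      rw [Subgroup.coe_mul]; show (v : G) = u⁻¹ * (u * v); group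
    rw [h3]
    exact (cz x).mul_mem ((cz x).inv_mem hux) h5
  · -- counting
    have hker : ∀ k : K, k ∈ f.ker ↔ (k : G) ∈ cz x := by
      intro k
      rw [MonoidHom.mem_ker, mem_cz]
      constructor
      · intro h1
        have h2 : (x * k * x⁻¹) * (k : G)⁻¹ = 1 := congrArg Subtype.val h1
        have h3 : x * k * x⁻¹ = (k : G) := mul_inv_eq_one.1 h2
        calc (k : G) * x = (x * k * x⁻¹) * x := by rw [h3]
          _ = x * k := by group
      · intro h1
        apply Subtype.ext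
        show (x * k * x⁻¹) * (k : G)⁻¹ = 1
        rw [← h1]; group
    have hI : Nat.card f.range ≤ p ^ a := by
      have h1 : f.ker = (cz x).subgroupOf K := by
        ext k; rw [hker, Subgroup.mem_subgroupOf]
      have h2 : Nat.card f.range = f.ker.index := by
        rw [Subgroup.index_ker]
      rw [h2, h1]
      have h3 : (cz x).index ≠ 0 := Subgroup.index_ne_zero_of_finite
      have := relIndex_le_index' (H := cz x) (K := K) h3
      rw [← hcx]; exact this
    have hfr : ∀ g ∈ (Q : Subgroup G), ∃ k : K, ((f k : K) : G) = g * (v : G) * g⁻¹ := by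
      intro g hg
      refine ⟨⟨g * k0 * g⁻¹, hKn.conj_mem k0 hk0 g⟩, ?_⟩
      have hgx : g * x = x * g := mem_cz.1 (hQx hg)
      show x * (g * k0 * g⁻¹) * x⁻¹ * (g * k0 * g⁻¹)⁻¹ = g * (x * k0 * x⁻¹ * k0⁻¹) * g⁻¹
      calc x * (g * k0 * g⁻¹) * x⁻¹ * (g * k0 * g⁻¹)⁻¹ = (x * g) * k0 * (x * g)⁻¹ * (g * k0 * g⁻¹)⁻¹ := by group
        _ = (g * x) * k0 * (g * x)⁻¹ * (g * k0 * g⁻¹)⁻¹ := by rw [hgx]
        _ = g * (x * k0 * x⁻¹ * k0⁻¹) * g⁻¹ := by group
    have hcount : (cz (v : G)).relIndex (Q : Subgroup G) ≤ Nat.card {i : f.range // i ≠ 1} := by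
      show Nat.card ((Q : Subgroup G) ⧸ (cz (v : G)).subgroupOf (Q : Subgroup G)) ≤ _
      have hmem : ∀ g : (Q : Subgroup G), ∃ k : K, f k = ⟨(g : G) * v * (g : G)⁻¹, hKn.conj_mem v v.2 g⟩ := by
        intro g
        obtain ⟨k, hk⟩ := hfr g g.2
        exact ⟨k, Subtype.ext hk⟩
      let F : ((Q : Subgroup G) ⧸ (cz (v : G)).subgroupOf (Q : Subgroup G)) → {i : f.range // i ≠ 1} := fun c =>
        ⟨⟨⟨(c.out : G) * v * (c.out : G)⁻¹, hKn.conj_mem v v.2 _⟩, hmem c.out⟩, by
          intro h1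
          have h2 : (c.out : G) * v * (c.out : G)⁻¹ = 1 := congrArg (fun t : f.range => ((t : K) : G)) h1
          apply hvne
          apply Subtype.ext
          exact conj_eq_one_iff.1 h2⟩
      refine Nat.card_le_card_of_injective F ?_
      intro c d hcd
      have h1 : (c.out : G) * v * (c.out : G)⁻¹ = (d.out : G) * v * (d.out : G)⁻¹ :=
        congrArg (fun t : {i : f.range // i ≠ 1} => (((t : f.range) : K) : G)) hcd
      rw [← c.out_eq, ← d.out_eq]
      apply QuotientGroup.eq.2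
      rw [Subgroup.mem_subgroupOf, mem_cz]
      show ((c.out : G)⁻¹ * (d.out : G)) * v = v * ((c.out : G)⁻¹ * (d.out : G))
      calc ((c.out : G)⁻¹ * (d.out : G)) * v = (c.out : G)⁻¹ * ((d.out : G) * v * (d.out : G)⁻¹) * (d.out : G) := by group
        _ = (c.out : G)⁻¹ * ((c.out : G) * v * (c.out : G)⁻¹) * (d.out : G) := by rw [h1]
        _ = v * ((c.out : G)⁻¹ * (d.out : G)) := by group
    rw [relIndex_sylow hq hcv Q] at hcount
    have hlt : Nat.card {i : f.range // i ≠ 1} < Nat.card f.range := by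
      apply Finite.card_subtype_lt (x := (1 : f.range))
      simp
    omega

end Cfsg.Agent.BT.Fc
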