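import Cfsg.Agent.BT.SmallCof
import Cfsg.Agent.F5.Complete
import Cfsg.Agent.ClassBase.SimpleSmall
import Cfsg.Agent.S2540

/-!
Simple groups of order `p r q^b` (S0998).
-/

set_option autoImplicit false

namespace Cfsg.Agent.BT

open Cfsg Subgroup Cfsg.Agent.BR

universe u

theorem three_dvd_pow_add {k : ℕ} : 3 ∣ 2 ^ (2 * k + 1) + 1 := by
  induction k with
  | zero => norm_num
  | succ k ih =>
    have : 2 ^ (2 * (k + 1) + 1) = 4 * 2 ^ (2 * k + 1) := by ring
    rw [this]; omega

theorem three_dvd_pow_sub {k : ℕ} : 3 ∣ 2 ^ (2 * k) - 1 := by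
  induction k with
  | zero => norm_num
  | succ k ih =>
    have : 2 ^ (2 * (k + 1)) = 4 * 2 ^ (2 * k) := by ring
    have h2 : 0 < 2 ^ (2 * k) := by positivity
    rw [this]; omega

/-- `m` odd and `2^m + 1` prime force `m = 1`. -/
theorem odd_add {m : ℕ} (hm : Odd m) (hp : (2 ^ m + 1).Prime) : m = 1 := by
  obtain ⟨k, rfl⟩ := hm
  have h1 := (Nat.prime_dvd_prime_iff_eq Nat.prime_three hp).mp three_dvd_pow_add
  have h2 : 2 ^ (2 * k + 1) = 2 ^ 1 := by
    rw [pow_one]
    generalize 2 ^ (2 * k + 1) = a at h1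
    omega
  exact Nat.pow_right_injective (le_refl 2) h2

/-- `m` even and `2^m - 1` prime force `m = 2`. -/
theorem even_sub {m : ℕ} (hm : Even m) (hp : (2 ^ m - 1).Prime) : m = 2 := by
  obtain ⟨k, rfl⟩ := hm
  rw [← two_mul] at hp ⊢
  have h1 := (Nat.prime_dvd_prime_iff_eq Nat.prime_three hp).mp three_dvd_pow_sub
  have h2 : 2 ^ (2 * k) = 2 ^ 2 := by omega
  exact Nat.pow_right_injective (le_refl 2) h2

/-- `4 ∣ r q^b` forces `q = 2`. -/
theorem eq_two_of_four {q r b : ℕ} (hq : q.Prime) (hr : r.Prime) (h : 4 ∣ r * q ^ b) : q = 2 := by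
  by_contra hne
  have h1 : ¬ 2 ∣ q ^ b := fun h2 =>
    hne ((Nat.prime_dvd_prime_iff_eq Nat.prime_two hq).mp (Nat.prime_two.dvd_of_dvd_pow h2)).symm
  have h2 : Nat.Coprime 4 (q ^ b) := by
    have : Nat.Coprime 2 (q ^ b) := (Nat.prime_two.coprime_iff_not_dvd).mpr h1
    have := Nat.Coprime.pow_left 2 this
    norm_num at this
    exact this
  have h3 := h2.dvd_of_dvd_mul_right h
  have h4 : 2 ∣ r := (by norm_num : (2 : ℕ) ∣ 4).trans h3
  have h5 := (Nat.prime_dvd_prime_iff_eq Nat.prime_two hr).mp h4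
  rw [← h5] at h3
  norm_num at h3

/-- the odd part. -/
theorem odd_part {r b m c : ℕ} (hr : r ≠ 2) (hrp : r.Prime) (hc : Odd c) (h : 2 ^ m * c = r * 2 ^ b) :
    r = c := by
  have h1 : r ∣ c := by
    have h2 : r ∣ 2 ^ m * c := by rw [h]; exact Dvd.intro _ rfl
    have h3 : r.Coprime (2 ^ m) := Nat.Coprime.pow_right m ((Nat.coprime_primes hrp Nat.prime_two).mpr hr)
    exact h3.dvd_of_dvd_mul_left h2
  have h2 : c ∣ r := by
    have h3 : c ∣ r * 2 ^ b := by rw [← h]; exact Dvd.intro_left _ rfl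
    have h4 : c.Coprime (2 ^ b) := Nat.Coprime.pow_right b (Nat.Coprime.symm (by
      rw [Nat.prime_two.coprime_iff_not_dvd]
      obtain ⟨k, hk⟩ := hc
      omega))
    exact h4.dvd_of_dvd_mul_right h3
  exact Nat.dvd_antisymm h1 h2

section

variable {G : Type u} [Group G] [Finite G] [IsSimpleGroup G]

theorem order_sixty (h : Nat.card G = 60) :
    Nonempty (G ≃* Matrix.ProjectiveSpecialLinearGroup (Fin 2) (ZMod 5)) := by
  have hf : Fact (Nat.Prime 5) := ⟨by norm_num⟩
  have h1 : IsSimpleGroup (Matrix.ProjectiveSpecialLinearGroup (Fin 2) (ZMod 5)) :=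
    S2540.psl_simple 2 le_rfl (by rw [ZMod.card]; norm_num)
  have h2 : Nat.card (Matrix.ProjectiveSpecialLinearGroup (Fin 2) (ZMod 5)) = 60 := by
    have h3 := H14.SubField.card_PSL2_odd (F := ZMod 5) (by rw [ZMod.card]; decide)
    rw [ZMod.card] at h3
    omega
  obtain ⟨e1⟩ := ClassBase.simple_sixty h
  obtain ⟨e2⟩ := ClassBase.simple_sixty h2
  exact ⟨e1.trans e2.symm⟩

/-- the case `r < p`. -/
theorem row998_aux (hG : ¬ IsCyclic G) {p q r b : ℕ} (hp : p.Prime) (hq : q.Prime) (hr : r.Prime)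
    (hpq : p ≠ q) (hqr : q ≠ r) (hG' : Nat.card G = p * r * q ^ b) (hlt : r < p) :
    (∃ (F : Type) (_ : Field F) (_ : Fintype F), Fintype.card F = 5 ∧
      Nonempty (G ≃* Matrix.ProjectiveSpecialLinearGroup (Fin 2) F)) ∨
    (∃ (F : Type) (_ : Field F) (_ : Fintype F), Fintype.card F = 7 ∧
      Nonempty (G ≃* Matrix.ProjectiveSpecialLinearGroup (Fin 2) F)) := by
  have hpf : Fact p.Prime := ⟨hp⟩
  have hr2 := hr.two_le
  have hp2 := hp.two_le
  by_cases hrp : r = p - 1
  · -- `p = 3`, `r = 2`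
    exfalso
    have hp3 : p = 3 := by
      by_contra hne
      have h1 : Odd p := hp.odd_of_ne_two (by omega)
      obtain ⟨k, hk⟩ := h1
      have h2 : 2 ∣ r := ⟨k, by omega⟩
      have h3 := (Nat.prime_dvd_prime_iff_eq Nat.prime_two hr).mp h2
      omega
    subst hp3
    have hr' : r = 2 := by omega
    subst hr'
    have hqo : Odd q := hq.odd_of_ne_two hqr
    have hodd : Odd (3 * q ^ b) := (by decide : Odd 3).mul (hqo.pow)
    obtain ⟨K, hK, hKc, -⟩ := F5.exists_index_two hodd (N := G) (by rw [hG']; ring)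
    rcases hK.eq_bot_or_eq_top with h | h
    · rw [h, Subgroup.card_bot] at hKc
      have : 0 < q ^ b := Nat.pow_pos hq.pos
      omega
    · rw [h, Subgroup.card_top, hG'] at hKc
      have : 0 < q ^ b := Nat.pow_pos hq.pos
      omega
  rcases small_cof hG hq hpq (b := b) (g₀ := r) (by rw [hG']; ring) (by omega) with
    ⟨m, F, hF, hF', h1, h2, ⟨e⟩⟩ | ⟨m, F, hF, hF', h1, h2, h3, ⟨e⟩⟩
  · have hodd : Odd p := hp.odd_of_ne_two (by omega)
    have hc : 2 * Nat.card G = p * ((p - 1) * (p + 1)) := by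
      rw [Nat.card_congr e.toEquiv, H14.SubField.card_PSL2_odd (by rw [h1]; exact hodd), h1]
    rw [hG'] at hc
    have hc1 : 2 * (r * q ^ b) = (p - 1) * (p + 1) := by
      have : p * (2 * (r * q ^ b)) = p * ((p - 1) * (p + 1)) := by rw [← hc]; ring
      exact Nat.eq_of_mul_eq_mul_left hp.pos this
    rcases h2 with h2 | h2
    · -- `p = 2^m + 1`
      have hm0 : m ≠ 0 := by rintro rfl; norm_num at h2; omega
      obtain ⟨l, rfl⟩ : ∃ l, m = l + 1 := ⟨m - 1, by omega⟩
      have hc2 : r * q ^ b = 2 ^ (l + 1) * (2 ^ l + 1) := by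
        have h4 : p - 1 = 2 ^ (l + 1) := by omega
        have h5 : p + 1 = 2 * (2 ^ l + 1) := by rw [h2]; ring
        rw [h4, h5] at hc1
        have : 2 * (r * q ^ b) = 2 * (2 ^ (l + 1) * (2 ^ l + 1)) := by rw [hc1]; ring
        exact Nat.eq_of_mul_eq_mul_left (by norm_num) this
      have h4 : 4 ∣ r * q ^ b := by
        rw [hc2]
        rcases Nat.eq_zero_or_pos l with h | h
        · rw [h]; norm_num
        · obtain ⟨s, rfl⟩ : ∃ s, l = s + 1 := ⟨l - 1, by omega⟩
          exact ⟨2 ^ s * (2 ^ (s + 1) + 1), by ring⟩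
      have hq2 := eq_two_of_four hq hr h4
      subst hq2
      rcases Nat.eq_zero_or_pos l with h | h
      · exfalso
        rw [h] at hc2
        norm_num at hc2
        have h5 : r ∣ 2 ^ 2 := ⟨2 ^ b, by rw [hc2]; norm_num⟩
        exact hqr ((Nat.prime_dvd_prime_iff_eq hr Nat.prime_two).mp (hr.dvd_of_dvd_pow h5)).symm
      · have hodd' : Odd (2 ^ l + 1) := by
          have : Even (2 ^ l) := even_two.pow_of_ne_zero (by omega)
          exact this.add_one
        have hrc := odd_part hqr.symm hr hodd' hc2.symm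
        rw [hrc] at hr
        rw [h2] at hp
        rcases Nat.even_or_odd l with he | ho
        · have := odd_add (he.add_one) hp
          omega
        · have := odd_add ho hr
          left
          refine ⟨F, hF, hF', ?_, ⟨e⟩⟩
          rw [h1, h2, this]
          norm_num
    · -- `p = 2^m - 1`
      have hm0 : m ≠ 0 := by rintro rfl; norm_num at h2; omega
      obtain ⟨l, rfl⟩ : ∃ l, m = l + 1 := ⟨m - 1, by omega⟩
      have hl0 : l ≠ 0 := by rintro rfl; norm_num at h2; omega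
      have hpw : 2 ^ (l + 1) = 2 * 2 ^ l := by ring
      have hpos : 0 < 2 ^ l := by positivity
      have hl2 : 2 ∣ 2 ^ l := dvd_pow_self 2 hl0
      have hc2 : r * q ^ b = 2 ^ (l + 1) * (2 ^ l - 1) := by
        have h4 : p - 1 = 2 * (2 ^ l - 1) := by omega
        have h5 : p + 1 = 2 ^ (l + 1) := by omega
        rw [h4, h5] at hc1
        have : 2 * (r * q ^ b) = 2 * (2 ^ (l + 1) * (2 ^ l - 1)) := by rw [hc1]; ring
        exact Nat.eq_of_mul_eq_mul_left (by norm_num) this
      have h4 : 4 ∣ r * q ^ b := by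
        rw [hc2, hpw]
        obtain ⟨s, hs⟩ := hl2
        rw [hs]
        exact ⟨s * (2 * s - 1), by ring⟩
      have hq2 := eq_two_of_four hq hr h4
      subst hq2
      have hodd' : Odd (2 ^ l - 1) := by
        obtain ⟨s, hs⟩ := hl2
        exact ⟨s - 1, by omega⟩
      have hrc := odd_part hqr.symm hr hodd' hc2.symm
      rw [hrc] at hr
      rw [h2] at hp
      rcases Nat.even_or_odd l with he | ho
      · have := even_sub he hr
        right
        refine ⟨F, hF, hF', ?_, ⟨e⟩⟩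
        rw [h1, h2, this]
        norm_num
      · have h5 := even_sub (ho.add_one) hp
        have h6 : l = 1 := by omega
        rw [h6] at hr
        norm_num at hr
  · -- characteristic two
    have hm : m ≠ 0 := by rintro rfl; norm_num at h2; omega
    obtain ⟨e2⟩ := sl_equiv_psl (F := F) hm h1
    have hc : Nat.card G = 2 ^ m * ((2 ^ m - 1) * (2 ^ m + 1)) := by
      rw [Nat.card_congr e.toEquiv, Nat.card_congr e2.symm.toEquiv, card_SL hm h1]
    have hpos : 0 < 2 ^ m := by positivity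
    have hc2 : r * q ^ b = 2 ^ m * (2 ^ m - 1) := by
      have : p * (r * q ^ b) = p * (2 ^ m * (2 ^ m - 1)) := by
        calc p * (r * q ^ b) = Nat.card G := by rw [hG']; ring
          _ = _ := by rw [hc, ← h2]; ring
      exact Nat.eq_of_mul_eq_mul_left hp.pos this
    have hl2 : 2 ∣ 2 ^ m := dvd_pow_self 2 hm
    have hm1 : m ≠ 1 := by rintro rfl; norm_num at h2; omega
    have h4 : 4 ∣ r * q ^ b := by
      rw [hc2]
      obtain ⟨s, rfl⟩ : ∃ s, m = s + 2 := ⟨m - 2, by omega⟩
      exact ⟨2 ^ s * (2 ^ (s + 2) - 1), by ring⟩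
    have hq2 := eq_two_of_four hq hr h4
    subst hq2
    have hodd' : Odd (2 ^ m - 1) := by
      obtain ⟨s, hs⟩ := hl2
      exact ⟨s - 1, by omega⟩
    have hrc := odd_part hqr.symm hr hodd' hc2.symm
    rw [hrc] at hr
    rw [h2] at hp
    rcases Nat.even_or_odd m with he | ho
    · have h5 := even_sub he hr
      left
      have h6 : Nat.card G = 60 := by rw [hc, h5]; norm_num
      obtain ⟨e3⟩ := order_sixty h6
      have hf : Fact (Nat.Prime 5) := ⟨by norm_num⟩
      exact ⟨ZMod 5, inferInstance, inferInstance, ZMod.card 5, ⟨e3⟩⟩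
    · exact absurd (odd_add ho hp) hm1

end

end Cfsg.Agent.BT
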