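import Cfsg.Agent.S0633
import Cfsg.Agent.H79.ModR
import Cfsg.Agent.H79.ModV
import Cfsg.Agent.H79.PModule
import Cfsg.Agent.H76.PSolvable
import Cfsg.Agent.CharBase.Ortho
import Cfsg.Agent.H75.Tools

/-!
`p`-solvable linear groups of degree at most `p - 1`.
-/

set_option autoImplicit false

namespace Cfsg.Agent.BT

open Cfsg Subgroup

universe u v w

section NP

variable {G : Type u} [Group G] [Finite G]

/-- `G / K` has a normal Sylow `p`-subgroup. -/
def NP (p : ℕ) (K : Subgroup G) : Prop :=
  ∃ A : Subgroup G, A.Normal ∧ K ≤ A ∧ (∀ a ∈ A, ∃ m : ℕ, a ^ p ^ m ∈ K) ∧ ¬ p ∣ A.index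

theorem NP.inf {p : ℕ} [hp : Fact p.Prime] {K L : Subgroup G} (hK : NP p K) (hL : NP p L) :
    NP p (K ⊓ L) := by
  obtain ⟨A, hA, hKA, hA1, hA2⟩ := hK
  obtain ⟨B, hB, hLB, hB1, hB2⟩ := hL
  refine ⟨A ⊓ B, inferInstance, inf_le_inf hKA hLB, ?_, ?_⟩
  · rintro a ⟨ha, ha'⟩
    obtain ⟨m, hm⟩ := hA1 a ha
    obtain ⟨m', hm'⟩ := hB1 a ha'
    refine ⟨m + m', ?_, ?_⟩
    · rw [pow_add, pow_mul]; exact K.pow_mem hm _
    · rw [pow_add, mul_comm, pow_mul]; exact L.pow_mem hm' _
  · intro h
    have h1 : (A ⊓ B).index = B.relIndex A * A.index := by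
      rw [← Subgroup.relIndex_mul_index (inf_le_left : A ⊓ B ≤ A), Subgroup.inf_relIndex_left]
    have h2 : B.relIndex A ∣ B.index := Subgroup.relIndex_dvd_index_of_normal B A
    rw [h1] at h
    rcases (hp.out.dvd_mul).mp h with h | h
    · exact hB2 (h.trans h2)
    · exact hA2 h

theorem NP.of_pow {p : ℕ} {K L : Subgroup G} (hL : NP p L) (hKL : K ≤ L)
    (h : ∀ a ∈ L, ∃ m : ℕ, a ^ p ^ m ∈ K) : NP p K := by
  obtain ⟨B, hB, hLB, hB1, hB2⟩ := hL
  refine ⟨B, hB, hKL.trans hLB, ?_, hB2⟩
  intro a ha
  obtain ⟨m, hm⟩ := hB1 a ha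
  obtain ⟨m', hm'⟩ := h _ hm
  exact ⟨m + m', by rw [pow_add, pow_mul]; exact hm'⟩

theorem NP.normal {p : ℕ} [hp : Fact p.Prime] {K : Subgroup G} (hK : NP p K)
    (h : ∀ a ∈ K, ∃ m : ℕ, a ^ p ^ m = 1) (P : Sylow p G) : (P : Subgroup G).Normal := by
  obtain ⟨A, hA, hKA, hA1, hA2⟩ := hK
  have hAp : IsPGroup p A := by
    intro a
    obtain ⟨m, hm⟩ := hA1 a a.2
    obtain ⟨m', hm'⟩ := h _ hm
    refine ⟨m + m', Subtype.ext ?_⟩
    show (a : G) ^ p ^ (m + m') = 1
    rw [pow_add, pow_mul, hm']
  have hle : A ≤ (P : Subgroup G) := by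
    obtain ⟨Q, hQ⟩ := hAp.exists_le_sylow
    obtain ⟨g, hg⟩ := MulAction.exists_smul_eq G Q P
    intro a ha
    rw [← hg, Sylow.coe_subgroup_smul, Subgroup.mem_pointwise_smul_iff_inv_smul_mem]
    apply hQ
    rw [← map_inv, MulAut.smul_def, MulAut.conj_apply]
    exact hA.conj_mem a ha _
  have heq : (P : Subgroup G) = A := by
    symm
    apply Subgroup.eq_of_le_of_card_ge hle
    have h1 : A.relIndex P ∣ A.index := Subgroup.relIndex_dvd_index_of_normal A P
    have h2 : A.relIndex P ∣ Nat.card (P : Subgroup G) := Subgroup.index_dvd_card _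
    obtain ⟨k, hk⟩ := (IsPGroup.iff_card (p := p)).mp P.2
    rw [hk] at h2
    obtain ⟨j, -, hj⟩ := (Nat.dvd_prime_pow hp.out).mp h2
    have hj0 : j = 0 := by
      by_contra hne
      apply hA2
      rw [hj] at h1
      exact (dvd_pow_self p hne).trans h1
    rw [hj0, pow_zero] at hj
    have h3 := Subgroup.card_mul_index (A.subgroupOf (P : Subgroup G))
    have h4 : (A.subgroupOf (P : Subgroup G)).index = 1 := hj
    rw [h4, mul_one, Nat.card_congr (Subgroup.subgroupOfEquivOfLe hle).toEquiv] at h3
    rw [h3]
  rw [heq]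
  exact hA

end NP

section lin

variable {G : Type u} [Group G] [Finite G] {p : ℕ} [hp : Fact p.Prime]
  {k : Type v} [Field k] [CharP k p]

/-- the irreducible case -/
theorem irr_case (hsol : IsPSolvable p G) {V : Type w} [AddCommGroup V] [Module k V]
    [FiniteDimensional k V] [Nontrivial V] (hd : Module.finrank k V + 1 ≤ p)
    (τ : G →* Module.End k V)
    (hirr : ∀ W : Submodule k V, (∀ g : G, ∀ w ∈ W, τ g w ∈ W) → W = ⊥ ∨ W = ⊤) :
    NP p τ.ker ∨ (Module.finrank k V + 1 = p ∧ ∃ m : ℕ, Module.finrank k V = 2 ^ m) := by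
  classical
  let u : G →* (V ≃ₗ[k] V) :=
    ((LinearMap.GeneralLinearGroup.generalLinearEquiv k V).toMonoidHom).comp τ.toHomUnits
  have hu : ∀ (g : G) (v : V), u g v = τ g v := fun g v => rfl
  have hker : u.ker = τ.ker := by
    ext g
    rw [MonoidHom.mem_ker, MonoidHom.mem_ker]
    constructor
    · intro h
      apply LinearMap.ext
      intro v
      rw [← hu, h]; rfl
    · intro h
      apply LinearEquiv.ext
      intro v
      rw [hu, h]; rfl
  obtain ⟨H, hH⟩ : ∃ H : Subgroup (V ≃ₗ[k] V), H = u.range := ⟨_, rfl⟩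
  have hfin : Finite H := by rw [hH]; exact Finite.of_surjective u.rangeRestrict u.rangeRestrict_surjective
  have hsolH : IsPSolvable p H := by
    rw [hH]
    exact H76.isPSolvable_of_surjective u.rangeRestrict u.rangeRestrict_surjective hsol
  have hcard : Nat.card H = u.ker.index := by
    rw [hH, Subgroup.index_ker]
  by_cases hpH : p ∣ Nat.card H
  · right
    have hOp : pCore p H = ⊥ := by
      rw [eq_bot_iff]
      intro h hh
      -- the fixed space of the core
      let σ : H →* Module.End k V :=
        { toFun := fun h => ((h : V ≃ₗ[k] V) : V →ₗ[k] V)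
          map_one' := rfl
          map_mul' := fun a b => rfl }
      have hσ : ∀ (h : H) (v : V), σ h v = (h : V ≃ₗ[k] V) v := fun h v => rfl
      let W : Submodule k V :=
        { carrier := {v | ∀ h ∈ pCore p H, σ h v = v}
          add_mem' := by
            intro a b ha hb h hh
            rw [map_add, ha h hh, hb h hh]
          zero_mem' := fun h _ => map_zero _
          smul_mem' := by
            intro c a ha h hh
            rw [map_smul, ha h hh] }
      have hW : ∀ v, v ∈ W ↔ ∀ h ∈ pCore p H, σ h v = v := fun v => Iff.rfl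
      have hN : (pCore p H).Normal := pCore_normal p H
      have hWinv : ∀ g : G, ∀ w ∈ W, τ g w ∈ W := by
        intro g w hw
        rw [hW] at hw ⊢
        intro h hh
        let g' : H := ⟨u g, by rw [hH]; exact ⟨g, rfl⟩⟩
        have h1 := hw (g'⁻¹ * h * g') (by
          have := hN.conj_mem h hh g'⁻¹
          rwa [inv_inv] at this)
        have h2 : τ g w = σ g' w := rfl
        rw [h2]
        have h3 : σ h (σ g' w) = σ g' (σ (g'⁻¹ * h * g') w) := by
          rw [← Module.End.mul_apply, ← Module.End.mul_apply, ← map_mul, ← map_mul]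
          congr 2
          group
        rw [h3, h1]
      obtain ⟨v₀, hv₀⟩ := exists_ne (0 : V)
      obtain ⟨v, -, hv0, hv⟩ := H79.exists_fixed_vector p (Solv.pCore_isPGroup (G := H) p)
        (σ.comp (pCore p H).subtype) v₀ hv₀
      have hWtop : W = ⊤ := by
        rcases hirr W hWinv with h | h
        · exfalso
          apply hv0
          rw [← Submodule.mem_bot (R := k), ← h, hW]
          intro y hy
          exact hv ⟨y, hy⟩
        · exact h
      rw [Subgroup.mem_bot]
      apply Subtype.ext
      apply LinearEquiv.ext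
      intro y
      have : y ∈ W := by rw [hWtop]; trivial
      exact (hW y).mp this h hh
    obtain ⟨x, hx⟩ := exists_prime_orderOf_dvd_card' p hpH
    have hxo : orderOf (x : V ≃ₗ[k] V) = p := by rw [Subgroup.orderOf_coe]; exact hx
    set T : Module.End k V := ((x : V ≃ₗ[k] V) : Module.End k V) with hT
    haveI : CharP (Module.End k V) p :=
      charP_of_injective_algebraMap (FaithfulSMul.algebraMap_injective k (Module.End k V)) p
    have hTpow : ∀ j : ℕ, T ^ j = (((x : V ≃ₗ[k] V) ^ j : V ≃ₗ[k] V) : Module.End k V) := by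
      intro j
      induction j with
      | zero => rfl
      | succ j ih => rw [pow_succ, ih, pow_succ]; rfl
    have hTp : T ^ p = 1 := by
      rw [hTpow, ← hxo, pow_orderOf_eq_one]; rfl
    have hT1 : (T - 1) ^ p = 0 := by
      rw [sub_pow_char_of_commute (p := p) (Commute.one_right T), hTp, one_pow, sub_self]
    have hmin : minpoly k T ∣ (Polynomial.X - 1) ^ p := minpoly.dvd k T (by
      rw [map_pow, map_sub, Polynomial.aeval_X, map_one, hT1])
    have hirrX : Prime (Polynomial.X - 1 : Polynomial k) := by
      have := Polynomial.prime_X_sub_C (1 : k)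
      rwa [Polynomial.C_1] at this
    obtain ⟨r, hrp, hr⟩ := (dvd_prime_pow hirrX p).mp hmin
    have hmonic : (minpoly k T).Monic := minpoly.monic (Algebra.IsIntegral.isIntegral T)
    have hmonic2 : ((Polynomial.X - 1 : Polynomial k) ^ r).Monic := by
      have := Polynomial.monic_X_sub_C (1 : k)
      rw [Polynomial.C_1] at this
      exact this.pow r
    have hr' : minpoly k T = (Polynomial.X - 1) ^ r := Polynomial.eq_of_monic_of_associated hmonic hmonic2 hr
    have hrd : r ≤ Module.finrank k V := by
      have h1 : (minpoly k T).natDegree ≤ (LinearMap.charpoly T).natDegree :=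
        Polynomial.natDegree_le_of_dvd (LinearMap.minpoly_dvd_charpoly T)
          (LinearMap.charpoly_monic T).ne_zero
      rw [LinearMap.charpoly_natDegree, hr', Polynomial.natDegree_pow] at h1
      have h2 : (Polynomial.X - 1 : Polynomial k).natDegree = 1 := by
        have := Polynomial.natDegree_X_sub_C (1 : k)
        rwa [Polynomial.C_1] at this
      rwa [h2, mul_one] at h1
    rcases S0633.result H hsolH hOp (x : V ≃ₗ[k] V) x.2 1 (by rw [hxo, pow_one]) r hr' with h | h
    · exfalso
      rw [pow_one] at h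
      omega
    · obtain ⟨n₀, q, m, h1, h2, hq, hm, h3, -, h4⟩ := h
      have hn : n₀ = 1 := by omega
      subst hn
      rw [pow_one] at h3 h4
      rw [Nat.sub_self, pow_zero, one_mul] at h4
      have hp2 := hp.out.two_le
      have h5 : Module.finrank k V + 1 = p := by omega
      refine ⟨h5, m, ?_⟩
      have h6 : Module.finrank k V = q ^ m := by omega
      have hp3 : p ≠ 2 := by
        rintro rfl
        have h7 : 2 ≤ q ^ m := hq.two_le.trans (Nat.le_self_pow (by omega) q)
        omega
      have hodd := hp.out.odd_of_ne_two hp3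
      have h7 : 2 ∣ q ^ m := by
        rw [← h6]
        obtain ⟨j, hj⟩ := hodd
        exact ⟨j, by omega⟩
      have h8 := (Nat.prime_dvd_prime_iff_eq Nat.prime_two hq).mp (Nat.prime_two.dvd_of_dvd_pow h7)
      rw [h6, ← h8]
  · left
    refine ⟨τ.ker, inferInstance, le_refl _, fun a ha => ⟨0, ?_⟩, ?_⟩
    · rw [pow_zero, pow_one]; exact ha
    · rw [← hker, ← hcard]; exact hpH

theorem main_np (hsol : IsPSolvable p G) : ∀ (d : ℕ) (V : Type w) [AddCommGroup V] [Module k V]
    [FiniteDimensional k V], Module.finrank k V = d → d + 1 ≤ p → ∀ τ : G →* Module.End k V,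
    NP p τ.ker ∨ (d + 1 = p ∧ ∃ m : ℕ, d = 2 ^ m) := by
  intro d
  induction d using Nat.strong_induction_on with
  | _ d ih =>
  intro V _ _ _ hdim hd τ
  classical
  rcases subsingleton_or_nontrivial V with hV | hV
  · left
    refine ⟨⊤, inferInstance, le_top, fun a _ => ⟨0, ?_⟩, ?_⟩
    · rw [MonoidHom.mem_ker]
      apply LinearMap.ext
      intro v
      exact Subsingleton.elim _ _
    · rw [Subgroup.index_top]
      exact hp.out.one_lt.ne' ∘ Nat.dvd_one.mp
  by_cases hirr : ∀ W : Submodule k V, (∀ g : G, ∀ w ∈ W, τ g w ∈ W) → W = ⊥ ∨ W = ⊤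
  · have := irr_case hsol (by rw [hdim]; exact hd) τ hirr
    rwa [hdim] at this
  · left
    push Not at hirr
    obtain ⟨W, hW, hW0, hW1⟩ := hirr
    let τW : G →* Module.End k W :=
      { toFun := fun g => (τ g).restrict (hW g)
        map_one' := by
          apply LinearMap.ext
          intro w
          apply Subtype.ext
          show τ 1 (w : V) = w
          rw [map_one]; rfl
        map_mul' := by
          intro a b
          apply LinearMap.ext
          intro w
          apply Subtype.ext
          show τ (a * b) (w : V) = τ a (τ b w)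
          rw [map_mul]; rfl }
    let τQ : G →* Module.End k (V ⧸ W) :=
      { toFun := fun g => W.mapQ W (τ g) (fun w hw => hW g w hw)
        map_one' := by
          apply LinearMap.ext
          intro w
          obtain ⟨w, rfl⟩ := Submodule.Quotient.mk_surjective W w
          show Submodule.Quotient.mk (τ 1 w) = _
          rw [map_one]; rfl
        map_mul' := by
          intro a b
          apply LinearMap.ext
          intro w
          obtain ⟨w, rfl⟩ := Submodule.Quotient.mk_surjective W w
          show Submodule.Quotient.mk (τ (a * b) w) = Submodule.Quotient.mk (τ a (τ b w))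
          rw [map_mul]; rfl }
    have hf1 : Module.finrank k W < d := by
      rw [← hdim]
      exact Submodule.finrank_lt hW1
    have hf2 : Module.finrank k (V ⧸ W) < d := by
      have h1 := Submodule.finrank_quotient_add_finrank W
      have hWn : Nontrivial W := (Submodule.nontrivial_iff_ne_bot).mpr hW0
      have h2 : 0 < Module.finrank k W := Module.finrank_pos
      omega
    have h1 : NP p τW.ker := by
      rcases ih _ hf1 W rfl (by omega) τW with h | h
      · exact h
      · exfalso; omega
    have h2 : NP p τQ.ker := by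
      rcases ih _ hf2 (V ⧸ W) rfl (by omega) τQ with h | h
      · exact h
      · exfalso; omega
    refine (h1.inf h2).of_pow ?_ ?_
    · intro g hg
      rw [MonoidHom.mem_ker] at hg
      refine ⟨?_, ?_⟩
      · show g ∈ τW.ker
        rw [MonoidHom.mem_ker]
        apply LinearMap.ext
        intro w
        apply Subtype.ext
        show τ g (w : V) = w
        rw [hg]; rfl
      · show g ∈ τQ.ker
        rw [MonoidHom.mem_ker]
        apply LinearMap.ext
        intro w
        obtain ⟨w, rfl⟩ := Submodule.Quotient.mk_surjective W w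
        show Submodule.Quotient.mk (τ g w) = _
        rw [hg]; rfl
    · rintro g ⟨hg1', hg2'⟩
      have hg1 : τW g = 1 := hg1'
      have hg2 : τQ g = 1 := hg2'
      refine ⟨1, ?_⟩
      rw [pow_one, MonoidHom.mem_ker, map_pow]
      haveI : CharP (Module.End k V) p :=
        charP_of_injective_algebraMap (FaithfulSMul.algebraMap_injective k (Module.End k V)) p
      have h3 : (τ g - 1) ^ 2 = 0 := by
        rw [pow_two]
        apply LinearMap.ext
        intro v
        have h4 : τ g v - v ∈ W := by
          have h5 : τQ g (Submodule.Quotient.mk v) = Submodule.Quotient.mk v := by rw [hg2]; rfl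
          have h6 : (Submodule.Quotient.mk (τ g v) : V ⧸ W) = Submodule.Quotient.mk v := h5
          exact (Submodule.Quotient.eq W).mp h6
        have h5 : ∀ w ∈ W, τ g w = w := by
          intro w hw
          have h6 : τW g ⟨w, hw⟩ = ⟨w, hw⟩ := by rw [hg1]; rfl
          exact congrArg Subtype.val h6
        show (τ g - 1) ((τ g - 1) v) = 0
        rw [LinearMap.sub_apply, LinearMap.sub_apply, Module.End.one_apply, Module.End.one_apply,
          h5 _ h4, sub_self]
      have h4 : (τ g - 1) ^ p = 0 := by
        obtain ⟨j, hj⟩ := Nat.exists_eq_add_of_le hp.out.two_le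
        rw [hj, pow_add, h3, zero_mul]
      rw [sub_pow_char_of_commute (p := p) (Commute.one_right (τ g)), one_pow, sub_eq_zero] at h4
      exact h4

end lin

end Cfsg.Agent.BT
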