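import Cfsg.Agent.BT.Ell

/-!
Products `ψ ξ̄` of exceptional characters.
-/

set_option autoImplicit false

open scoped ComplexConjugate

namespace Cfsg.Agent.BT

open Cfsg Subgroup Cfsg.Agent.BR
open Cfsg.Agent.CharBase (oneIrr)

universe u

/-- the product `ψ ξ̄`. -/
def pr {G : Type u} [Group G] (ψ ξ : IrrCharacter G) : G → ℂ :=
  fun g => (ψ : G → ℂ) g * conj ((ξ : G → ℂ) g)

section

variable {G : Type u} [Group G] [Fintype G]

theorem pr_isCharacter (ψ ξ : IrrCharacter G) : IsCharacter G (pr ψ ξ) :=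
  CharBase.isCharacter_mul (CharBase.irr_isCharacter ψ)
    (CharBase.irr_isCharacter (⟨_, CharBase.isIrrCharacter_conj ξ.2⟩ : IrrCharacter G))

theorem pr_one (ψ ξ : IrrCharacter G) : pr ψ ξ 1 = ((dg ψ * dg ξ : ℕ) : ℂ) := by
  unfold pr
  rw [dg_eq, dg_eq, Complex.conj_natCast]
  push_cast
  rfl

theorem classInner_pr_one (ψ ξ : IrrCharacter G) :
    classInner (pr ψ ξ) ((oneIrr G : IrrCharacter G) : G → ℂ) =
      classInner (ψ : G → ℂ) (ξ : G → ℂ) := by
  unfold classInner pr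
  congr 1
  refine Finset.sum_congr rfl fun g _ => ?_
  rw [CharBase.oneIrr_apply, map_one, mul_one]

end

section

variable {G : Type u} [Group G] [Fintype G] {p : ℕ} [hp : Fact p.Prime] {P : Subgroup G}
  (st : Ex p P)

include st

/-- products with exceptional characters, nonexceptional constituents. -/
theorem Ex.pr_sub_X {ψ ξ ξ' χ : IrrCharacter G} (hξ : ξ ∈ st.B.Y) (hξ' : ξ' ∈ st.B.Y)
    (hχ : χ ∈ st.B.X) :
    classInner (pr ψ ξ) (χ : G → ℂ) - classInner (pr ψ ξ') (χ : G → ℂ) =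
      (st.B.δ χ : ℂ) * (classInner (ψ : G → ℂ) (ξ : G → ℂ) -
        classInner (ψ : G → ℂ) (ξ' : G → ℂ)) := by
  rw [← CharBase.classInner_sub_left]
  have h1 : classInner (pr ψ ξ - pr ψ ξ') (χ : G → ℂ) = classInner (pr ψ ξ - pr ψ ξ')
      ((st.B.δ χ : ℂ) • ((oneIrr G : IrrCharacter G) : G → ℂ)) := by
    refine st.inner_agree (CharBase.isClassFunction_sub
      (CharBase.isClassFunction_of_isCharacter (pr_isCharacter ψ ξ))
      (CharBase.isClassFunction_of_isCharacter (pr_isCharacter ψ ξ')))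
      (CharBase.irr_isClassFunction _) (CharBase.isClassFunction_smul _
      (CharBase.irr_isClassFunction _)) ?_ ?_
    · intro g hg
      rw [Pi.sub_apply]
      unfold pr
      rw [st.B.Y_eq hξ hξ' hg, sub_self]
    · intro x hx hx1
      rw [Pi.smul_apply, CharBase.oneIrr_apply, st.B.val_one hχ hx hx1, smul_eq_mul, mul_one]
  rw [h1, CharBase.classInner_smul_right, CharBase.classInner_sub_left, classInner_pr_one,
    classInner_pr_one]
  congr 1
  exact map_intCast (starRingEnd ℂ) _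

/-- products with exceptional characters, constituents of defect zero. -/
theorem Ex.pr_sub_out {ψ ξ ξ' χ : IrrCharacter G} (hξ : ξ ∈ st.B.Y) (hξ' : ξ' ∈ st.B.Y)
    (h1 : χ ∉ st.B.X) (h2 : χ ∉ st.B.Y) :
    classInner (pr ψ ξ) (χ : G → ℂ) = classInner (pr ψ ξ') (χ : G → ℂ) := by
  rw [← sub_eq_zero, ← CharBase.classInner_sub_left]
  have h3 : classInner (pr ψ ξ - pr ψ ξ') (χ : G → ℂ) = classInner (pr ψ ξ - pr ψ ξ')
      (0 : G → ℂ) := by
    refine st.inner_agree (CharBase.isClassFunction_sub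
      (CharBase.isClassFunction_of_isCharacter (pr_isCharacter ψ ξ))
      (CharBase.isClassFunction_of_isCharacter (pr_isCharacter ψ ξ')))
      (CharBase.irr_isClassFunction _) (fun _ _ => rfl) ?_ ?_
    · intro g hg
      rw [Pi.sub_apply]
      unfold pr
      rw [st.B.Y_eq hξ hξ' hg, sub_self]
    · intro x hx hx1
      rw [st.B.out st.hC χ h1 h2 x hx hx1, Pi.zero_apply]
  rw [h3, CharBase.classInner_zero_right]

/-- **the functional on `ψ ψ̄`**. -/
theorem Ex.sum_ell_pr [Fintype (IrrCharacter G)] {ψ : IrrCharacter G} (hψ : ψ ∈ st.B.Y)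
    (hd : (st.B.δ₀ = -1 ∧ dg ψ = ind P) ∨ (st.B.δ₀ = 1 ∧ dg ψ + ind P = p))
    {m : IrrCharacter G → ℕ} (hm : ∀ χ : IrrCharacter G, classInner (pr ψ ψ) (χ : G → ℂ) = m χ)
    (hsum : pr ψ ψ = ∑ χ : IrrCharacter G, m χ • (χ : G → ℂ)) :
    m (oneIrr G) = 1 ∧ ∑ χ : IrrCharacter G, (m χ : ℤ) * st.ell χ =
      (2 * dg ψ - (p - 1)) * (dg ψ - 1) := by
  have := Fintype.ofFinite P
  have h1 : m (oneIrr G) = 1 := by
    have h2 := hm (oneIrr G)
    rw [classInner_pr_one, CharBase.classInner_irr_self] at h2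
    exact_mod_cast h2.symm
  refine ⟨h1, ?_⟩
  rw [st.sum_ell hsum (pr_one ψ ψ) (st.norm_Y hψ hd), h1]
  push_cast
  ring

end

end Cfsg.Agent.BT
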