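import Mathlib
import Cfsg.Agent.BT.SAa
import Cfsg.Agent.S3360
import Cfsg.Agent.S0003

/-! Solvable coprime linear groups transitive on points and lines. -/

set_option autoImplicit false

namespace Cfsg.Agent.BT.SA

open Module H99

variable {p : ℕ} [hp : Fact p.Prime] {V : Type*} [AddCommGroup V] [Module (ZMod p) V] [Finite V]
  {n : ℕ}

theorem card_sub (W : Submodule (ZMod p) V) : Nat.card W = p ^ finrank (ZMod p) W := by
  have := Module.natCard_eq_pow_finrank (K := ZMod p) (V := W)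
  rw [this, Nat.card_zmod]

theorem finrank_of_card (hV : Nat.card V = p ^ n) : finrank (ZMod p) V = n := by
  have := Module.natCard_eq_pow_finrank (K := ZMod p) (V := V)
  rw [hV, Nat.card_zmod] at this
  exact (Nat.pow_right_injective hp.out.two_le this).symm

/-- the group generated by the image and the scalars -/
def Phi {H : Type*} [Group H] (ρ : H →* (V ≃ₗ[ZMod p] V)) : H × (ZMod p)ˣ →* (V ≃ₗ[ZMod p] V) :=
  MonoidHom.noncommCoprod ρ (DistribMulAction.toModuleAut (ZMod p) V) (by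
    intro h c
    apply LinearEquiv.ext
    intro v
    change ρ h ((c : ZMod p) • v) = (c : ZMod p) • ρ h v
    rw [map_smul])

theorem Phi_apply {H : Type*} [Group H] (ρ : H →* (V ≃ₗ[ZMod p] V)) (h : H) (c : (ZMod p)ˣ) (v : V) :
    Phi ρ (h, c) v = (c : ZMod p) • ρ h v := by
  change ρ h ((c : ZMod p) • v) = _
  rw [map_smul]

theorem qf1 (q : ℕ) : qfac q 1 = q - 1 := by simp [qfac]
theorem qf2 (q : ℕ) : qfac q 2 = (q - 1) * (q ^ 2 - 1) := by simp [qfac, Finset.prod_range_succ]

/-- number of 2-dimensional subspaces -/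
theorem count_two (hn : 3 ≤ n) (hV : Nat.card V = p ^ n) :
    Nat.card {W : Submodule (ZMod p) V // finrank (ZMod p) W = 2} * ((p - 1) * (p ^ 2 - 1)) =
      (p ^ n - 1) * (p ^ (n - 1) - 1) := by
  have h1 := finrank_of_card hV
  have h2 := card_subspaces_mul (F := ZMod p) (V := V) 2 (by omega)
  rw [h1, Nat.card_zmod, qf2] at h2
  obtain ⟨k, rfl⟩ : ∃ k, n = k + 2 := ⟨n - 2, by omega⟩
  rw [show k + 2 - 2 = k by omega, show k + 2 = (k + 1) + 1 by omega, qfac_succ, qfac_succ] at h2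
  have h3 : 0 < qfac p k := qfac_pos hp.out.two_le k
  apply Nat.eq_of_mul_eq_mul_right h3
  rw [mul_assoc, h2, show k + 1 + 1 - 1 = k + 1 by omega]
  ring

/-- number of points in dimension 3 -/
theorem count_one_three (hV : Nat.card V = p ^ 3) :
    Nat.card {W : Submodule (ZMod p) V // finrank (ZMod p) W = 1} * (p - 1) = p ^ 3 - 1 := by
  have h1 := finrank_of_card hV
  have h2 := card_subspaces_mul (F := ZMod p) (V := V) 1 (by omega)
  rw [h1, Nat.card_zmod, qf1, show 3 - 1 = 2 by rfl, qfac_succ p 2] at h2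
  have h3 : 0 < qfac p 2 := qfac_pos hp.out.two_le 2
  apply Nat.eq_of_mul_eq_mul_right h3
  rw [mul_assoc, h2, mul_comm]

theorem exists_sub {k : ℕ} (hk : k ≤ n) (hV : Nat.card V = p ^ n) :
    ∃ W : Submodule (ZMod p) V, finrank (ZMod p) W = k := by
  have h1 := finrank_of_card hV
  have h2 := card_subspaces_mul (F := ZMod p) (V := V) k (by omega)
  by_contra hcon
  push Not at hcon
  have h3 : IsEmpty {W : Submodule (ZMod p) V // finrank (ZMod p) W = k} := ⟨fun W => hcon W.1 W.2⟩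
  rw [Nat.card_of_isEmpty, zero_mul] at h2
  have h4 : 0 < qfac (Nat.card (ZMod p)) (finrank (ZMod p) V) :=
    qfac_pos (by rw [Nat.card_zmod]; exact hp.out.two_le) _
  omega

/-- the divisibility condition on the pair `(p, n)` -/
theorem num_cond (hp' : p.Prime) (hn : 3 ≤ n) (hd : p ^ (n - 1) - 1 ∣ (p ^ 2 - 1) * n) :
    n = 3 ∨ (n = 5 ∧ p = 2) := by
  have hp2 := hp'.two_le
  have hpos : 0 < (p ^ 2 - 1) * n := by
    have : 2 ^ 2 ≤ p ^ 2 := Nat.pow_le_pow_left hp2 2
    exact Nat.mul_pos (by omega) (by omega)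
  have hle := Nat.le_of_dvd hpos hd
  have hsq : 2 ^ 2 ≤ p ^ 2 := Nat.pow_le_pow_left hp2 2
  rcases Nat.lt_or_ge n 6 with h6 | h6
  · interval_cases n
    · left; rfl
    · exfalso
      -- p^3 - 1 ∣ (p^2-1) * 4
      obtain ⟨q, rfl⟩ : ∃ q, p = q + 2 := ⟨p - 2, by omega⟩
      have e1 : (q + 2) ^ (4 - 1) - 1 = (q + 1) * ((q + 2) ^ 2 + (q + 2) + 1) := by
        have : (q + 2) ^ (4 - 1) = (q + 1) * ((q + 2) ^ 2 + (q + 2) + 1) + 1 := by
          norm_num; ring
        omega
      have e2 : ((q + 2) ^ 2 - 1) * 4 = (q + 1) * ((q + 3) * 4) := by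
        have : (q + 2) ^ 2 = (q + 1) * (q + 3) + 1 := by ring
        rw [this, Nat.add_sub_cancel]; ring
      rw [e1, e2] at hd
      have h3 := Nat.dvd_of_mul_dvd_mul_left (by omega) hd
      have h4 : Nat.Coprime ((q + 2) ^ 2 + (q + 2) + 1) (q + 3) := by
        have : (q + 2) ^ 2 + (q + 2) + 1 = (q + 2) * (q + 3) + 1 := by ring
        rw [this]
        simp [Nat.coprime_mul_left_add_left]
      have h5 := h4.dvd_of_dvd_mul_left h3
      have h6 := Nat.le_of_dvd (by norm_num) h5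
      nlinarith
    · right
      refine ⟨rfl, ?_⟩
      have e1 : p ^ (5 - 1) - 1 = (p ^ 2 - 1) * (p ^ 2 + 1) := by
        obtain ⟨q, hq⟩ : ∃ q, p ^ 2 = q + 1 := ⟨p ^ 2 - 1, by omega⟩
        have : p ^ (5 - 1) = (p ^ 2) ^ 2 := by ring
        rw [this, hq]
        have : (q + 1) ^ 2 = q * (q + 1 + 1) + 1 := by ring
        rw [this, Nat.add_sub_cancel, Nat.add_sub_cancel]
      rw [e1] at hd
      have h3 := Nat.dvd_of_mul_dvd_mul_left (by omega) hd
      have h4 := Nat.le_of_dvd (by norm_num) h3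
      have h5 : p < 3 := by
        by_contra h
        push Not at h
        have : 3 ^ 2 ≤ p ^ 2 := Nat.pow_le_pow_left h 2
        omega
      omega
  · exfalso
    have h1 : 2 ^ (n - 3) ≤ p ^ (n - 3) := Nat.pow_le_pow_left hp2 _
    have h2 : p ^ (n - 1) = p ^ (n - 3) * p ^ 2 := by
      rw [← pow_add]; congr 1; omega
    have h3 : ∀ m : ℕ, 6 ≤ m → m < 2 ^ (m - 3) := by
      intro m hm
      induction m, hm using Nat.le_induction with
      | base => norm_num
      | succ m hm ih =>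
        rw [show m + 1 - 3 = (m - 3) + 1 by omega, pow_succ]
        omega
    have h4 := h3 n h6
    have h5 : n + 1 ≤ p ^ (n - 3) := by omega
    rw [h2] at hle
    obtain ⟨r, hr⟩ : ∃ r, p ^ 2 = r + 1 := ⟨p ^ 2 - 1, by omega⟩
    rw [hr] at hle
    rw [Nat.add_sub_cancel] at hle
    have h6 : (n + 1) * (r + 1) ≤ p ^ (n - 3) * (r + 1) := Nat.mul_le_mul_right _ h5
    have h7 : 3 ≤ r := by omega
    have h8 : (n + 1) * (r + 1) = n * r + n + r + 1 := by ring
    have h9 : r * n = n * r := mul_comm _ _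
    omega

end Cfsg.Agent.BT.SA
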