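import Mathlib
import Cfsg.Agent.BT.SAb

/-! The exceptional case `|V| = 81`. -/

set_option autoImplicit false

namespace Cfsg.Agent.BT.SA

open Module H99

section fix
variable {p : ℕ} [hp : Fact p.Prime] {V : Type*} [AddCommGroup V] [Module (ZMod p) V] [Finite V]

/-- fixed space -/
def fixS (g : V ≃ₗ[ZMod p] V) : Submodule (ZMod p) V := LinearMap.eqLocus g.toLinearMap LinearMap.id

theorem mem_fixS {g : V ≃ₗ[ZMod p] V} {v : V} : v ∈ fixS g ↔ g v = v := Iff.rfl

theorem fix_mod (g : V ≃ₗ[ZMod p] V) {r : ℕ} [Fact r.Prime] (hg : g ^ r = 1) :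
    Nat.card V ≡ Nat.card (fixS g) [MOD r] := by
  have h1 : IsPGroup r (Subgroup.zpowers g) := by
    rintro ⟨x, k, rfl⟩
    refine ⟨1, Subtype.ext ?_⟩
    change (g ^ k) ^ (r ^ 1) = 1
    rw [pow_one, ← zpow_natCast, ← zpow_mul, mul_comm, zpow_mul, zpow_natCast, hg, one_zpow]
  have h2 := h1.card_modEq_card_fixedPoints V
  have h3 : MulAction.fixedPoints (Subgroup.zpowers g) V = (fixS g : Set V) := by
    ext v
    rw [MulAction.mem_fixedPoints, SetLike.mem_coe, mem_fixS]
    constructor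
    · intro h
      exact h ⟨g, Subgroup.mem_zpowers g⟩
    · rintro h ⟨x, k, rfl⟩
      have h4 : g ∈ MulAction.stabilizer (V ≃ₗ[ZMod p] V) v := h
      exact (MulAction.stabilizer (V ≃ₗ[ZMod p] V) v).zpow_mem h4 k
  rw [h3] at h2
  exact h2

end fix

theorem card_GL {V : Type*} [AddCommGroup V] [Module (ZMod 3) V] [Finite V] (hV : Nat.card V = 3 ^ 4) :
    Nat.card (V ≃ₗ[ZMod 3] V) = 65 * 373248 := by
  have h1 : finrank (ZMod 3) V = 4 := finrank_of_card (p := 3) hV
  let b := finBasisOfFinrankEq (ZMod 3) V h1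
  have e1 := (LinearMap.GeneralLinearGroup.generalLinearEquiv (ZMod 3) V).symm.toEquiv
  have e2 := (Units.mapEquiv (LinearMap.toMatrixAlgEquiv b).toMulEquiv).toEquiv
  rw [Nat.card_congr e1, Nat.card_congr e2]
  have h2 := Matrix.card_GL_field (𝔽 := ZMod 3) 4
  rw [ZMod.card] at h2
  refine h2.trans ?_
  decide

theorem exc_false {V : Type*} [AddCommGroup V] [Module (ZMod 3) V] [Finite V] (hV : Nat.card V = 3 ^ 4)
    (Γ : Subgroup (V ≃ₗ[ZMod 3] V)) (hsol : Group.IsSolvable Γ) (h65 : 65 ∣ Nat.card Γ) : False := by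
  have hfin : Finite (V ≃ₗ[ZMod 3] V) := DFunLike.finite _
  obtain ⟨m, hm⟩ := h65
  have h1 : Nat.card Γ ∣ 65 * 373248 := card_GL hV ▸ Subgroup.card_subgroup_dvd_card Γ
  rw [hm] at h1
  have h2 : m ∣ 373248 := Nat.dvd_of_mul_dvd_mul_left (by norm_num) h1
  have hcop : Nat.Coprime 65 m := Nat.Coprime.coprime_dvd_right h2 (by norm_num)
  obtain ⟨L, hL⟩ := Cfsg.Agent.S0003.result 65 m hm hcop
  have f13 : Fact (Nat.Prime 13) := ⟨by norm_num⟩
  have f5 : Fact (Nat.Prime 5) := ⟨by norm_num⟩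
  obtain ⟨x, hx⟩ := exists_prime_orderOf_dvd_card' (G := L) 13 (by rw [hL]; norm_num)
  obtain ⟨y, hy⟩ := exists_prime_orderOf_dvd_card' (G := L) 5 (by rw [hL]; norm_num)
  have hidx : (Subgroup.zpowers x).index = 5 := by
    have := (Subgroup.zpowers x).card_mul_index
    rw [Nat.card_zpowers, hx, hL] at this
    omega
  have hnorm : (Subgroup.zpowers x).Normal := by
    apply Subgroup.normal_of_index_eq_minFac_card
    rw [hidx, hL]
    norm_num
  obtain ⟨j, hj⟩ := Subgroup.mem_zpowers_iff.mp (hnorm.conj_mem x (Subgroup.mem_zpowers x) y⁻¹)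
  set X : V ≃ₗ[ZMod 3] V := ((x : Γ) : V ≃ₗ[ZMod 3] V) with hXdef
  set Y : V ≃ₗ[ZMod 3] V := ((y : Γ) : V ≃ₗ[ZMod 3] V) with hYdef
  have hX13 : orderOf X = 13 := by
    rw [hXdef, Subgroup.orderOf_coe, Subgroup.orderOf_coe, hx]
  have hY5 : orderOf Y = 5 := by
    rw [hYdef, Subgroup.orderOf_coe, Subgroup.orderOf_coe, hy]
  have hX1 : X ≠ 1 := by
    intro h; rw [h, orderOf_one] at hX13; omega
  have hY1 : Y ≠ 1 := by
    intro h; rw [h, orderOf_one] at hY5; omega
  have hconj : Y⁻¹ * X * Y = X ^ j := by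
    have := congrArg (fun z : L => ((z : Γ) : V ≃ₗ[ZMod 3] V)) hj
    simp only [Subgroup.coe_mul, Subgroup.coe_inv, Subgroup.coe_zpow, inv_inv] at this
    exact this.symm
  -- dimension of fixed spaces
  have htop : ∀ g : V ≃ₗ[ZMod 3] V, finrank (ZMod 3) (fixS g) = 4 → g = 1 := by
    intro g hg
    have h3 : fixS g = ⊤ := Submodule.eq_top_of_finrank_eq (by rw [hg, finrank_of_card (p := 3) hV])
    apply LinearEquiv.ext
    intro v
    have : v ∈ fixS g := h3 ▸ Submodule.mem_top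
    exact this
  have hle : ∀ g : V ≃ₗ[ZMod 3] V, finrank (ZMod 3) (fixS g) ≤ 4 := by
    intro g
    have := Submodule.finrank_le (fixS g)
    rwa [finrank_of_card (p := 3) hV] at this
  have hXd : finrank (ZMod 3) (fixS X) = 1 := by
    have h3 := fix_mod X (r := 13) (by rw [← hX13]; exact pow_orderOf_eq_one X)
    rw [hV, card_sub] at h3
    have h4 := hle X
    have h5 : finrank (ZMod 3) (fixS X) ≠ 4 := fun h => hX1 (htop X h)
    generalize finrank (ZMod 3) (fixS X) = k at h3 h4 h5 ⊢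
    interval_cases k
    · exact absurd h3 (by decide)
    · rfl
    · exact absurd h3 (by decide)
    · exact absurd h3 (by decide)
    · omega
  obtain ⟨⟨v, hv⟩, hv0, hspan⟩ := finrank_eq_one_iff'.mp hXd
  have hv0' : v ≠ 0 := fun h => hv0 (Subtype.ext h)
  have hYv : Y v ∈ fixS X := by
    rw [mem_fixS]
    have h3 : (X ^ j) v = v := by
      have h4 : X ∈ MulAction.stabilizer (V ≃ₗ[ZMod 3] V) v := hv
      exact (MulAction.stabilizer (V ≃ₗ[ZMod 3] V) v).zpow_mem h4 j
    rw [← hconj] at h3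
    have h5 : Y ((Y⁻¹ * X * Y) v) = Y v := by rw [h3]
    have h6 : Y * (Y⁻¹ * X * Y) = X * Y := by group
    have h7 : (Y * (Y⁻¹ * X * Y)) v = Y v := h5
    rw [h6] at h7
    exact h7
  obtain ⟨c, hc⟩ := hspan ⟨Y v, hYv⟩
  have hc' : Y v = c • v := (congrArg Subtype.val hc).symm
  have hpow : ∀ k : ℕ, (Y ^ k) v = c ^ k • v := by
    intro k
    induction k with
    | zero => simp
    | succ k ih =>
      rw [pow_succ, pow_succ]
      change (Y ^ k) (Y v) = _
      rw [hc', map_smul, ih, smul_smul, mul_comm]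
  have h5 := hpow 5
  have hY51 : Y ^ 5 = 1 := by rw [← hY5]; exact pow_orderOf_eq_one Y
  rw [hY51] at h5
  have h6 : (c ^ 5 - 1) • v = 0 := by
    rw [sub_smul, one_smul, ← h5]
    exact sub_self _
  rcases smul_eq_zero.mp h6 with h7 | h7
  · have h8 : ∀ c : ZMod 3, c ^ 5 - 1 = 0 → c = 1 := by decide
    rw [h8 c h7, one_smul] at hc'
    have h9 := fix_mod Y (r := 5) hY51
    rw [hV, card_sub] at h9
    have h10 := hle Y
    have h11 : finrank (ZMod 3) (fixS Y) ≠ 4 := fun h => hY1 (htop Y h)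
    have h12 : finrank (ZMod 3) (fixS Y) ≠ 0 := by
      intro h
      have h13 := Submodule.finrank_eq_zero.mp h
      have h14 : v ∈ fixS Y := hc'
      rw [h13, Submodule.mem_bot] at h14
      exact hv0' h14
    generalize finrank (ZMod 3) (fixS Y) = k at h9 h10 h11 h12
    interval_cases k
    · omega
    · exact absurd h9 (by decide)
    · exact absurd h9 (by decide)
    · exact absurd h9 (by decide)
    · omega
  · exact hv0' h7

end Cfsg.Agent.BT.SA
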