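import Mathlib
import Cfsg.Agent.BT.SAc

/-! Solvable linear groups transitive on points and lines: main theorem. -/

set_option autoImplicit false

namespace Cfsg.Agent.BT.SA

open Module H99

theorem exc_num {p n : ℕ} (hp : p.Prime) (hn : 3 ≤ n)
    (hexc : p ^ n = 9 ∨ p ^ n = 25 ∨ p ^ n = 49 ∨ p ^ n = 121 ∨ p ^ n = 529 ∨ p ^ n = 81) : p = 3 ∧ n = 4 := by
  have hd3 : p ^ 3 ∣ p ^ n := pow_dvd_pow p hn
  have hbig : ∀ m : ℕ, p ^ n = m → m ≤ 529 → p ^ 3 ≤ 529 := by
    intro m h1 h2
    rw [h1] at hd3
    rcases Nat.eq_zero_or_pos m with h0 | h0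
    · rw [h0] at h1
      exact absurd h1 (pow_pos hp.pos n).ne'
    · exact (Nat.le_of_dvd h0 hd3).trans h2
  have hp8 : p ≤ 8 := by
    have h1 : p ^ 3 ≤ 529 := by
      rcases hexc with h | h | h | h | h | h <;> exact hbig _ h (by norm_num)
    by_contra h
    push Not at h
    have : 9 ^ 3 ≤ p ^ 3 := Nat.pow_le_pow_left h 3
    omega
  have hlow := hp.two_le
  clear hbig
  interval_cases p
  · exfalso
    rcases hexc with h | h | h | h | h | h <;> rw [h] at hd3 <;> norm_num at hd3
  · rcases hexc with h | h | h | h | h | h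
    · exfalso; rw [h] at hd3; norm_num at hd3
    · exfalso; rw [h] at hd3; norm_num at hd3
    · exfalso; rw [h] at hd3; norm_num at hd3
    · exfalso; rw [h] at hd3; norm_num at hd3
    · exfalso; rw [h] at hd3; norm_num at hd3
    · refine ⟨rfl, ?_⟩
      have : 3 ^ n = 3 ^ 4 := by rw [h]; norm_num
      exact Nat.pow_right_injective (by norm_num) this
  · exact absurd hp (by norm_num)
  · exfalso
    rcases hexc with h | h | h | h | h | h <;> rw [h] at hd3 <;> norm_num at hd3
  · exact absurd hp (by norm_num)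
  · exfalso
    rcases hexc with h | h | h | h | h | h <;> rw [h] at hd3 <;> norm_num at hd3
  · exact absurd hp (by norm_num)

variable {p : ℕ} [hp : Fact p.Prime] {V : Type*} [AddCommGroup V] [Module (ZMod p) V] [Finite V]
  {n : ℕ}

theorem linear_main (hn : 3 ≤ n) (hV : Nat.card V = p ^ n) {H : Type*} [Group H] [Finite H]
    (hsol : Group.IsSolvable H) (ρ : H →* (V ≃ₗ[ZMod p] V))
    (htr : ∀ A B : Submodule (ZMod p) V, Nat.card A = Nat.card B → ∃ h : H, B = A.map (ρ h).toLinearMap) :
    (∃ e : V ≃+ GaloisField p n, ∀ h, ∃ (a : GaloisField p n) (σ : GaloisField p n ≃+* GaloisField p n),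
      ∀ v, e (ρ h v) = a * σ (e v)) ∧
    ((n = 3 ∧ (p = 2 → 7 ∣ Nat.card H)) ∨ (n = 5 ∧ p = 2 ∧ 155 ∣ Nat.card H)) := by
  classical
  have hp2 := hp.out.two_le
  have hfr := finrank_of_card hV
  have hVnt : Nontrivial V := by
    have : 1 < Nat.card V := by
      rw [hV]; exact Nat.one_lt_pow (by omega) hp2
    exact Finite.one_lt_card_iff_nontrivial.mp this
  have hfinGL : Finite (V ≃ₗ[ZMod p] V) := DFunLike.finite _
  -- conjugacy by dimension
  have htr' : ∀ A B : Submodule (ZMod p) V, finrank (ZMod p) A = finrank (ZMod p) B →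
      ∃ h : H, B = A.map (ρ h).toLinearMap := by
    intro A B h
    exact htr A B (by rw [card_sub, card_sub, h])
  set Γ := (Phi ρ).range with hΓ
  have hsolΓ : Group.IsSolvable Γ := by
    have : Group.IsSolvable (H × (ZMod p)ˣ) := inferInstance
    exact solvable_of_surjective (Phi ρ).rangeRestrict_surjective
  have htransΓ : ∀ v w : V, v ≠ 0 → w ≠ 0 → ∃ g : Γ, Γ.subtype g v = w := by
    intro v w hv hw
    obtain ⟨h, hh⟩ := htr' (Submodule.span (ZMod p) {v}) (Submodule.span (ZMod p) {w})
      (by rw [finrank_span_singleton hv, finrank_span_singleton hw])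
    rw [Submodule.map_span, Set.image_singleton] at hh
    have h1 : w ∈ Submodule.span (ZMod p) {(ρ h).toLinearMap v} := by
      rw [← hh]; exact Submodule.mem_span_singleton_self w
    obtain ⟨c, hc⟩ := Submodule.mem_span_singleton.mp h1
    have hc0 : c ≠ 0 := by
      rintro rfl
      rw [zero_smul] at hc
      exact hw hc.symm
    refine ⟨⟨Phi ρ (h, Units.mk0 c hc0), ⟨_, rfl⟩⟩, ?_⟩
    change Phi ρ (h, Units.mk0 c hc0) v = w
    rw [Phi_apply]
    exact hc
  -- orbits on lines
  obtain ⟨W₀, hW₀⟩ := exists_sub (p := p) (V := V) (k := 2) (n := n) (by omega) hV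
  set N2 := Nat.card {W : Submodule (ZMod p) V // finrank (ZMod p) W = 2} with hN2
  have hcount := count_two hn hV
  rw [← hN2] at hcount
  have hH2 : N2 ∣ Nat.card H := by
    obtain ⟨S, -, hS⟩ := orbit_card ρ 2 W₀ hW₀ (fun W hW => htr' W₀ W (by rw [hW₀, hW]))
    exact ⟨_, hS.symm⟩
  have hΓ2 : N2 * (p - 1) ∣ Nat.card Γ := by
    obtain ⟨S, hSm, hS⟩ := orbit_card Γ.subtype 2 W₀ hW₀ (fun W hW => by
      obtain ⟨h, hh⟩ := htr' W₀ W (by rw [hW₀, hW])
      refine ⟨⟨Phi ρ (h, 1), ⟨_, rfl⟩⟩, ?_⟩
      rw [hh]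
      congr 1
      apply LinearMap.ext
      intro v
      change ρ h v = Phi ρ (h, 1) v
      rw [Phi_apply, Units.val_one, one_smul])
    rw [← hS]
    apply Nat.mul_dvd_mul_left
    let ζ : (ZMod p)ˣ →* Γ := (Phi ρ).rangeRestrict.comp (MonoidHom.inr H (ZMod p)ˣ)
    have hζ : ∀ c v, ((ζ c : Γ) : V ≃ₗ[ZMod p] V) v = (c : ZMod p) • v := by
      intro c v
      change Phi ρ (1, c) v = _
      rw [Phi_apply, map_one]
      rfl
    have hinj : Function.Injective ζ := by
      intro c d hcd
      obtain ⟨v, hv⟩ := exists_ne (0 : V)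
      have h1 := hζ c v
      rw [hcd, hζ] at h1
      exact (Units.ext (smul_left_injective (ZMod p) hv h1)).symm
    have hle : ζ.range ≤ S := by
      rintro _ ⟨c, rfl⟩
      rw [hSm]
      ext v
      rw [Submodule.mem_map]
      constructor
      · rintro ⟨w, hw, rfl⟩
        change ((ζ c : Γ) : V ≃ₗ[ZMod p] V) w ∈ W₀
        rw [hζ]
        exact W₀.smul_mem _ hw
      · intro hv
        refine ⟨((c⁻¹ : (ZMod p)ˣ) : ZMod p) • v, W₀.smul_mem _ hv, ?_⟩
        change ((ζ c : Γ) : V ≃ₗ[ZMod p] V) _ = v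
        rw [hζ, smul_smul, Units.mul_inv, one_smul]
    have hcz : Nat.card ζ.range = p - 1 := by
      rw [← Nat.card_congr (MonoidHom.ofInjective hinj).toEquiv, Nat.card_eq_fintype_card, ZMod.card_units]
    rw [← hcz]
    exact Subgroup.card_dvd_of_le hle
  rcases Cfsg.Agent.S3360.result p hsolΓ Γ.subtype Γ.subtype_injective htransΓ with hsem | hexc
  · obtain ⟨F, iF, iFt, e, he⟩ := hsem
    have hF : Nat.card F = p ^ n := by rw [← hV]; exact (Nat.card_congr e.toEquiv).symm
    -- embedding into the semilinear group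
    have hcardΓ : Nat.card Γ ∣ (p ^ n - 1) * n := by
      rw [← card_semilin F hF]
      let κ : Γ →* semilin F :=
        { toFun := fun g => ⟨e.symm.toEquiv.trans (((g : V ≃ₗ[ZMod p] V) : V ≃ V).trans e.toEquiv), by
            obtain ⟨a, σ, ha⟩ := he g
            have ha0 : a ≠ 0 := by
              rintro rfl
              obtain ⟨v, hv⟩ := exists_ne (0 : V)
              have h1 := ha v
              rw [zero_mul] at h1
              have h2 : Γ.subtype g v = 0 := by
                apply e.injective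
                rw [h1, map_zero]
              have h3 : v = 0 := by
                have : Γ.subtype g v = Γ.subtype g 0 := by rw [h2, map_zero]
                exact (Γ.subtype g).injective this
              exact hv h3
            refine ⟨Units.mk0 a ha0, σ, fun x => ?_⟩
            change e (Γ.subtype g (e.symm x)) = _
            rw [ha, AddEquiv.apply_symm_apply]
            rfl⟩
          map_one' := by
            apply Subtype.ext
            apply Equiv.ext
            intro x
            change e (e.symm x) = x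
            rw [AddEquiv.apply_symm_apply]
          map_mul' := by
            intro g h
            apply Subtype.ext
            apply Equiv.ext
            intro x
            change e (((g : V ≃ₗ[ZMod p] V) * (h : V ≃ₗ[ZMod p] V)) (e.symm x)) =
              e ((g : V ≃ₗ[ZMod p] V) (e.symm (e ((h : V ≃ₗ[ZMod p] V) (e.symm x)))))
            rw [AddEquiv.symm_apply_apply]
            rfl }
      apply Subgroup.card_dvd_of_injective κ
      intro g h hgh
      apply Subtype.ext
      apply LinearEquiv.ext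
      intro v
      have h1 : e ((g : V ≃ₗ[ZMod p] V) (e.symm (e v))) = e ((h : V ≃ₗ[ZMod p] V) (e.symm (e v))) :=
        congrArg (fun z : semilin F => (z : Equiv.Perm F) (e v)) hgh
      rw [AddEquiv.symm_apply_apply] at h1
      exact e.injective h1
    have hnum : n = 3 ∨ (n = 5 ∧ p = 2) := by
      apply num_cond hp.out hn
      have h1 : 0 < p ^ n - 1 := by
        have := Nat.one_lt_pow (n := n) (by omega) hp2
        omega
      apply Nat.dvd_of_mul_dvd_mul_left h1
      rw [← hcount, ← mul_assoc]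
      have h2 : (p ^ n - 1) * ((p ^ 2 - 1) * n) = ((p ^ n - 1) * n) * (p ^ 2 - 1) := by ring
      rw [h2]
      exact Nat.mul_dvd_mul_right (hΓ2.trans hcardΓ) _
    refine ⟨?_, ?_⟩
    · have hGF : Nat.card (GaloisField p n) = p ^ n := GaloisField.card p n (by omega)
      have : Fintype (GaloisField p n) := Fintype.ofFinite _
      have hcc : Fintype.card F = Fintype.card (GaloisField p n) := by
        rw [← Nat.card_eq_fintype_card, ← Nat.card_eq_fintype_card, hF, hGF]
      let θ : F ≃+* GaloisField p n := FiniteField.ringEquivOfCardEq hcc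
      refine ⟨e.trans θ.toAddEquiv, fun h => ?_⟩
      obtain ⟨a, σ, ha⟩ := he ⟨Phi ρ (h, 1), ⟨_, rfl⟩⟩
      refine ⟨θ a, (θ.symm.trans σ).trans θ, fun v => ?_⟩
      have h1 := ha v
      have h2 : Γ.subtype ⟨Phi ρ (h, 1), ⟨_, rfl⟩⟩ v = ρ h v := by
        change Phi ρ (h, 1) v = _
        rw [Phi_apply, Units.val_one, one_smul]
      rw [h2] at h1
      change θ (e (ρ h v)) = θ a * θ (σ (θ.symm (θ (e v))))
      rw [h1, map_mul, RingEquiv.symm_apply_apply]
    · rcases hnum with h3 | ⟨h5, hp2'⟩
      · left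
        refine ⟨h3, fun hp2' => ?_⟩
        rw [h3] at hV
        have h1 := count_one_three hV
        obtain ⟨W₁, hW₁⟩ := exists_sub (p := p) (V := V) (k := 1) (n := 3) (by omega) hV
        obtain ⟨S, -, hS⟩ := orbit_card ρ 1 W₁ hW₁ (fun W hW => htr' W₁ W (by rw [hW₁, hW]))
        generalize Nat.card {W : Submodule (ZMod p) V // finrank (ZMod p) W = 1} = N1 at h1 hS
        rw [hp2'] at h1
        have h4 : N1 = 7 := by omega
        rw [h4] at hS
        exact ⟨_, hS.symm⟩
      · right
        refine ⟨h5, hp2', ?_⟩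
        rw [h5, hp2'] at hcount
        have : N2 = 155 := by omega
        rw [← this]; exact hH2
  · exfalso
    rw [hV] at hexc
    simp only [Set.mem_insert_iff, Set.mem_singleton_iff] at hexc
    have h81 := exc_num hp.out hn hexc
    obtain ⟨rfl, rfl⟩ := h81
    refine exc_false hV Γ hsolΓ (Dvd.dvd.trans ?_ hΓ2)
    have : N2 = 130 := by omega
    rw [this]; norm_num

end Cfsg.Agent.BT.SA
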