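import Mathlib
import Cfsg.Prelude.Def_Transfer
import Cfsg.Agent.Solv.Core
import Cfsg.Agent.BT.SAd

/-! Groups with a normal elementary abelian Sylow subgroup in which subgroups of equal order are conjugate. -/

set_option autoImplicit false

namespace Cfsg.Agent.BT.SA

open Module H99

section semi
variable {F : Type*} [Field F]

theorem semi_pow {g : Equiv.Perm F} {a : F} {σ : F ≃+* F} (h : ∀ v, g v = a * σ v) (k : ℕ) :
    ∃ c : F, ∀ v, (g ^ k) v = c * (σ ^ k : RingAut F) v := by
  induction k with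
  | zero => exact ⟨1, fun v => by simp⟩
  | succ k ih =>
    obtain ⟨c, hc⟩ := ih
    refine ⟨c * (σ ^ k : RingAut F) a, fun v => ?_⟩
    rw [pow_succ, Equiv.Perm.mul_apply, h, hc, map_mul, pow_succ, ← mul_assoc]
    rfl

theorem semi_one {g : Equiv.Perm F} {a : F} {σ : F ≃+* F} (h : ∀ v, g v = a * σ v) {k m : ℕ} (hg : g ^ k = 1)
    (hm : (σ : RingAut F) ^ m = 1) (hkm : Nat.Coprime k m) : σ = RingEquiv.refl F := by
  obtain ⟨c, hc⟩ := semi_pow h k
  have h1 := hc 1
  rw [hg, map_one (σ ^ k : RingAut F), mul_one, Equiv.Perm.one_apply] at h1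
  have h2 : (σ : RingAut F) ^ k = 1 := by
    apply RingEquiv.ext
    intro v
    have h3 := hc v
    rw [hg, ← h1, one_mul, Equiv.Perm.one_apply] at h3
    exact h3.symm
  have h3 : orderOf (σ : RingAut F) ∣ Nat.gcd k m := Nat.dvd_gcd (orderOf_dvd_of_pow_eq_one h2) (orderOf_dvd_of_pow_eq_one hm)
  rw [hkm, Nat.dvd_one] at h3
  exact orderOf_eq_one_iff.mp h3

end semi

section T
variable {F V : Type*} [Field F] [AddCommGroup V] (e : V ≃+ F)

/-- the affine permutation -/
def Tp (x : V) (g : V ≃+ V) : Equiv.Perm F :=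
  (e.symm.toEquiv.trans (g.toEquiv.trans e.toEquiv)).trans (Equiv.addRight (e x))

theorem Tp_apply (x : V) (g : V ≃+ V) (v : F) : Tp e x g v = e (g (e.symm v)) + e x := rfl

theorem Tp_mul (x x' : V) (g g' : V ≃+ V) : Tp e x g * Tp e x' g' = Tp e (x + g x') (g'.trans g) := by
  apply Equiv.ext
  intro v
  rw [Equiv.Perm.mul_apply, Tp_apply, Tp_apply, Tp_apply, map_add, AddEquiv.symm_apply_apply, map_add, map_add, map_add,
    AddEquiv.symm_apply_apply, add_assoc, add_comm (e (g x'))]
  rfl

theorem Tp_one : Tp e 0 (AddEquiv.refl V) = 1 := by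
  apply Equiv.ext
  intro v
  rw [Tp_apply, map_zero, add_zero]
  exact e.apply_symm_apply v

theorem Tp_inj {x x' : V} {g g' : V ≃+ V} (h : Tp e x g = Tp e x' g') : x = x' ∧ g = g' := by
  have h0 := DFunLike.congr_fun h 0
  rw [Tp_apply, Tp_apply, map_zero e.symm, map_zero g, map_zero g', map_zero e, zero_add, zero_add] at h0
  refine ⟨e.injective h0, ?_⟩
  apply AddEquiv.ext
  intro v
  have h1 := DFunLike.congr_fun h (e v)
  rw [Tp_apply, Tp_apply, AddEquiv.symm_apply_apply, h0] at h1
  exact e.injective (add_right_cancel h1)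

theorem coeff_ne_zero {g : V ≃+ V} {a : F} {σ : F ≃+* F} (h : ∀ v, e (g v) = a * σ (e v)) : a ≠ 0 := by
  rintro rfl
  have h1 := h (e.symm 1)
  rw [zero_mul] at h1
  have h2 : g (e.symm 1) = 0 := e.injective (by rw [h1, map_zero])
  have h3 : e.symm 1 = 0 := g.injective (by rw [h2, map_zero])
  have h4 : (1 : F) = 0 := e.symm.injective (by rw [h3, map_zero])
  exact one_ne_zero h4

end T

variable {p : ℕ} [hp : Fact p.Prime] {n : ℕ}

theorem group_main' {Y : Type*} [Group Y] [Finite Y] (hsol : Group.IsSolvable Y) (P : Subgroup Y) [hPn : P.Normal]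
    {V : Type*} [AddCommGroup V] [Module (ZMod p) V] [Finite V] (ε : V ≃ P) (hε : ∀ v w, ε (v + w) = ε v * ε w)
    (hn : 3 ≤ n) (hcard : Nat.card P = p ^ n) (hidx : P.index.Coprime p)
    (hO : Cfsg.pPrimeCore p Y = ⊥)
    (hfus : ∀ A B : Subgroup Y, A ≤ P → B ≤ P → Nat.card A = Nat.card B → ∃ y : Y, ∀ x, x ∈ B ↔ y⁻¹ * x * y ∈ A) :
    (n = 3 ∧ (∃ f : Y →* ↥(Cfsg.semiaffineGroup (GaloisField p 3)), Function.Injective f) ∧
      (p = 2 → Nonempty (Y ≃* Cfsg.semiaffineGroup (GaloisField 2 3)) ∨
               Nonempty (Y ≃* Cfsg.affineGroup (GaloisField 2 3)))) ∨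
    (n = 5 ∧ p = 2 ∧ Nonempty (Y ≃* Cfsg.semiaffineGroup (GaloisField 2 5))) := by
  classical
  have hp2 := hp.out.two_le
  have hcopP : (Nat.card P).Coprime P.index := by
    rw [hcard]; exact (Nat.Coprime.pow_right n hidx).symm
  obtain ⟨H, hH⟩ := Subgroup.exists_right_complement'_of_coprime hcopP
  have hHcard : Nat.card H = P.index := by
    have h1 := hH.card_mul_card
    have h2 := P.card_mul_index
    rw [← h2] at h1
    exact Nat.eq_of_mul_eq_mul_left Nat.card_pos h1
  have hV : Nat.card V = p ^ n := by rw [← hcard]; exact Nat.card_congr ε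
  have hε0 : ε 0 = 1 := by
    have := hε 0 0
    rw [add_zero] at this
    exact (mul_eq_left.mp this.symm)
  let ac : Y → (V ≃+ V) := fun y =>
    { toFun := fun v => ε.symm (MulAut.conjNormal y (ε v))
      invFun := fun v => ε.symm (MulAut.conjNormal y⁻¹ (ε v))
      left_inv := fun v => by
        change ε.symm (MulAut.conjNormal y⁻¹ (ε (ε.symm (MulAut.conjNormal y (ε v))))) = v
        rw [Equiv.apply_symm_apply, ← MulAut.mul_apply, ← map_mul, inv_mul_cancel, map_one, MulAut.one_apply,
          Equiv.symm_apply_apply]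
      right_inv := fun v => by
        change ε.symm (MulAut.conjNormal y (ε (ε.symm (MulAut.conjNormal y⁻¹ (ε v))))) = v
        rw [Equiv.apply_symm_apply, ← MulAut.mul_apply, ← map_mul, mul_inv_cancel, map_one, MulAut.one_apply,
          Equiv.symm_apply_apply]
      map_add' := fun v w => by
        apply ε.injective
        rw [Equiv.apply_symm_apply, hε, hε, map_mul, Equiv.apply_symm_apply, Equiv.apply_symm_apply] }
  have hac : ∀ y v, ac y v = ε.symm (MulAut.conjNormal y (ε v)) := fun _ _ => rfl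
  let ρ : H →* (V ≃ₗ[ZMod p] V) :=
    { toFun := fun h => AddEquiv.toLinearEquiv (ac (h : Y)) (fun c x => ZMod.map_smul _ c x)
      map_one' := by
        apply LinearEquiv.ext
        intro x
        change ac ((1 : H) : Y) x = x
        rw [hac, Subgroup.coe_one, map_one, MulAut.one_apply, Equiv.symm_apply_apply]
      map_mul' := by
        intro g h
        apply LinearEquiv.ext
        intro x
        change ac ((g * h : H) : Y) x = ac (g : Y) (ac (h : Y) x)
        rw [hac, hac, hac, Subgroup.coe_mul, map_mul, MulAut.mul_apply, Equiv.apply_symm_apply] }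
  have hρ1 : ∀ (h : H) (x : V), ε (ρ h x) = MulAut.conjNormal (h : Y) (ε x) := fun h x => by
    change ε (ac (h : Y) x) = _
    rw [hac, Equiv.apply_symm_apply]
  have hρ : ∀ (h : H) (x : V), ((ε (ρ h x) : P) : Y) = h * (ε x : P) * (h : Y)⁻¹ := fun h x => by
    rw [hρ1, MulAut.conjNormal_apply]
  have hcP : ∀ a ∈ P, ∀ b ∈ P, a * b = b * a := by
    intro a ha b hb
    have h1 : ε (ε.symm ⟨a, ha⟩ + ε.symm ⟨b, hb⟩) = ε (ε.symm ⟨b, hb⟩ + ε.symm ⟨a, ha⟩) := by rw [add_comm]
    rw [hε, hε, Equiv.apply_symm_apply, Equiv.apply_symm_apply] at h1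
    exact congrArg Subtype.val h1
  -- faithfulness
  have hfaith : Function.Injective ρ := by
    rw [injective_iff_map_eq_one]
    intro h hh
    let D : Subgroup Y := H ⊓ Subgroup.centralizer (P : Set Y)
    have hDn : D.Normal := by
      refine ⟨fun d hd y => ?_⟩
      obtain ⟨⟨x, k⟩, hxk⟩ := hH.2 y
      simp only at hxk
      rw [← hxk]
      have hC : (Subgroup.centralizer (P : Set Y)).Normal := inferInstance
      have h1 : (k : Y) * d * (k : Y)⁻¹ ∈ D :=
        ⟨H.mul_mem (H.mul_mem k.2 hd.1) (H.inv_mem k.2), hC.conj_mem d hd.2 _⟩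
      have h2 : (x : Y) * ((k : Y) * d * (k : Y)⁻¹) = ((k : Y) * d * (k : Y)⁻¹) * x :=
        Subgroup.mem_centralizer_iff.mp h1.2 x x.2
      have h3 : (x : Y) * k * d * ((x : Y) * k)⁻¹ = (k : Y) * d * (k : Y)⁻¹ := by
        calc (x : Y) * k * d * ((x : Y) * k)⁻¹ = (x : Y) * ((k : Y) * d * (k : Y)⁻¹) * (x : Y)⁻¹ := by group
          _ = _ := by rw [h2]; group
      rw [h3]; exact h1
    have hDc : (Nat.card D).Coprime p := by
      have h1 : Nat.card D ∣ Nat.card H := Subgroup.card_dvd_of_le inf_le_left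
      rw [hHcard] at h1
      exact Nat.Coprime.coprime_dvd_left h1 hidx
    have hD : D ≤ Cfsg.pPrimeCore p Y := Solv.le_pPrimeCore hDn hDc
    rw [hO] at hD
    have hhD : (h : Y) ∈ D := by
      refine Subgroup.mem_inf.mpr ⟨h.2, ?_⟩
      rw [Subgroup.mem_centralizer_iff]
      intro x hx
      have h1 := hρ h (ε.symm ⟨x, hx⟩)
      rw [hh] at h1
      change ((ε (ε.symm ⟨x, hx⟩) : P) : Y) = _ at h1
      rw [Equiv.apply_symm_apply] at h1
      have h2 : x = h * x * (h : Y)⁻¹ := h1
      calc x * h = (h * x * (h : Y)⁻¹) * h := by rw [← h2]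
        _ = h * x := by group
    have := hD hhD
    rw [Subgroup.mem_bot] at this
    exact Subtype.ext this
  -- subspaces of equal order
  have htr : ∀ A B : Submodule (ZMod p) V, Nat.card A = Nat.card B →
      ∃ h : H, B = A.map (ρ h).toLinearMap := by
    intro A B hAB
    let j : Multiplicative V →* Y :=
      { toFun := fun v => ((ε v.toAdd : P) : Y)
        map_one' := by
          change ((ε 0 : P) : Y) = 1
          rw [hε0]; rfl
        map_mul' := fun v w => by
          change ((ε (v.toAdd + w.toAdd) : P) : Y) = _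
          rw [hε]; rfl }
    have hj : Function.Injective j := by
      intro v w hvw
      have h1 : ε v.toAdd = ε w.toAdd := Subtype.ext hvw
      exact Multiplicative.toAdd.injective (ε.injective h1)
    let sg : Submodule (ZMod p) V → Subgroup Y := fun A =>
      (AddSubgroup.toSubgroup A.toAddSubgroup).map j
    have hmem : ∀ (A : Submodule (ZMod p) V) (x : Y), x ∈ sg A ↔ ∃ v ∈ A, ((ε v : P) : Y) = x := by
      intro A x
      constructor
      · rintro ⟨y, hy, rfl⟩
        exact ⟨y.toAdd, hy, rfl⟩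
      · rintro ⟨v, hv, rfl⟩
        exact ⟨Multiplicative.ofAdd v, hv, rfl⟩
    have hcsg : ∀ A, Nat.card (sg A) = Nat.card A := by
      intro A
      rw [Subgroup.card_map_of_injective hj]
      rfl
    have hle : ∀ A, sg A ≤ P := by
      intro A x hx
      obtain ⟨v, -, rfl⟩ := (hmem A x).mp hx
      exact (ε v).2
    obtain ⟨y, hy⟩ := hfus (sg A) (sg B) (hle A) (hle B) (by rw [hcsg, hcsg, hAB])
    obtain ⟨⟨x, k⟩, hxk⟩ := hH.2 y
    simp only at hxk
    refine ⟨k, ?_⟩
    have key : ∀ z ∈ P, y⁻¹ * z * y = (k : Y)⁻¹ * z * k := by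
      intro z hz
      rw [← hxk]
      have h1 := hcP _ x.2 _ hz
      calc ((x : Y) * k)⁻¹ * z * ((x : Y) * k) = (k : Y)⁻¹ * ((x : Y)⁻¹ * (z * x)) * k := by group
        _ = (k : Y)⁻¹ * z * k := by rw [← h1]; group
    ext z
    rw [Submodule.mem_map]
    have hzB : z ∈ B ↔ ((ε z : P) : Y) ∈ sg B := by
      rw [hmem]
      constructor
      · intro h; exact ⟨z, h, rfl⟩
      · rintro ⟨v, hv, h⟩
        rwa [ε.injective (Subtype.ext h)] at hv
    rw [hzB, hy, key _ (ε z).2, hmem]
    constructor
    · rintro ⟨v, hv, h2⟩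
      refine ⟨v, hv, ?_⟩
      apply ε.injective
      apply Subtype.ext
      change ((ε (ρ k v) : P) : Y) = _
      rw [hρ, h2]
      group
    · rintro ⟨w, hw, rfl⟩
      refine ⟨w, hw, ?_⟩
      change _ = (k : Y)⁻¹ * ((ε (ρ k w) : P) : Y) * k
      rw [hρ]; group
  have hsolH : Group.IsSolvable H := inferInstance
  obtain ⟨⟨e, he⟩, hcases⟩ := linear_main hn hV hsolH ρ htr
  -- the embedding
  have hdec : ∀ y : Y, ∃ q : P × H, (q.1 : Y) * q.2 = y := fun y => hH.2 y
  choose q hq using hdec
  have hquniq : ∀ (x : P) (k : H), q ((x : Y) * k) = (x, k) := by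
    intro x k
    exact hH.1 (hq _)
  let f₀ : Y →* Equiv.Perm (GaloisField p n) :=
    { toFun := fun y => Tp e (ε.symm (q y).1) (ρ (q y).2).toAddEquiv
      map_one' := by
        have h1 : q 1 = (1, 1) := by
          have := hquniq 1 1
          simpa using this
        rw [h1]
        change Tp e (ε.symm 1) (ρ 1).toAddEquiv = 1
        rw [map_one ρ, ← hε0, Equiv.symm_apply_apply]
        exact Tp_one e
      map_mul' := by
        intro y z
        rw [Tp_mul]
        have h1 : y * z = (((q y).1 * MulAut.conjNormal ((q y).2 : Y) (q z).1 : P) : Y) * (((q y).2 * (q z).2 : H) : Y) := by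
          rw [Subgroup.coe_mul, Subgroup.coe_mul, MulAut.conjNormal_apply]
          conv_lhs => rw [← hq y, ← hq z]
          group
        have h2 : q (y * z) = ((q y).1 * MulAut.conjNormal ((q y).2 : Y) (q z).1, (q y).2 * (q z).2) := by
          conv_lhs => rw [h1]
          exact hquniq _ _
        have h3 : ε.symm ((q y).1 * MulAut.conjNormal ((q y).2 : Y) (q z).1) =
            ε.symm (q y).1 + (ρ (q y).2).toAddEquiv (ε.symm (q z).1) := by
          apply ε.injective
          rw [hε, Equiv.apply_symm_apply, Equiv.apply_symm_apply]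
          change _ = (q y).1 * ε (ρ (q y).2 (ε.symm (q z).1))
          rw [hρ1, Equiv.apply_symm_apply]
        rw [h2]
        change Tp e (ε.symm _) (ρ ((q y).2 * (q z).2)).toAddEquiv = _
        rw [map_mul ρ, h3]
        rfl }
  have hf₀ : ∀ y, f₀ y = Tp e (ε.symm (q y).1) (ρ (q y).2).toAddEquiv := fun _ => rfl
  have hinj : Function.Injective f₀ := by
    intro y z hyz
    rw [hf₀, hf₀] at hyz
    obtain ⟨h1, h2⟩ := Tp_inj e hyz
    have h3 : (q y).1 = (q z).1 := ε.symm.injective h1
    have h4 : (q y).2 = (q z).2 := by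
      apply hfaith
      apply LinearEquiv.ext
      intro v
      exact DFunLike.congr_fun h2 v
    rw [← hq y, ← hq z, h3, h4]
  have hsa : ∀ y, f₀ y ∈ Cfsg.semiaffineGroup (GaloisField p n) := by
    intro y
    obtain ⟨a, σ, ha⟩ := he (q y).2
    have ha0 : a ≠ 0 := coeff_ne_zero e (g := (ρ (q y).2).toAddEquiv) ha
    refine ⟨Units.mk0 a ha0, e (ε.symm (q y).1), σ, fun v => ?_⟩
    rw [hf₀, Tp_apply]
    have h1 := ha (e.symm v)
    rw [AddEquiv.apply_symm_apply] at h1
    rw [Units.val_mk0, ← h1]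
    rfl
  let f : Y →* Cfsg.semiaffineGroup (GaloisField p n) := f₀.codRestrict _ hsa
  have hfinj : Function.Injective f := by
    intro y z hyz
    exact hinj (congrArg Subtype.val hyz)
  have hcY : Nat.card Y = p ^ n * Nat.card H := by rw [← hH.card_mul_card, hcard]
  have hGF : Nat.card (GaloisField p n) = p ^ n := GaloisField.card p n (by omega)
  have hcsa := card_semiaff (GaloisField p n) hGF
  have hdvd : Nat.card Y ∣ Nat.card (Cfsg.semiaffineGroup (GaloisField p n)) := Subgroup.card_dvd_of_injective f hfinj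
  have hppos : 0 < p ^ n := pow_pos hp.out.pos n
  rw [hcY, hcsa] at hdvd
  have hdvd' := Nat.dvd_of_mul_dvd_mul_left hppos hdvd
  rcases hcases with ⟨h3, h7⟩ | ⟨h5, hp2', h155⟩
  · left
    subst h3
    refine ⟨rfl, ⟨f, hfinj⟩, ?_⟩
    intro hp2'
    have h7' := h7 hp2'
    subst hp2'
    rw [show (2 ^ 3 - 1) * 3 = 21 by norm_num] at hdvd'
    have hHc : Nat.card H = 21 ∨ Nat.card H = 7 := by
      obtain ⟨t, ht⟩ := h7'
      have h8 : Nat.card H ≤ 21 := Nat.le_of_dvd (by norm_num) hdvd'
      have h9 : 0 < Nat.card H := Nat.card_pos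
      rw [ht] at hdvd' h8 h9 ⊢
      have : t ≤ 3 := by omega
      interval_cases t
      · omega
      · right; rfl
      · exfalso; revert hdvd'; decide
      · left; rfl
    rcases hHc with h21 | h7
    · left
      rw [h21] at hcY
      have hb : Function.Bijective f := (Nat.bijective_iff_injective_and_card f).mpr ⟨hfinj, by rw [hcY, hcsa]; norm_num⟩
      exact ⟨MulEquiv.ofBijective f hb⟩
    · right
      rw [h7] at hcY
      have hcaut : Nat.card (RingAut (GaloisField 2 3)) = 3 := card_ringEquiv (GaloisField 2 3) hGF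
      have haf : ∀ y, f₀ y ∈ Cfsg.affineGroup (GaloisField 2 3) := by
        intro y
        obtain ⟨a, σ, ha⟩ := he (q y).2
        have ha0 : a ≠ 0 := coeff_ne_zero e (g := (ρ (q y).2).toAddEquiv) ha
        have hσ : σ = RingEquiv.refl _ := by
          have hg : ∀ v, Tp e 0 (ρ (q y).2).toAddEquiv v = a * σ v := by
            intro v
            rw [Tp_apply, map_zero, add_zero]
            have h1 := ha (e.symm v)
            rw [AddEquiv.apply_symm_apply] at h1
            exact h1
          have h10 : ∀ k : ℕ, (Tp e 0 (ρ (q y).2).toAddEquiv) ^ k = Tp e 0 (ρ ((q y).2 ^ k)).toAddEquiv := by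
            intro k
            induction k with
            | zero =>
              rw [pow_zero, pow_zero, map_one]
              exact (Tp_one e).symm
            | succ k ih =>
              rw [pow_succ, ih, Tp_mul, map_zero, add_zero, pow_succ, map_mul]
              rfl
          apply semi_one hg (k := 7) (m := 3)
          · rw [h10, ← h7, pow_card_eq_one', map_one]
            exact Tp_one e
          · exact (congrArg (fun k => (σ : RingAut (GaloisField 2 3)) ^ k) hcaut).symm.trans pow_card_eq_one'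
          · norm_num
        refine ⟨Units.mk0 a ha0, e (ε.symm (q y).1), fun v => ?_⟩
        rw [hf₀, Tp_apply]
        have h1 := ha (e.symm v)
        rw [AddEquiv.apply_symm_apply, hσ] at h1
        rw [Units.val_mk0]
        have h2 : e (ρ (q y).2 (e.symm v)) = a * v := h1
        rw [← h2]
        rfl
      let f' : Y →* Cfsg.affineGroup (GaloisField 2 3) := f₀.codRestrict _ haf
      have hf'inj : Function.Injective f' := by
        intro y z hyz
        exact hinj (congrArg Subtype.val hyz)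
      have hb : Function.Bijective f' := (Nat.bijective_iff_injective_and_card f').mpr
        ⟨hf'inj, by rw [hcY, card_aff (GaloisField 2 3) hGF]; norm_num⟩
      exact ⟨MulEquiv.ofBijective f' hb⟩
  · right
    subst h5 hp2'
    refine ⟨rfl, rfl, ?_⟩
    rw [show (2 ^ 5 - 1) * 5 = 155 by norm_num] at hdvd'
    have h1 : Nat.card H = 155 := Nat.dvd_antisymm hdvd' h155
    rw [h1] at hcY
    have hb : Function.Bijective f := (Nat.bijective_iff_injective_and_card f).mpr ⟨hfinj, by rw [hcY, hcsa]; norm_num⟩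
    exact ⟨MulEquiv.ofBijective f hb⟩

theorem group_main {Y : Type*} [Group Y] [Finite Y] (hsol : Group.IsSolvable Y) (P : Subgroup Y) [hPn : P.Normal]
    (hn : 3 ≤ n) (hel : Cfsg.IsElementaryAbelian p P) (hcard : Nat.card P = p ^ n) (hidx : P.index.Coprime p)
    (hO : Cfsg.pPrimeCore p Y = ⊥)
    (hfus : ∀ A B : Subgroup Y, A ≤ P → B ≤ P → Nat.card A = Nat.card B → ∃ y : Y, ∀ x, x ∈ B ↔ y⁻¹ * x * y ∈ A) :
    (n = 3 ∧ (∃ f : Y →* ↥(Cfsg.semiaffineGroup (GaloisField p 3)), Function.Injective f) ∧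
      (p = 2 → Nonempty (Y ≃* Cfsg.semiaffineGroup (GaloisField 2 3)) ∨
               Nonempty (Y ≃* Cfsg.affineGroup (GaloisField 2 3)))) ∨
    (n = 5 ∧ p = 2 ∧ Nonempty (Y ≃* Cfsg.semiaffineGroup (GaloisField 2 5))) := by
  obtain ⟨hcomm, hexp⟩ := hel
  letI iC : CommGroup P := { (inferInstance : Group P) with mul_comm := hcomm.is_comm.comm }
  letI iA : AddCommGroup (Additive P) := Additive.addCommGroup
  letI iM : Module (ZMod p) (Additive P) := AddCommGroup.zmodModule (n := p) (by
    intro x
    apply Additive.toMul.injective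
    apply Subtype.ext
    exact hexp _ x.toMul.2)
  have hfinV : Finite (Additive P) := inferInstanceAs (Finite P)
  exact group_main' hsol P Additive.toMul (fun _ _ => rfl) hn hcard hidx hO hfus

end Cfsg.Agent.BT.SA
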