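import Mathlib

/-! Group ring identities for `SL(2,K)` in characteristic two, elements of order three acting freely. -/

set_option autoImplicit false

namespace Cfsg.Agent.BT.SLT

open Matrix

section ring

variable {K : Type*} [Field K] [CharP K 2] {R : Type*} [Ring R]

/-- relations -/
structure Rel (U : K → R) (H : Kˣ → R) (W : R) : Prop where
  u_add : ∀ a b, U a * U b = U (a + b)
  u_zero : U 0 = 1
  h_mul : ∀ a b, H a * H b = H (a * b)
  h_one : H 1 = 1
  w_sq : W * W = 1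
  w_h : ∀ a, W * H a = H a⁻¹ * W
  h_u : ∀ (a : Kˣ) (b : K), H a * U b = U ((a : K) ^ 2 * b) * H a
  key : ∀ a : Kˣ, 1 + U a * H a * W + W * H a⁻¹ * U a = 0

variable {U : K → R} {H : Kˣ → R} {W : R}

theorem Rel.hinv (r : Rel U H W) (a : Kˣ) : H a⁻¹ * H a = 1 := by
  rw [r.h_mul, inv_mul_cancel, r.h_one]

theorem Rel.hinv' (r : Rel U H W) (a : Kˣ) : H a * H a⁻¹ = 1 := by
  rw [r.h_mul, mul_inv_cancel, r.h_one]

theorem Rel.ww (r : Rel U H W) (x : R) : W * (W * x) = x := by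
  rw [← mul_assoc, r.w_sq, one_mul]

theorem Rel.a1 (r : Rel U H W) (a : Kˣ) : U a * W + W * U ((a⁻¹ : Kˣ) : K) = - H a := by
  have h := congrArg (fun t => t * H a) (r.key a)
  simp only [add_mul, one_mul, zero_mul] at h
  have h1 : U a * H a * W * H a = U a * W := by
    rw [mul_assoc, r.w_h, mul_assoc, ← mul_assoc (H a), r.hinv', one_mul]
  have h2 : W * H a⁻¹ * U a * H a = W * U ((a⁻¹ : Kˣ) : K) := by
    rw [mul_assoc W, r.h_u, mul_assoc, mul_assoc, r.hinv, mul_one]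
    congr 2
    push_cast
    field_simp
  rw [h1, h2] at h
  rw [eq_neg_iff_add_eq_zero, ← h]
  abel

/-- `U (b⁻¹) + U b = H b * U 1 + U 1 * H b` -/
theorem Rel.b1 (r : Rel U H W) (b : Kˣ) :
    U ((b⁻¹ : Kˣ) : K) + U b = H b * U 1 + U 1 * H b := by
  have e1 := r.a1 b
  have e2 := r.a1 b⁻¹
  have e3 := r.a1 1
  rw [inv_inv] at e2
  rw [inv_one, Units.val_one, r.h_one] at e3
  -- (W + U 1) (W H b + U b⁻¹) = (W H b + U b⁻¹) (W + U 1)
  have m1 : W * U 1 * W = -(W + U 1) := by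
    have := congrArg (fun t => W * t) e3
    simp only [mul_add, r.ww, mul_neg, mul_one] at this
    rw [mul_assoc]
    rw [← eq_sub_iff_add_eq] at this
    rw [this]; abel
  have m2 : W * U b * W = -(W * H b + U ((b⁻¹ : Kˣ) : K)) := by
    have := congrArg (fun t => W * t) e1
    simp only [mul_add, r.ww, mul_neg] at this
    rw [mul_assoc]
    rw [← eq_sub_iff_add_eq] at this
    rw [this]; abel
  have hc : (W * U 1 * W) * (W * U b * W) = (W * U b * W) * (W * U 1 * W) := by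
    have : ∀ x y : K, (W * U x * W) * (W * U y * W) = W * U (x + y) * W := by
      intro x y
      rw [← r.u_add]
      simp only [mul_assoc, r.ww]
    rw [this, this, add_comm]
  rw [m1, m2, neg_mul_neg, neg_mul_neg] at hc
  simp only [add_mul, mul_add] at hc
  have t1 : W * (W * H b) = H b := r.ww _
  have t2 : U 1 * U ((b⁻¹ : Kˣ) : K) = U ((b⁻¹ : Kˣ) : K) * U 1 := by
    rw [r.u_add, r.u_add, add_comm]
  have t3 : W * H b * W = H b⁻¹ := by rw [r.w_h, mul_assoc, r.w_sq, mul_one]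
  have t4 : W * U ((b⁻¹ : Kˣ) : K) = - H b - U b * W := by rw [← e1]; abel
  have t5 : U 1 * (W * H b) = - H b - W * (U 1 * H b) := by
    have : U 1 * W = - 1 - W * U 1 := by rw [← e3]; abel
    rw [← mul_assoc, this, sub_mul, neg_one_mul, mul_assoc]
  have t6 : U ((b⁻¹ : Kˣ) : K) * W = - H b⁻¹ - W * U b := by rw [← e2]; abel
  rw [t1, t2, t3] at hc
  have hc2 : W * U ((b⁻¹ : Kˣ) : K) + W * U b = W * (H b * U 1) + W * (U 1 * H b) := by
    linear_combination (norm := noncomm_ring) hc - t5 + t6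
  have := congrArg (fun t => W * t) hc2
  simpa only [mul_add, r.ww] using this

theorem Rel.hu' (r : Rel U H W) (a : Kˣ) (b : K) : U b * H a = H a * U (((a⁻¹ : Kˣ) : K) ^ 2 * b) := by
  rw [r.h_u]
  congr 2
  push_cast
  field_simp

theorem Rel.b2 (r : Rel U H W) (m b : Kˣ) :
    U ((m : K) ^ 2 * ((b⁻¹ : Kˣ) : K)) + U ((m : K) ^ 2 * b) =
      H b * U ((m : K) ^ 2) + U ((m : K) ^ 2) * H b := by
  have h := congrArg (fun t => H m * t * H m⁻¹) (r.b1 b)
  simp only [mul_add, add_mul] at h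
  have k1 : ∀ x : K, H m * U x * H m⁻¹ = U ((m : K) ^ 2 * x) := fun x => by
    rw [r.h_u, mul_assoc, r.hinv', mul_one]
  have k2 : H m * (H b * U 1) * H m⁻¹ = H b * U ((m : K) ^ 2) := by
    rw [← mul_assoc, r.h_mul, mul_comm m b, ← r.h_mul, mul_assoc, mul_assoc, ← mul_assoc (H m), k1, mul_one]
  have k3 : H m * (U 1 * H b) * H m⁻¹ = U ((m : K) ^ 2) * H b := by
    rw [← mul_assoc, mul_assoc, r.h_mul, mul_comm b m⁻¹, ← r.h_mul, ← mul_assoc, k1, mul_one]
  rwa [k1, k1, k2, k3] at h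

theorem Rel.uu (r : Rel U H W) (a : K) : U a * U a = 1 := by
  rw [r.u_add, CharTwo.add_self_eq_zero, r.u_zero]

theorem Rel.ucomm (r : Rel U H W) (a b : K) : U a * U b = U b * U a := by
  rw [r.u_add, r.u_add, add_comm]

theorem Rel.d1 (hs : ∀ x : K, ∃ y : K, y ^ 2 = x) (r : Rel U H W) (b : Kˣ) (hb : b ≠ 1) (e : K) (he : e ≠ 0) :
    U (((b⁻¹ : Kˣ) : K) * e) * (1 + U e) = 1 + U e := by
  have hb1 : (b : K) + 1 ≠ 0 := by
    intro h
    apply hb
    ext
    rw [Units.val_one]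
    rw [← CharTwo.sub_eq_add, sub_eq_zero] at h
    exact h
  have hb0 : (b : K) ≠ 0 := b.ne_zero
  have hb2 : (b : K) ^ 2 + 1 ≠ 0 := by
    have : (b : K) ^ 2 + 1 = ((b : K) + 1) ^ 2 := by
      rw [CharTwo.add_sq]; ring
    rw [this]
    exact pow_ne_zero _ hb1
  obtain ⟨y, hy⟩ := hs (e * (b : K) ^ 2 / ((b : K) ^ 2 + 1))
  have hy0 : y ≠ 0 := by
    rintro rfl
    rw [zero_pow two_ne_zero] at hy
    have : e * (b : K) ^ 2 / ((b : K) ^ 2 + 1) ≠ 0 := div_ne_zero (mul_ne_zero he (pow_ne_zero _ hb0)) hb2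
    exact this hy.symm
  have h := r.b2 (Units.mk0 y hy0) b
  rw [Units.val_mk0, hy] at h
  set c : K := e * (b : K) ^ 2 / ((b : K) ^ 2 + 1) with hc
  -- left side
  have two : (2 : K) = 0 := CharTwo.two_eq_zero
  have e1 : U (c * b) = U (c * ((b⁻¹ : Kˣ) : K)) * U ((b : K) * e) := by
    rw [r.u_add]
    congr 1
    rw [hc]
    push_cast
    field_simp
    linear_combination (-1) * two
  have e2 : U c * H b = H b * (U c * U e) := by
    rw [r.hu', r.u_add]
    congr 2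
    rw [hc]
    push_cast
    field_simp
    linear_combination (-b ^ 2 ) * two
  rw [e1, e2] at h
  have h2 : U (c * ((b⁻¹ : Kˣ) : K)) * (1 + U ((b : K) * e)) = H b * (U c * (1 + U e)) := by
    simp only [mul_add, mul_one]
    exact h
  have h3 : U ((b : K) * e) * (U (c * ((b⁻¹ : Kˣ) : K)) * (1 + U ((b : K) * e))) =
      U ((b : K) * e) * (H b * (U c * (1 + U e))) := by rw [h2]
  have h4 : U ((b : K) * e) * (U (c * ((b⁻¹ : Kˣ) : K)) * (1 + U ((b : K) * e))) =
      U (c * ((b⁻¹ : Kˣ) : K)) * (1 + U ((b : K) * e)) := by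
    rw [← mul_assoc, r.ucomm, mul_assoc]
    congr 1
    rw [mul_add, r.uu, mul_one, add_comm]
  rw [h4, h2] at h3
  have h5 : U ((b : K) * e) * (H b * (U c * (1 + U e))) =
      H b * (U c * (U (((b⁻¹ : Kˣ) : K) * e) * (1 + U e))) := by
    rw [← mul_assoc, r.hu', mul_assoc]
    congr 1
    rw [← mul_assoc, r.ucomm, mul_assoc]
    congr 3
    push_cast
    field_simp
  rw [h5] at h3
  have h6 : U c * (H b⁻¹ * (H b * (U c * (1 + U e)))) =
      U c * (H b⁻¹ * (H b * (U c * (U (((b⁻¹ : Kˣ) : K) * e) * (1 + U e))))) := by rw [h3]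
  have h7 : ∀ z : R, U c * (H b⁻¹ * (H b * (U c * z))) = z := by
    intro z
    rw [← mul_assoc (H b⁻¹), r.hinv, one_mul, ← mul_assoc, r.uu, one_mul]
  rw [h7, h7] at h6
  exact h6.symm

theorem Rel.d (hs : ∀ x : K, ∃ y : K, y ^ 2 = x) (r : Rel U H W) (x e : K) (he : e ≠ 0) :
    U x * (1 + U e) = 1 + U e := by
  by_cases hx : x = 0
  · rw [hx, r.u_zero, one_mul]
  by_cases hxe : x = e
  · rw [hxe, mul_add, r.uu, mul_one, add_comm]
  have h := r.d1 hs (Units.mk0 (e / x) (div_ne_zero he hx)) (by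
    intro h
    have := congrArg Units.val h
    rw [Units.val_mk0, Units.val_one, div_eq_one_iff_eq hx] at this
    exact hxe this.symm) e he
  have h2 : (((Units.mk0 (e / x) (div_ne_zero he hx))⁻¹ : Kˣ) : K) * e = x := by
    push_cast
    rw [Units.val_mk0]
    field_simp
  rwa [h2] at h

end ring

end Cfsg.Agent.BT.SLT
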