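import Mathlib
import Cfsg.Agent.BT.SLTwoA

/-! Modules for `SL(2,K)` in characteristic two on which elements of order three act freely. -/

set_option autoImplicit false

namespace Cfsg.Agent.BT.SLT

open Matrix

section module

variable {K : Type*} [Field K] [CharP K 2] {M : Type*} [AddCommGroup M]
  {U : K → Module.End ℤ M} {H : Kˣ → Module.End ℤ M} {W : Module.End ℤ M}

/-- fixed points of the unipotent group -/
def fixU (U : K → Module.End ℤ M) : AddSubgroup M where
  carrier := {v | ∀ x, U x v = v}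
  add_mem' := by
    intro a b ha hb x
    rw [map_add, ha, hb]
  zero_mem' := fun x => map_zero _
  neg_mem' := by
    intro a ha x
    rw [map_neg, ha]

theorem mem_fixU {v : M} : v ∈ fixU U ↔ ∀ x, U x v = v := Iff.rfl

theorem Rel.app (r : Rel U H W) {A B : Module.End ℤ M} (h : A = B) (v : M) : A v = B v := by rw [h]

theorem Rel.W_W (r : Rel U H W) (v : M) : W (W v) = v := by
  have := r.w_sq
  rw [← Module.End.mul_apply, this]; rfl

theorem Rel.H_mem (r : Rel U H W) (a : Kˣ) {v : M} (hv : v ∈ fixU U) : H a v ∈ fixU U := by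
  intro x
  rw [← Module.End.mul_apply, r.hu', Module.End.mul_apply, hv]

theorem Rel.P_mem (hs : ∀ x : K, ∃ y : K, y ^ 2 = x) (r : Rel U H W) {e : K} (he : e ≠ 0) (v : M) :
    v + U e v ∈ fixU U := by
  intro x
  have h := LinearMap.congr_fun (r.d hs x e he) v
  simpa [Module.End.mul_apply] using h

theorem Rel.uw (r : Rel U H W) (a : Kˣ) {v : M} (hv : v ∈ fixU U) :
    U a (W v) = - H a v - W v := by
  have h := LinearMap.congr_fun (r.a1 a) v
  simp only [LinearMap.add_apply, Module.End.mul_apply, LinearMap.neg_apply] at h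
  rw [hv] at h
  rw [← h]; abel

/-- an element of `E` and `WE` is zero after multiplication by three -/
theorem Rel.inter3 (r : Rel U H W) {z : M} (h1 : z ∈ fixU U) (h2 : W z ∈ fixU U) : (3 : ℤ) • z = 0 := by
  have a := r.uw 1 h1
  have b := r.uw 1 h2
  rw [r.W_W] at b
  have c : U ((1 : Kˣ) : K) (W z) = W z := h2 _
  have d : U ((1 : Kˣ) : K) z = z := h1 _
  rw [c, r.h_one, Module.End.one_apply] at a
  rw [d, r.h_one, Module.End.one_apply] at b
  -- W z = - z - W z ; z = - W z - z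
  have a' : z + (2 : ℤ) • W z = 0 := by
    rw [two_smul]
    nth_rewrite 1 [a]
    abel
  have b' : W z + (2 : ℤ) • z = 0 := by
    rw [two_smul]
    nth_rewrite 2 [b]
    abel
  have : (3 : ℤ) • z = (2 : ℤ) • (W z + (2 : ℤ) • z) - (z + (2 : ℤ) • W z) := by module
  rw [this, a', b', smul_zero, sub_zero]

variable (hs : ∀ x : K, ∃ y : K, y ^ 2 = x) (h3i : ∀ v : M, (3 : ℤ) • v = 0 → v = 0)
  (h3s : ∀ v : M, ∃ v', v = (3 : ℤ) • v') 

include h3i in
theorem Rel.inter (r : Rel U H W) {z : M} (h1 : z ∈ fixU U) (h2 : W z ∈ fixU U) : z = 0 :=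
  h3i z (r.inter3 h1 h2)

include h3i in
theorem Rel.two (r : Rel U H W) {a b c : Kˣ} (habc : (c : K) = a + b) {v : M} (hv : v ∈ fixU U) :
    (2 : ℤ) • v = 0 ∧ H c v = H a v + H b v := by
  have e1 : U a (U b (W v)) = U c (W v) := by
    rw [← Module.End.mul_apply, r.u_add, habc]
  rw [r.uw b hv, map_sub, map_neg, r.H_mem b hv, r.uw a hv, r.uw c hv] at e1
  -- - H b v - (- H a v - W v) = - H c v - W v
  have e2 : (2 : ℤ) • W v = H b v - H a v - H c v := by
    rw [two_smul]
    have : W v = - H c v - (- H b v - (- H a v - W v)) := by rw [e1]; abel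
    nth_rewrite 1 [this]
    abel
  have m1 : (2 : ℤ) • W v ∈ fixU U := by
    rw [e2]
    exact sub_mem (sub_mem (r.H_mem b hv) (r.H_mem a hv)) (r.H_mem c hv)
  have m2 : W ((2 : ℤ) • W v) ∈ fixU U := by
    rw [map_zsmul, r.W_W]
    exact zsmul_mem hv 2
  have z := r.inter h3i m1 m2
  have z2 : (2 : ℤ) • v = 0 := by
    have := congrArg (fun t => W t) z
    simpa only [map_zsmul, r.W_W, map_zero] using this
  refine ⟨z2, ?_⟩
  rw [e2] at z
  have z3 : (2 : ℤ) • H b v = 0 := by rw [← map_zsmul, z2, map_zero]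
  have z4 : (2 : ℤ) • H a v = 0 := by rw [← map_zsmul, z2, map_zero]
  have : H c v = H b v - H a v := (sub_eq_zero.mp z).symm
  rw [this, sub_eq_add_neg]
  have : - H a v = H a v := by
    rw [neg_eq_iff_add_eq_zero, ← two_smul ℤ]; exact z4
  rw [this, add_comm]

include hs h3s in
theorem Rel.span (r : Rel U H W) (v : M) : ∃ e₁ ∈ fixU U, ∃ e₂ ∈ fixU U, v = e₁ + W e₂ := by
  have key : ∀ v : M, ∃ e₁ ∈ fixU U, ∃ e₂ ∈ fixU U, (2 : ℤ) • W v - v = e₁ + W e₂ := by
    intro v
    refine ⟨W v + U 1 (W v), r.P_mem hs one_ne_zero _, v + U 1 v, r.P_mem hs one_ne_zero _, ?_⟩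
    have h := LinearMap.congr_fun (r.a1 1) v
    simp only [LinearMap.add_apply, Module.End.mul_apply, LinearMap.neg_apply, inv_one, Units.val_one,
      r.h_one, Module.End.one_apply] at h
    rw [map_add]
    have : v = - (U 1 (W v) + W (U 1 v)) := by rw [h, neg_neg]
    nth_rewrite 2 [this]
    rw [two_smul]; abel
  obtain ⟨v', hv'⟩ := h3s v
  obtain ⟨a, ha, b, hb, hab⟩ := key v'
  obtain ⟨c, hc, d, hd, hcd⟩ := key (W v')
  rw [r.W_W] at hcd
  refine ⟨(2 : ℤ) • c + a, add_mem (zsmul_mem hc 2) ha, (2 : ℤ) • d + b, add_mem (zsmul_mem hd 2) hb, ?_⟩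
  rw [hv', map_add, map_zsmul]
  have : (3 : ℤ) • v' = (2 : ℤ) • ((2 : ℤ) • v' - W v') + ((2 : ℤ) • W v' - v') := by module
  rw [this, hcd, hab, smul_add]
  abel

include hs h3i h3s in
theorem Rel.two_all (r : Rel U H W) {a b c : Kˣ} (habc : (c : K) = a + b) (v : M) : (2 : ℤ) • v = 0 := by
  obtain ⟨x, hx, y, hy, rfl⟩ := r.span hs h3s v
  rw [smul_add, ← map_zsmul, (r.two h3i habc hx).1, (r.two h3i habc hy).1, map_zero, add_zero]

end module

end Cfsg.Agent.BT.SLT
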