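import Mathlib
import Cfsg.Agent.BT.SLTwoB

/-! Coordinates: direct sums of natural modules for `SL(2,K)`. -/

set_option autoImplicit false

namespace Cfsg.Agent.BT.SLT

open Matrix

section coord

variable {K : Type*} [Field K] [CharP K 2] {M : Type*} [AddCommGroup M]
  {U : K → Module.End ℤ M} {H : Kˣ → Module.End ℤ M} {W : Module.End ℤ M}

/-- scalar action -/
noncomputable def scal (H : Kˣ → Module.End ℤ M) (k : K) : Module.End ℤ M :=
  open Classical in if h : k = 0 then 0 else H (Units.mk0 k h)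

theorem scal_zero (v : M) : scal H (0 : K) v = 0 := by simp [scal]

theorem scal_unit (a : Kˣ) : scal H (a : K) = H a := by
  simp [scal, a.ne_zero]

theorem unit_cases (k : K) : k = 0 ∨ ∃ a : Kˣ, k = a := by
  by_cases h : k = 0
  · exact Or.inl h
  · exact Or.inr ⟨Units.mk0 k h, rfl⟩

/-- hypothesis package -/
structure Pack (U : K → Module.End ℤ M) (H : Kˣ → Module.End ℤ M) (W : Module.End ℤ M) : Prop where
  r : Rel U H W
  hs : ∀ x : K, ∃ y : K, y ^ 2 = x
  big : ∃ a b c : Kˣ, (c : K) = a + b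
  h3i : ∀ v : M, (3 : ℤ) • v = 0 → v = 0
  h3s : ∀ v : M, ∃ v', v = (3 : ℤ) • v'

variable (p : Pack U H W)

include p

theorem Pack.two (v : M) : (2 : ℤ) • v = 0 := by
  obtain ⟨a, b, c, h⟩ := p.big
  exact p.r.two_all p.hs p.h3i p.h3s h v

theorem Pack.neg (v : M) : -v = v := by
  rw [neg_eq_iff_add_eq_zero, ← two_smul ℤ]; exact p.two v

theorem Pack.add_self (v : M) : v + v = 0 := by
  rw [← two_smul ℤ]; exact p.two v

theorem Pack.scal_mem (k : K) {v : M} (hv : v ∈ fixU U) : scal H k v ∈ fixU U := by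
  rcases unit_cases k with rfl | ⟨a, rfl⟩
  · rw [scal_zero]; exact zero_mem _
  · rw [scal_unit]; exact p.r.H_mem a hv

theorem Pack.scal_add (k l : K) {v : M} (hv : v ∈ fixU U) : scal H (k + l) v = scal H k v + scal H l v := by
  rcases unit_cases k with rfl | ⟨a, rfl⟩
  · rw [scal_zero, zero_add, zero_add]
  rcases unit_cases l with rfl | ⟨b, rfl⟩
  · rw [scal_zero, add_zero, add_zero]
  rcases unit_cases ((a : K) + b) with h | ⟨c, h⟩
  · rw [h, scal_zero]
    have : a = b := by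
      ext
      rw [← CharTwo.sub_eq_add, sub_eq_zero] at h
      exact h
    rw [this, p.add_self]
  · rw [h, scal_unit, scal_unit, scal_unit]
    exact (p.r.two p.h3i h.symm hv).2

theorem Pack.scal_mul (k l : K) (v : M) : scal H (k * l) v = scal H k (scal H l v) := by
  rcases unit_cases k with rfl | ⟨a, rfl⟩
  · rw [zero_mul, scal_zero, scal_zero]
  rcases unit_cases l with rfl | ⟨b, rfl⟩
  · rw [mul_zero, scal_zero, scal_unit, map_zero]
  rw [← Units.val_mul, scal_unit, scal_unit, scal_unit, ← p.r.h_mul]; rfl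

theorem Pack.scal_one (v : M) : scal H (1 : K) v = v := by
  rw [← Units.val_one, scal_unit, p.r.h_one]; rfl

theorem Pack.uw (k : K) {v : M} (hv : v ∈ fixU U) : U k (W v) = scal H k v + W v := by
  rcases unit_cases k with rfl | ⟨a, rfl⟩
  · rw [p.r.u_zero, scal_zero, zero_add]; rfl
  · rw [p.r.uw a hv, scal_unit, p.neg, sub_eq_add_neg, p.neg]

/-- the ring homomorphism giving the scalar action on fixed points -/
noncomputable def Pack.scalHom : K →+* Module.End ℤ (fixU U) where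
  toFun k :=
    { toFun := fun v => ⟨scal H k v.1, p.scal_mem k v.2⟩
      map_add' := fun v w => Subtype.ext (map_add _ _ _)
      map_smul' := fun n v => Subtype.ext (map_zsmul _ _ _) }
  map_one' := by ext v; exact p.scal_one _
  map_mul' := by intro k l; ext v; exact p.scal_mul k l _
  map_zero' := by ext v; exact scal_zero _
  map_add' := by intro k l; ext v; exact p.scal_add k l v.2

/-- the decomposition -/
noncomputable def Pack.split : (fixU U × fixU U) ≃+ M :=
  AddEquiv.ofBijective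
    (AddMonoidHom.mk' (fun q : fixU U × fixU U => (q.1 : M) + W (q.2 : M)) (by
      intro a b
      simp only [Prod.fst_add, Prod.snd_add, AddSubgroup.coe_add, map_add]
      abel)) (by
    constructor
    · rw [injective_iff_map_eq_zero]
      rintro ⟨⟨a, ha⟩, ⟨b, hb⟩⟩ h
      have h' : a + W b = 0 := h
      have h2 : W b = a := by
        rw [add_comm, add_eq_zero_iff_eq_neg, p.neg] at h'
        exact h'
      have hb0 : b = 0 := p.r.inter p.h3i hb (by rw [h2]; exact ha)
      subst hb0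
      rw [map_zero] at h2
      subst h2
      rfl
    · intro v
      obtain ⟨a, ha, b, hb, rfl⟩ := p.r.span p.hs p.h3s v
      exact ⟨(⟨a, ha⟩, ⟨b, hb⟩), rfl⟩)

theorem Pack.split_apply (a b : fixU U) : p.split (a, b) = (a : M) + W (b : M) := rfl

omit p in
theorem mulVec_two (A : Matrix (Fin 2) (Fin 2) K) (x y : K) :
    A.mulVec ![x, y] = ![A 0 0 * x + A 0 1 * y, A 1 0 * x + A 1 1 * y] := by
  ext i
  fin_cases i <;> simp [Matrix.mulVec, dotProduct, Fin.sum_univ_two]

theorem Pack.coord [Finite M] :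
    ∃ (n : ℕ) (Θ : M ≃+ (Fin n → Fin 2 → K)),
      (∀ a m i, Θ (U a m) i = (!![1, a; 0, 1] : Matrix (Fin 2) (Fin 2) K).mulVec (Θ m i)) ∧
      (∀ (a : Kˣ) m i, Θ (H a m) i =
        (!![(a : K), 0; 0, (a : K)⁻¹] : Matrix (Fin 2) (Fin 2) K).mulVec (Θ m i)) ∧
      (∀ m i, Θ (W m) i = (!![0, 1; 1, 0] : Matrix (Fin 2) (Fin 2) K).mulVec (Θ m i)) := by
  letI : Module K (fixU U) := Module.compHom (fixU U) p.scalHom
  have hsm : ∀ (k : K) (v : fixU U), ((k • v : fixU U) : M) = scal H k v.1 := fun k v => rfl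
  haveI : Module.Finite K (fixU U) := Module.Finite.of_finite
  set b := Module.finBasis K (fixU U) with hb
  let Θ0 : M →+ (Fin (Module.finrank K (fixU U)) → Fin 2 → K) :=
    { toFun := fun m i => ![b.equivFun (p.split.symm m).1 i, b.equivFun (p.split.symm m).2 i]
      map_zero' := by
        ext i j
        fin_cases j <;> simp
      map_add' := by
        intro x y
        ext i j
        fin_cases j <;> simp }
  have hΘ : ∀ (e₁ e₂ : fixU U) i, Θ0 ((e₁ : M) + W (e₂ : M)) i = ![b.equivFun e₁ i, b.equivFun e₂ i] := by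
    intro e₁ e₂ i
    have : p.split.symm ((e₁ : M) + W (e₂ : M)) = (e₁, e₂) := by
      rw [AddEquiv.symm_apply_eq, p.split_apply]
    show ![b.equivFun (p.split.symm _).1 i, b.equivFun (p.split.symm _).2 i] = _
    rw [this]
  have hbij : Function.Bijective Θ0 := by
    constructor
    · rw [injective_iff_map_eq_zero]
      intro m hm
      obtain ⟨e₁, he₁, e₂, he₂, rfl⟩ := p.r.span p.hs p.h3s m
      have h1 : (⟨e₁, he₁⟩ : fixU U) = 0 := by
        apply b.equivFun.injective
        rw [map_zero]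
        ext i
        have := congrFun (congrFun hm i) 0
        rw [hΘ ⟨e₁, he₁⟩ ⟨e₂, he₂⟩] at this
        simpa using this
      have h2 : (⟨e₂, he₂⟩ : fixU U) = 0 := by
        apply b.equivFun.injective
        rw [map_zero]
        ext i
        have := congrFun (congrFun hm i) 1
        rw [hΘ ⟨e₁, he₁⟩ ⟨e₂, he₂⟩] at this
        simpa using this
      have h1' := congrArg Subtype.val h1
      have h2' := congrArg Subtype.val h2
      simp only [AddSubgroup.coe_zero] at h1' h2'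
      rw [h1', h2', map_zero, add_zero]
    · intro c
      refine ⟨(b.equivFun.symm (fun i => c i 0) : fixU U) + W (b.equivFun.symm (fun i => c i 1) : fixU U), ?_⟩
      ext i j
      rw [hΘ, LinearEquiv.apply_symm_apply, LinearEquiv.apply_symm_apply]
      fin_cases j <;> rfl
  refine ⟨_, AddEquiv.ofBijective Θ0 hbij, ?_, ?_, ?_⟩
  · intro a m i
    obtain ⟨e₁, he₁, e₂, he₂, rfl⟩ := p.r.span p.hs p.h3s m
    have e : U a (e₁ + W e₂) = ((⟨e₁, he₁⟩ + a • ⟨e₂, he₂⟩ : fixU U) : M) + W ((⟨e₂, he₂⟩ : fixU U) : M) := by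
      rw [map_add, he₁, p.uw a he₂, AddSubgroup.coe_add, hsm]
      abel
    rw [AddEquiv.ofBijective_apply, AddEquiv.ofBijective_apply, e, hΘ, hΘ ⟨e₁, he₁⟩ ⟨e₂, he₂⟩, mulVec_two]
    simp
  · intro a m i
    obtain ⟨e₁, he₁, e₂, he₂, rfl⟩ := p.r.span p.hs p.h3s m
    have e : H a (e₁ + W e₂) = (((a : K) • ⟨e₁, he₁⟩ : fixU U) : M) +
        W ((((a⁻¹ : Kˣ) : K) • ⟨e₂, he₂⟩ : fixU U) : M) := by
      rw [map_add, hsm, hsm, scal_unit, scal_unit]
      congr 1
      rw [← Module.End.mul_apply, ← Module.End.mul_apply, p.r.w_h, inv_inv]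
    rw [AddEquiv.ofBijective_apply, AddEquiv.ofBijective_apply, e, hΘ, hΘ ⟨e₁, he₁⟩ ⟨e₂, he₂⟩, mulVec_two]
    simp
  · intro m i
    obtain ⟨e₁, he₁, e₂, he₂, rfl⟩ := p.r.span p.hs p.h3s m
    have e : W (e₁ + W e₂) = ((⟨e₂, he₂⟩ : fixU U) : M) + W ((⟨e₁, he₁⟩ : fixU U) : M) := by
      rw [map_add, p.r.W_W, add_comm]
    rw [AddEquiv.ofBijective_apply, AddEquiv.ofBijective_apply, e, hΘ, hΘ ⟨e₁, he₁⟩ ⟨e₂, he₂⟩, mulVec_two]
    simp

end coord

section comm

variable {K : Type*} [Field K] [CharP K 2] {M : Type*} [AddCommGroup M] {N : Type*} [AddCommGroup N]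
  {U : K → Module.End ℤ M} {H : Kˣ → Module.End ℤ M} {W : Module.End ℤ M}
  {U' : K → Module.End ℤ N} {H' : Kˣ → Module.End ℤ N} {W' : Module.End ℤ N}

/-- no equivariant alternating forms -/
theorem Pack.form_zero (p : Pack U H W) (q : Pack U' H' W') (β : M → M → N)
    (hl : ∀ a b c, β (a + b) c = β a c + β b c) (hr : ∀ a b c, β a (b + c) = β a b + β a c)
    (hanti : ∀ a b, β a b = - β b a)
    (eU : ∀ k a b, β (U k a) (U k b) = U' k (β a b)) (eH : ∀ k a b, β (H k a) (H k b) = H' k (β a b))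
    (eW : ∀ a b, β (W a) (W b) = W' (β a b)) (a b : M) : β a b = 0 := by
  have hlz : ∀ c, β 0 c = 0 := fun c => by
    have := hl 0 0 c
    rw [add_zero] at this
    exact left_eq_add.mp this
  -- (1)
  have k1 : ∀ e ∈ fixU U, ∀ e' ∈ fixU U, β e e' ∈ fixU U' := by
    intro e he e' he' x
    rw [← eU, he, he']
  have k2 : ∀ e ∈ fixU U, ∀ e' ∈ fixU U, ∃ z₁ ∈ fixU U', β e (W e') = z₁ + W' (β e e') ∧
      ∀ a : Kˣ, β e (H a e') = H' a (β e e') := by
    intro e he e' he'
    obtain ⟨z₁, hz₁, z₂, hz₂, hz⟩ := q.r.span q.hs q.h3s (β e (W e'))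
    have key : ∀ a : Kˣ, H' a z₂ = β e (H a e') := by
      intro a
      have h := eU a e (W e')
      rw [he, p.uw _ he', hr, scal_unit, hz, map_add, hz₁, q.uw _ hz₂, scal_unit] at h
      have : β e (H a e') + (z₁ + W' z₂) = H' a z₂ + (z₁ + W' z₂) := by rw [h]; abel
      exact (add_right_cancel this).symm
    have h1 := key 1
    rw [q.r.h_one, p.r.h_one, Module.End.one_apply, Module.End.one_apply] at h1
    subst h1
    exact ⟨z₁, hz₁, hz, fun a => (key a).symm⟩
  have hN : ∀ v : N, -v = v := q.neg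
  have hsymm : ∀ a b, β a b = β b a := fun a b => by rw [hanti, hN]
  obtain ⟨a₀, b₀, c₀, h₀⟩ := p.big
  have k3 : ∀ e ∈ fixU U, ∀ e' ∈ fixU U, β e e' = 0 := by
    intro e he e' he'
    have t : ∀ a : Kˣ, H' a (H' a (β e e')) = H' a (β e e') := by
      intro a
      obtain ⟨_, _, _, h1⟩ := k2 _ (p.r.H_mem a he) e' he'
      obtain ⟨_, _, _, h2⟩ := k2 _ he' e he
      have e1 := eH a e e'
      rw [h1 a, hsymm (H a e) e', h2 a, hsymm e' e] at e1
      exact e1
    have t2 : ∀ a : Kˣ, H' a (β e e') = β e e' := by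
      intro a
      have := congrArg (fun z => H' a⁻¹ z) (t a)
      simp only [← Module.End.mul_apply, ← mul_assoc, q.r.hinv, one_mul, Module.End.one_apply] at this
      exact this
    have t3 := (q.r.two q.h3i h₀ (k1 e he e' he')).2
    rw [t2, t2, t2, q.add_self] at t3
    exact t3
  have k4 : ∀ e ∈ fixU U, ∀ e' ∈ fixU U, β e (W e') = 0 := by
    intro e he e' he'
    have m1 : ∀ e ∈ fixU U, ∀ e' ∈ fixU U, β e (W e') ∈ fixU U' := by
      intro e he e' he'
      obtain ⟨z₁, hz₁, h, _⟩ := k2 e he e' he'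
      rw [h, k3 e he e' he', map_zero, add_zero]
      exact hz₁
    apply q.r.inter q.h3i (m1 e he e' he')
    rw [← eW, p.r.W_W, hsymm]
    exact m1 e' he' e he
  obtain ⟨e₁, he₁, e₂, he₂, rfl⟩ := p.r.span p.hs p.h3s a
  obtain ⟨f₁, hf₁, f₂, hf₂, rfl⟩ := p.r.span p.hs p.h3s b
  rw [hl, hr, hr, k3 _ he₁ _ hf₁, k4 _ he₁ _ hf₂, hsymm (W e₂), k4 _ hf₁ _ he₂, eW, k3 _ he₂ _ hf₂, map_zero]
  simp

end comm

end Cfsg.Agent.BT.SLT
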