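import Mathlib
import Cfsg.Agent.BT.SLTwoC

/-! Elements of `SL(2,K)` in characteristic two; elements of order three. -/

set_option autoImplicit false

namespace Cfsg.Agent.BT.SLT

open Matrix

section sl

variable {K : Type*} [Field K] [CharP K 2]

theorem two0 : (2 : K) = 0 := CharTwo.two_eq_zero

theorem neg1 : (-1 : K) = 1 := CharTwo.neg_eq 1

/-- unipotent -/
def uu (a : K) : SpecialLinearGroup (Fin 2) K := ⟨!![1, a; 0, 1], by simp [Matrix.det_fin_two]⟩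

/-- torus -/
def hh (a : Kˣ) : SpecialLinearGroup (Fin 2) K := ⟨!![(a : K), 0; 0, (a : K)⁻¹], by simp [Matrix.det_fin_two]⟩

/-- the Weyl element -/
def wm : SpecialLinearGroup (Fin 2) K := ⟨!![0, 1; 1, 0], by
  simp [Matrix.det_fin_two, neg1]⟩

/-- an element of order three -/
def yy (a : Kˣ) : SpecialLinearGroup (Fin 2) K := ⟨!![1, (a : K); (a : K)⁻¹, 0], by
  simp [Matrix.det_fin_two, neg1]⟩

theorem uu_mul (a b : K) : uu a * uu b = uu (a + b) := by
  apply Subtype.ext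
  show (!![1, a; 0, 1] : Matrix (Fin 2) (Fin 2) K) * !![1, b; 0, 1] = !![1, a + b; 0, 1]
  simp [Matrix.mul_fin_two, add_comm]

theorem uu_zero : uu (0 : K) = 1 := by
  apply Subtype.ext
  show (!![1, 0; 0, 1] : Matrix (Fin 2) (Fin 2) K) = 1
  rw [Matrix.one_fin_two]

theorem hh_mul (a b : Kˣ) : hh a * hh b = hh (a * b) := by
  apply Subtype.ext
  show (!![(a : K), 0; 0, (a : K)⁻¹] : Matrix (Fin 2) (Fin 2) K) * !![(b : K), 0; 0, (b : K)⁻¹] =
    !![((a * b : Kˣ) : K), 0; 0, ((a * b : Kˣ) : K)⁻¹]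
  simp [Matrix.mul_fin_two, mul_comm]

theorem hh_one : hh (1 : Kˣ) = 1 := by
  apply Subtype.ext
  show (!![((1 : Kˣ) : K), 0; 0, ((1 : Kˣ) : K)⁻¹] : Matrix (Fin 2) (Fin 2) K) = 1
  rw [Matrix.one_fin_two]; simp

theorem wm_mul : (wm : SpecialLinearGroup (Fin 2) K) * wm = 1 := by
  apply Subtype.ext
  show (!![0, 1; 1, 0] : Matrix (Fin 2) (Fin 2) K) * !![0, 1; 1, 0] = 1
  rw [Matrix.one_fin_two]; simp [Matrix.mul_fin_two]

theorem wm_hh (a : Kˣ) : wm * hh a = hh a⁻¹ * wm := by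
  apply Subtype.ext
  show (!![0, 1; 1, 0] : Matrix (Fin 2) (Fin 2) K) * !![(a : K), 0; 0, (a : K)⁻¹] =
    !![((a⁻¹ : Kˣ) : K), 0; 0, ((a⁻¹ : Kˣ) : K)⁻¹] * !![0, 1; 1, 0]
  simp [Matrix.mul_fin_two]

theorem hh_uu (a : Kˣ) (b : K) : hh a * uu b = uu ((a : K) ^ 2 * b) * hh a := by
  apply Subtype.ext
  show (!![(a : K), 0; 0, (a : K)⁻¹] : Matrix (Fin 2) (Fin 2) K) * !![1, b; 0, 1] =
    !![1, (a : K) ^ 2 * b; 0, 1] * !![(a : K), 0; 0, (a : K)⁻¹]
  have : (a : K) ≠ 0 := a.ne_zero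
  simp only [Matrix.mul_fin_two]
  congr 1
  field_simp
  simp

theorem yy_eq (a : Kˣ) : uu (a : K) * hh a * wm = yy a := by
  apply Subtype.ext
  show (!![1, (a : K); 0, 1] : Matrix (Fin 2) (Fin 2) K) * !![(a : K), 0; 0, (a : K)⁻¹] * !![0, 1; 1, 0] =
    !![1, (a : K); (a : K)⁻¹, 0]
  have : (a : K) ≠ 0 := a.ne_zero
  simp [Matrix.mul_fin_two]

theorem yy_sq (a : Kˣ) : wm * hh a⁻¹ * uu (a : K) = yy a * yy a := by
  apply Subtype.ext
  show (!![0, 1; 1, 0] : Matrix (Fin 2) (Fin 2) K) * !![((a⁻¹ : Kˣ) : K), 0; 0, ((a⁻¹ : Kˣ) : K)⁻¹] *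
    !![1, (a : K); 0, 1] = !![1, (a : K); (a : K)⁻¹, 0] * !![1, (a : K); (a : K)⁻¹, 0]
  have : (a : K) ≠ 0 := a.ne_zero
  have h2 : (1 : K) + 1 = 0 := CharTwo.add_self_eq_zero 1
  simp [Matrix.mul_fin_two, h2]

theorem yy_cube (a : Kˣ) : yy a * yy a * yy a = 1 := by
  apply Subtype.ext
  show (!![1, (a : K); (a : K)⁻¹, 0] : Matrix (Fin 2) (Fin 2) K) * !![1, (a : K); (a : K)⁻¹, 0] *
    !![1, (a : K); (a : K)⁻¹, 0] = 1
  have : (a : K) ≠ 0 := a.ne_zero
  have h2 : (1 : K) + 1 = 0 := CharTwo.add_self_eq_zero 1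
  simp [Matrix.mul_fin_two, h2, Matrix.one_fin_two, CharTwo.add_self_eq_zero]

theorem hh_inv (m : Kˣ) : (hh m)⁻¹ = hh m⁻¹ := by
  rw [inv_eq_iff_mul_eq_one, hh_mul, mul_inv_cancel, hh_one]

theorem uu_inv (m : K) : (uu m)⁻¹ = uu m := by
  rw [inv_eq_iff_mul_eq_one, uu_mul, CharTwo.add_self_eq_zero, uu_zero]

theorem wm_inv : (wm : SpecialLinearGroup (Fin 2) K)⁻¹ = wm := by
  rw [inv_eq_iff_mul_eq_one, wm_mul]

theorem hh_yy (m c : Kˣ) : hh m * yy c * (hh m)⁻¹ = yy (m ^ 2 * c) := by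
  rw [hh_inv]
  apply Subtype.ext
  show (!![(m : K), 0; 0, (m : K)⁻¹] : Matrix (Fin 2) (Fin 2) K) * !![1, (c : K); (c : K)⁻¹, 0] *
    !![((m⁻¹ : Kˣ) : K), 0; 0, ((m⁻¹ : Kˣ) : K)⁻¹] = !![1, ((m ^ 2 * c : Kˣ) : K); ((m ^ 2 * c : Kˣ) : K)⁻¹, 0]
  have h1 : (m : K) ≠ 0 := m.ne_zero
  have h2 : (c : K) ≠ 0 := c.ne_zero
  simp only [Matrix.mul_fin_two]
  push_cast
  congr 1
  field_simp
  simp
  field_simp

theorem trace_of_cube {g : SpecialLinearGroup (Fin 2) K} (h : g * g * g = 1) (h1 : g ≠ 1) :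
    g 0 0 + g 1 1 = 1 := by
  have hd : g 0 0 * g 1 1 - g 0 1 * g 1 0 = 1 := by
    have := g.2; rwa [Matrix.det_fin_two] at this
  have hg : g * g = g⁻¹ := by
    rw [eq_inv_iff_mul_eq_one]; exact h
  have hinv : (g⁻¹ : SpecialLinearGroup (Fin 2) K).1 = !![g 1 1, - g 0 1; - g 1 0, g 0 0] := by
    rw [Matrix.SpecialLinearGroup.coe_inv, Matrix.adjugate_fin_two]
  have e : ∀ i j, (g.1 * g.1) i j = (!![g 1 1, - g 0 1; - g 1 0, g 0 0] : Matrix (Fin 2) (Fin 2) K) i j := by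
    intro i j
    rw [← Matrix.SpecialLinearGroup.coe_mul, hg, ← hinv]
  have e00 := e 0 0
  have e01 := e 0 1
  have e10 := e 1 0
  have e11 := e 1 1
  simp only [Matrix.mul_apply, Fin.sum_univ_two, Matrix.of_apply,
    Matrix.cons_val', Matrix.cons_val_zero, Matrix.cons_val_one, Matrix.cons_val_fin_one] at e00 e01 e10 e11
  have two := two0 (K := K)
  have hext : g 0 0 = 1 → g 1 1 = 1 → g 0 1 = 0 → g 1 0 = 0 → False := by
    intro a b c d
    apply h1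
    ext i j
    fin_cases i <;> fin_cases j
    · simpa using a
    · simpa using c
    · simpa using d
    · simpa using b
  by_contra ht
  have hb : g 0 1 = 0 := by
    have : g 0 1 * (g 0 0 + g 1 1 - 1) = 0 := by
      linear_combination e01 - g 0 1 * two
    rcases mul_eq_zero.mp this with h | h
    · exact h
    · exact absurd (sub_eq_zero.mp h) ht
  have hc : g 1 0 = 0 := by
    have : g 1 0 * (g 0 0 + g 1 1 - 1) = 0 := by
      linear_combination e10 - g 1 0 * two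
    rcases mul_eq_zero.mp this with h | h
    · exact h
    · exact absurd (sub_eq_zero.mp h) ht
  have hd2 : g 0 0 * g 1 1 = 1 := by rw [hb] at hd; linear_combination hd
  have e2 : g 0 0 * g 0 0 = g 1 1 := by rw [hb] at e00; linear_combination e00
  have e3 : (g 0 0 - 1) * (g 0 0 * g 0 0 + g 0 0 + 1) = 0 := by
    linear_combination g 0 0 * e2 + hd2
  rcases mul_eq_zero.mp e3 with h | h
  · have ha : g 0 0 = 1 := sub_eq_zero.mp h
    refine hext ha ?_ hb hc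
    rw [← e2, ha, mul_one]
  · apply ht
    linear_combination h - e2 - two

theorem conj_yy_of_ne {g : SpecialLinearGroup (Fin 2) K} (ht : g 0 0 + g 1 1 = 1) (hc : g 1 0 ≠ 0) :
    ∃ k c, k * g * k⁻¹ = yy c := by
  have hd : g 0 0 * g 1 1 - g 0 1 * g 1 0 = 1 := by
    have := g.2; rwa [Matrix.det_fin_two] at this
  have two := two0 (K := K)
  refine ⟨uu (g 1 1 / g 1 0), (Units.mk0 (g 1 0) hc)⁻¹, ?_⟩
  rw [uu_inv]
  apply Subtype.ext
  have hg : g.1 = !![g 0 0, g 0 1; g 1 0, g 1 1] := Matrix.eta_fin_two _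
  rw [Matrix.SpecialLinearGroup.coe_mul, Matrix.SpecialLinearGroup.coe_mul]
  show (!![1, g 1 1 / g 1 0; 0, 1] : Matrix (Fin 2) (Fin 2) K) * g.1 * !![1, g 1 1 / g 1 0; 0, 1] =
    !![1, (((Units.mk0 (g 1 0) hc)⁻¹ : Kˣ) : K); (((Units.mk0 (g 1 0) hc)⁻¹ : Kˣ) : K)⁻¹, 0]
  generalize g 0 0 = α at *
  generalize g 0 1 = β at *
  generalize g 1 0 = γ at *
  generalize g 1 1 = δ at *
  rw [hg]
  push_cast
  rw [Units.val_mk0, inv_inv, Matrix.mul_fin_two, Matrix.mul_fin_two]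
  have e1 : (1 * α + δ / γ * γ) * 1 + (1 * β + δ / γ * δ) * 0 = 1 := by
    field_simp
    linear_combination γ * ht
  have e2 : (1 * α + δ / γ * γ) * (δ / γ) + (1 * β + δ / γ * δ) * 1 = γ⁻¹ := by
    field_simp
    linear_combination hd + (β * γ + δ ^ 2) * two
  have e3 : (0 * α + 1 * γ) * 1 + (0 * β + 1 * δ) * 0 = γ := by ring
  have e4 : (0 * α + 1 * γ) * (δ / γ) + (0 * β + 1 * δ) * 1 = 0 := by
    field_simp
    linear_combination γ * δ * two
  rw [e1, e2, e3, e4]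

theorem conj_yy {g : SpecialLinearGroup (Fin 2) K} (ht : g 0 0 + g 1 1 = 1) :
    ∃ k c, k * g * k⁻¹ = yy c := by
  by_cases hc : g 1 0 = 0
  swap
  · exact conj_yy_of_ne ht hc
  have two := two0 (K := K)
  have hg : g.1 = !![g 0 0, g 0 1; g 1 0, g 1 1] := Matrix.eta_fin_two _
  by_cases hb : g 0 1 = 0
  · -- conjugate by a lower unipotent
    let k : SpecialLinearGroup (Fin 2) K := ⟨!![1, 0; 1, 1], by simp [Matrix.det_fin_two]⟩
    have kk : k⁻¹ = k := by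
      rw [inv_eq_iff_mul_eq_one]
      apply Subtype.ext
      show (!![1, 0; 1, 1] : Matrix (Fin 2) (Fin 2) K) * !![1, 0; 1, 1] = 1
      have h2 : (1 : K) + 1 = 0 := CharTwo.add_self_eq_zero 1
      simp [Matrix.mul_fin_two, h2, Matrix.one_fin_two]
    have e : (k * g * k⁻¹).1 = !![g 0 0 + g 0 1, g 0 1; g 0 0 + g 1 0 + g 0 1 + g 1 1, g 0 1 + g 1 1] := by
      rw [kk, Matrix.SpecialLinearGroup.coe_mul, Matrix.SpecialLinearGroup.coe_mul]
      show (!![1, 0; 1, 1] : Matrix (Fin 2) (Fin 2) K) * g.1 * !![1, 0; 1, 1] = _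
      rw [hg, Matrix.mul_fin_two, Matrix.mul_fin_two]
      simp [add_assoc]
    have e00 : (k * g * k⁻¹) 0 0 = g 0 0 + g 0 1 := by
      show (k * g * k⁻¹).1 0 0 = _; rw [e]; rfl
    have e11 : (k * g * k⁻¹) 1 1 = g 0 1 + g 1 1 := by
      show (k * g * k⁻¹).1 1 1 = _; rw [e]; rfl
    have e10 : (k * g * k⁻¹) 1 0 = g 0 0 + g 1 0 + g 0 1 + g 1 1 := by
      show (k * g * k⁻¹).1 1 0 = _; rw [e]; rfl
    obtain ⟨l, c, hl⟩ := conj_yy_of_ne (g := k * g * k⁻¹) (by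
      rw [e00, e11, hb]; linear_combination ht) (by
      rw [e10, hb, hc]
      have : g 0 0 + 0 + 0 + g 1 1 = 1 := by linear_combination ht
      rw [this]; exact one_ne_zero)
    exact ⟨l * k, c, by rw [← hl]; group⟩
  · have e : (wm * g * wm⁻¹).1 = !![g 1 1, g 1 0; g 0 1, g 0 0] := by
      rw [wm_inv, Matrix.SpecialLinearGroup.coe_mul, Matrix.SpecialLinearGroup.coe_mul]
      show (!![0, 1; 1, 0] : Matrix (Fin 2) (Fin 2) K) * g.1 * !![0, 1; 1, 0] = _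
      rw [hg, Matrix.mul_fin_two, Matrix.mul_fin_two]
      simp
    have e00 : (wm * g * wm⁻¹ : SpecialLinearGroup (Fin 2) K) 0 0 = g 1 1 := by
      show (wm * g * wm⁻¹).1 0 0 = _; rw [e]; rfl
    have e11 : (wm * g * wm⁻¹ : SpecialLinearGroup (Fin 2) K) 1 1 = g 0 0 := by
      show (wm * g * wm⁻¹).1 1 1 = _; rw [e]; rfl
    have e10 : (wm * g * wm⁻¹ : SpecialLinearGroup (Fin 2) K) 1 0 = g 0 1 := by
      show (wm * g * wm⁻¹).1 1 0 = _; rw [e]; rfl
    obtain ⟨l, c, hl⟩ := conj_yy_of_ne (g := wm * g * wm⁻¹) (by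
      rw [e00, e11]; linear_combination ht) (by
      rw [e10]; exact hb)
    exact ⟨l * wm, c, by rw [← hl]; group⟩

/-- elements of order three are conjugate -/
theorem conj_three (hs : ∀ x : K, ∃ y : K, y ^ 2 = x) {g : SpecialLinearGroup (Fin 2) K}
    (h : g * g * g = 1) (h1 : g ≠ 1) (a : Kˣ) : ∃ k, k * g * k⁻¹ = yy a := by
  obtain ⟨k, c, hk⟩ := conj_yy (trace_of_cube h h1)
  obtain ⟨y, hy⟩ := hs ((a : K) / c)
  have hy0 : y ≠ 0 := by
    rintro rfl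
    rw [zero_pow two_ne_zero] at hy
    exact (div_ne_zero a.ne_zero c.ne_zero) hy.symm
  refine ⟨hh (Units.mk0 y hy0) * k, ?_⟩
  have : hh (Units.mk0 y hy0) * k * g * (hh (Units.mk0 y hy0) * k)⁻¹ =
      hh (Units.mk0 y hy0) * (k * g * k⁻¹) * (hh (Units.mk0 y hy0))⁻¹ := by group
  rw [this, hk, hh_yy]
  congr 1
  ext
  push_cast
  rw [Units.val_mk0, hy]
  field_simp

/-- generation -/
theorem sl_induction {P : SpecialLinearGroup (Fin 2) K → Prop} (hmul : ∀ a b, P a → P b → P (a * b))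
    (hu : ∀ a, P (uu a)) (hh' : ∀ a, P (hh a)) (hw : P wm) (g : SpecialLinearGroup (Fin 2) K) : P g := by
  have key : ∀ g : SpecialLinearGroup (Fin 2) K, g 1 0 ≠ 0 → P g := by
    intro g hc
    have hd : g 0 0 * g 1 1 - g 0 1 * g 1 0 = 1 := by
      have := g.2; rwa [Matrix.det_fin_two] at this
    have two := two0 (K := K)
    have e : g = uu (g 0 0 / g 1 0) * (hh (Units.mk0 (g 1 0) hc)⁻¹ * wm) * uu (g 1 1 / g 1 0) := by
      apply Subtype.ext
      have hg : g.1 = !![g 0 0, g 0 1; g 1 0, g 1 1] := Matrix.eta_fin_two _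
      simp only [Matrix.SpecialLinearGroup.coe_mul]
      show g.1 = (!![1, g 0 0 / g 1 0; 0, 1] : Matrix (Fin 2) (Fin 2) K) *
        (!![(((Units.mk0 (g 1 0) hc)⁻¹ : Kˣ) : K), 0; 0, (((Units.mk0 (g 1 0) hc)⁻¹ : Kˣ) : K)⁻¹] *
          !![0, 1; 1, 0]) * !![1, g 1 1 / g 1 0; 0, 1]
      generalize g 0 0 = α at *
      generalize g 0 1 = β at *
      generalize g 1 0 = γ at *
      generalize g 1 1 = δ at *
      rw [hg]
      push_cast
      rw [Units.val_mk0, inv_inv, Matrix.mul_fin_two, Matrix.mul_fin_two, Matrix.mul_fin_two]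
      congr 1
      field_simp
      simp
      refine ⟨⟨?_, ?_⟩, ?_⟩
      · field_simp
      · field_simp
        linear_combination -hd - two
      · field_simp
    rw [e]
    exact hmul _ _ (hmul _ _ (hu _) (hmul _ _ (hh' _) hw)) (hu _)
  by_cases hc : g 1 0 = 0
  · have hd : g 0 0 * g 1 1 - g 0 1 * g 1 0 = 1 := by
      have := g.2; rwa [Matrix.det_fin_two] at this
    rw [hc, mul_zero, sub_zero] at hd
    have h1 : g 0 0 ≠ 0 := left_ne_zero_of_mul_eq_one hd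
    have : g = wm * (wm * g) := by rw [← mul_assoc, wm_mul, one_mul]
    rw [this]
    apply hmul _ _ hw
    apply key
    have e : (wm * g).1 = !![g 1 0, g 1 1; g 0 0, g 0 1] := by
      have hg : g.1 = !![g 0 0, g 0 1; g 1 0, g 1 1] := Matrix.eta_fin_two _
      rw [Matrix.SpecialLinearGroup.coe_mul]
      show (!![0, 1; 1, 0] : Matrix (Fin 2) (Fin 2) K) * g.1 = _
      rw [hg, Matrix.mul_fin_two]
      simp
    have e10 : (wm * g : SpecialLinearGroup (Fin 2) K) 1 0 = g 0 0 := by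
      show (wm * g).1 1 0 = _; rw [e]; rfl
    rw [e10]; exact h1
  · exact key g hc

end sl

section rep

variable {K : Type*} [Field K] [CharP K 2] {M : Type*} [AddCommGroup M]

theorem rel_of (ρ : SpecialLinearGroup (Fin 2) K →* Module.End ℤ M)
    (h : ∀ a : Kˣ, 1 + ρ (yy a) + ρ (yy a) * ρ (yy a) = 0) :
    Rel (fun a => ρ (uu a)) (fun a => ρ (hh a)) (ρ wm) where
  u_add a b := by simp only [← map_mul, uu_mul]
  u_zero := by simp only [uu_zero, map_one]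
  h_mul a b := by simp only [← map_mul, hh_mul]
  h_one := by simp only [hh_one, map_one]
  w_sq := by rw [← map_mul, wm_mul, map_one]
  w_h a := by simp only [← map_mul, wm_hh]
  h_u a b := by simp only [← map_mul, hh_uu]
  key a := by
    simp only [← map_mul]
    rw [yy_eq, yy_sq, map_mul]
    exact h a

theorem yy_rel (hs : ∀ x : K, ∃ y : K, y ^ 2 = x) (ρ : SpecialLinearGroup (Fin 2) K →* Module.End ℤ M)
    {g : SpecialLinearGroup (Fin 2) K} (hg : g * g * g = 1) (hg1 : g ≠ 1)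
    (hfp : ∀ v, ρ g v = v → v = 0) (a : Kˣ) : 1 + ρ (yy a) + ρ (yy a) * ρ (yy a) = 0 := by
  obtain ⟨k, hk⟩ := conj_three hs hg hg1 a
  ext v
  set z : M := (1 + ρ (yy a) + ρ (yy a) * ρ (yy a)) v with hz
  have h1 : ρ (yy a) z = z := by
    rw [hz, ← Module.End.mul_apply]
    congr 1
    rw [mul_add, mul_add, mul_one, ← mul_assoc, ← map_mul, ← map_mul, yy_cube, map_one]
    abel
  have h2 : ρ g (ρ k⁻¹ z) = ρ k⁻¹ z := by
    have : g = k⁻¹ * yy a * k := by rw [← hk]; group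
    rw [← Module.End.mul_apply, ← map_mul, this, mul_assoc, mul_assoc, mul_inv_cancel, mul_one, map_mul,
      Module.End.mul_apply, h1]
  have h3 := hfp _ h2
  have h4 : ρ k (ρ k⁻¹ z) = z := by
    rw [← Module.End.mul_apply, ← map_mul, mul_inv_cancel, map_one]; rfl
  rw [h3, map_zero] at h4
  rw [← h4]; rfl

end rep

end Cfsg.Agent.BT.SLT
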