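import Mathlib
import Cfsg.Agent.BT.SLTwoD

/-! Groups with a normal 2-subgroup whose quotient is `SL(2,K)`, elements of order three acting freely. -/

set_option autoImplicit false

namespace Cfsg.Agent.BT.SLT

open Matrix
open scoped IsMulCommutative

universe u v

section act

variable {G : Type u} [Group G] {L : Type v} [Group L] (π : G →* L) (hπ : Function.Surjective π)
  (A : Subgroup G) [hn : A.Normal] [IsMulCommutative A]
  (hc : ∀ q, π q = 1 → ∀ a ∈ A, q * a = a * q)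

/-- conjugation as a linear map -/
def conjEnd (g : G) : Module.End ℤ (Additive A) :=
  AddMonoidHom.toIntLinearMap
    { toFun := fun v => Additive.ofMul ⟨g * (v.toMul : A) * g⁻¹, hn.conj_mem _ v.toMul.2 g⟩
      map_zero' := by
        apply Additive.toMul.injective
        apply Subtype.ext
        show g * ((1 : A) : G) * g⁻¹ = 1
        simp
      map_add' := fun v w => by
        apply Additive.toMul.injective
        apply Subtype.ext
        show g * ((v.toMul * w.toMul : A) : G) * g⁻¹ = (g * (v.toMul : G) * g⁻¹) * (g * (w.toMul : G) * g⁻¹)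
        rw [Subgroup.coe_mul]
        group }

theorem conjEnd_apply (g : G) (v : A) :
    conjEnd A g (Additive.ofMul v) = Additive.ofMul ⟨g * v * g⁻¹, hn.conj_mem _ v.2 g⟩ := rfl

theorem conjEnd_mul (g h : G) : conjEnd A (g * h) = conjEnd A g * conjEnd A h := by
  apply LinearMap.ext
  intro v
  apply Additive.toMul.injective
  apply Subtype.ext
  show (g * h) * (v.toMul : G) * (g * h)⁻¹ = g * (h * (v.toMul : G) * h⁻¹) * g⁻¹
  group

theorem conjEnd_one : conjEnd A (1 : G) = 1 := by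
  apply LinearMap.ext
  intro v
  apply Additive.toMul.injective
  apply Subtype.ext
  show (1 : G) * (v.toMul : G) * 1⁻¹ = (v.toMul : G)
  group

include hc in
theorem conjEnd_eq {g h : G} (hgh : π g = π h) : conjEnd A g = conjEnd A h := by
  have h1 : π (g⁻¹ * h) = 1 := by rw [map_mul, map_inv, hgh, inv_mul_cancel]
  have : h = g * (g⁻¹ * h) := by group
  rw [this, conjEnd_mul]
  have h2 : conjEnd A (g⁻¹ * h) = 1 := by
    apply LinearMap.ext
    intro v
    apply Additive.toMul.injective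
    apply Subtype.ext
    show (g⁻¹ * h) * (v.toMul : G) * (g⁻¹ * h)⁻¹ = (v.toMul : G)
    rw [hc _ h1 _ v.toMul.2]
    group
  rw [h2, mul_one]

/-- the action of the quotient -/
noncomputable def act : L →* Module.End ℤ (Additive A) where
  toFun s := conjEnd A (Function.surjInv hπ s)
  map_one' := by
    rw [← conjEnd_one A]
    apply conjEnd_eq π A hc
    rw [Function.surjInv_eq hπ, map_one]
  map_mul' s t := by
    rw [← conjEnd_mul]
    apply conjEnd_eq π A hc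
    rw [map_mul, Function.surjInv_eq hπ, Function.surjInv_eq hπ, Function.surjInv_eq hπ]

theorem act_eq (g : G) : act π hπ A hc (π g) = conjEnd A g :=
  conjEnd_eq π A hc (Function.surjInv_eq hπ (π g))

end act

section pack

variable {G : Type u} [Group G] [Finite G] {K : Type v} [Field K] [CharP K 2]
  (π : G →* SpecialLinearGroup (Fin 2) K) (hπ : Function.Surjective π)
  (A : Subgroup G) [hn : A.Normal] [IsMulCommutative A]
  (hc : ∀ q, π q = 1 → ∀ a ∈ A, q * a = a * q)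

theorem pack_of (hs : ∀ x : K, ∃ y : K, y ^ 2 = x) (hbig : ∃ a b c : Kˣ, (c : K) = a + b)
    (hA : IsPGroup 2 A) (x : G) (hx : x * x * x = 1) (hx1 : π x ≠ 1)
    (hfp : ∀ a ∈ A, x * a * x⁻¹ = a → a = 1) :
    Pack (fun a => act π hπ A hc (uu a)) (fun a => act π hπ A hc (hh a)) (act π hπ A hc wm) := by
  have h3 : ∀ v : Additive A, (3 : ℤ) • v = 0 → v = 0 := by
    intro v hv
    apply Additive.toMul.injective
    show v.toMul = 1
    have h1 : (v.toMul) ^ 3 = 1 := by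
      have : (3 : ℕ) • v = 0 := by
        rw [← hv]; norm_cast
      exact congrArg Additive.toMul this
    obtain ⟨k, hk⟩ := hA v.toMul
    have h2 : orderOf v.toMul ∣ 3 := orderOf_dvd_of_pow_eq_one h1
    have h4 : orderOf v.toMul ∣ 2 ^ k := orderOf_dvd_of_pow_eq_one hk
    have h5 : Nat.Coprime 3 (2 ^ k) := Nat.Coprime.pow_right k (by norm_num)
    have h6 := Nat.dvd_gcd h2 h4
    rw [h5] at h6
    exact orderOf_eq_one_iff.mp (Nat.dvd_one.mp h6)
  refine ⟨rel_of _ (yy_rel hs _ (g := π x) ?_ hx1 ?_), hs, hbig, h3, ?_⟩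
  · rw [← map_mul, ← map_mul, hx, map_one]
  · intro v hv
    rw [act_eq] at hv
    apply Additive.toMul.injective
    apply Subtype.ext
    exact hfp v.toMul v.toMul.2 (congrArg (fun w : Additive A => ((w.toMul : A) : G)) hv)
  · intro v
    have hinj : Function.Injective (fun w : Additive A => (3 : ℤ) • w) := by
      intro a b hab
      have : (3 : ℤ) • (a - b) = 0 := by rw [smul_sub]; exact sub_eq_zero.mpr hab
      exact sub_eq_zero.mp (h3 _ this)
    obtain ⟨w, hw⟩ := (Finite.injective_iff_surjective.mp hinj) v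
    exact ⟨w, hw.symm⟩

end pack

section comm

/-- commutator -/
def cmt {G : Type*} [Group G] (x y : G) : G := x * y * x⁻¹ * y⁻¹

theorem cmt_inv {G : Type*} [Group G] (x y : G) : (cmt x y)⁻¹ = cmt y x := by simp only [cmt]; group

theorem cmt_conj {G : Type*} [Group G] (g x y : G) : cmt (g * x * g⁻¹) (g * y * g⁻¹) = g * cmt x y * g⁻¹ := by
  simp only [cmt]; group

theorem cmt_eq_one {G : Type*} [Group G] {x y : G} : cmt x y = 1 ↔ x * y = y * x := by
  simp only [cmt]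
  rw [mul_inv_eq_one, mul_inv_eq_iff_eq_mul]

theorem cmt_mul_left {G : Type*} [Group G] {x y z : G} (h : cmt y z * x = x * cmt y z) 
    (h2 : cmt y z * cmt x z = cmt x z * cmt y z) :
    cmt (x * y) z = cmt x z * cmt y z := by
  calc cmt (x * y) z = x * cmt y z * (z * x⁻¹ * z⁻¹) := by simp only [cmt]; group
    _ = cmt y z * x * (z * x⁻¹ * z⁻¹) := by rw [h]
    _ = cmt y z * cmt x z := by simp only [cmt]; group
    _ = cmt x z * cmt y z := h2

variable {K : Type v} [Field K] [CharP K 2]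

theorem comm_aux (hs : ∀ x : K, ∃ y : K, y ^ 2 = x) (hbig : ∃ a b c : Kˣ, (c : K) = a + b) (n : ℕ) :
    ∀ (G : Type u) [Group G] [Finite G] (π : G →* SpecialLinearGroup (Fin 2) K), Function.Surjective π →
      ∀ (Q : Subgroup G), Q.Normal → (∀ q, π q = 1 ↔ q ∈ Q) → IsPGroup 2 Q → ∀ x : G, x * x * x = 1 → π x ≠ 1 →
      (∀ a ∈ Q, x * a * x⁻¹ = a → a = 1) → Nat.card G = n → ∀ a ∈ Q, ∀ b ∈ Q, a * b = b * a := by
  induction n using Nat.strong_induction_on with
  | _ n ih =>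
  intro G _ _ π hπ Q hQn hker hQ x hx hx1 hfp hcard
  by_cases hbot : Q = ⊥
  · intro a ha b hb
    rw [hbot, Subgroup.mem_bot] at ha hb
    rw [ha, hb]
  set Z : Subgroup G := Q ⊓ Subgroup.centralizer (Q : Set G) with hZ
  haveI hZn : Z.Normal := by
    refine ⟨fun z hz g => ⟨hQn.conj_mem z hz.1 g, ?_⟩⟩
    show _ ∈ Subgroup.centralizer (Q : Set G)
    rw [Subgroup.mem_centralizer_iff]
    intro q hq
    have h1 := (Subgroup.mem_centralizer_iff.mp hz.2) (g⁻¹ * q * g) (by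
      have := hQn.conj_mem q hq g⁻¹
      rwa [inv_inv] at this)
    calc q * (g * z * g⁻¹) = g * ((g⁻¹ * q * g) * z) * g⁻¹ := by group
      _ = g * (z * (g⁻¹ * q * g)) * g⁻¹ := by rw [h1]
      _ = g * z * g⁻¹ * q := by group
  have hZQ : ∀ z ∈ Z, ∀ q ∈ Q, q * z = z * q := fun z hz q hq =>
    (Subgroup.mem_centralizer_iff.mp hz.2) q hq
  have hZbot : Z ≠ ⊥ := by
    intro h
    haveI : Nontrivial Q := (Subgroup.nontrivial_iff_ne_bot Q).mpr hbot
    haveI : Fact (Nat.Prime 2) := ⟨Nat.prime_two⟩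
    have := hQ.center_nontrivial
    obtain ⟨⟨z, hz⟩, hz1⟩ := exists_ne (1 : Subgroup.center Q)
    apply hz1
    have hzZ : (z : G) ∈ Z := by
      refine ⟨z.2, ?_⟩
      show _ ∈ Subgroup.centralizer (Q : Set G)
      rw [Subgroup.mem_centralizer_iff]
      intro q hq
      have := (Subgroup.mem_center_iff.mp hz) ⟨q, hq⟩
      exact congrArg Subtype.val this
    rw [h, Subgroup.mem_bot] at hzZ
    apply Subtype.ext
    apply Subtype.ext
    exact hzZ
  -- the quotient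
  have hlt : Nat.card (G ⧸ Z) < n := by
    have h1 := Subgroup.card_eq_card_quotient_mul_card_subgroup Z
    rw [hcard] at h1
    have h2 : 1 < Nat.card Z := by
      rw [Subgroup.one_lt_card_iff_ne_bot]; exact hZbot
    have h3 : 0 < Nat.card (G ⧸ Z) := Nat.card_pos
    rw [h1]
    nlinarith
  have hZk : Z ≤ π.ker := fun z hz => (hker z).mpr hz.1
  let π' : G ⧸ Z →* SpecialLinearGroup (Fin 2) K := QuotientGroup.lift Z π hZk
  have hπ' : Function.Surjective π' := by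
    intro s
    obtain ⟨g, hg⟩ := hπ s
    exact ⟨(g : G ⧸ Z), hg⟩
  let Q' : Subgroup (G ⧸ Z) := Q.map (QuotientGroup.mk' Z)
  have hQ'n : Q'.Normal := hQn.map _ (QuotientGroup.mk'_surjective Z)
  have hmemQ' : ∀ q : G, ((q : G ⧸ Z) ∈ Q' ↔ q ∈ Q) := by
    intro q
    constructor
    · rintro ⟨a, ha, hab⟩
      have : (a : G ⧸ Z) = (q : G ⧸ Z) := hab
      rw [QuotientGroup.eq] at this
      have h2 : q = a * (a⁻¹ * q) := by group
      rw [h2]
      exact Q.mul_mem ha this.1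
    · intro h
      exact ⟨q, h, rfl⟩
  have hker' : ∀ q, π' q = 1 ↔ q ∈ Q' := by
    intro q
    obtain ⟨a, rfl⟩ := QuotientGroup.mk_surjective q
    rw [hmemQ', ← hker]; rfl
  have hQ'p : IsPGroup 2 Q' := hQ.map _
  have hfp' : ∀ a ∈ Q', (x : G ⧸ Z) * a * (x : G ⧸ Z)⁻¹ = a → a = 1 := by
    intro a ha hxa
    obtain ⟨a, rfl⟩ := QuotientGroup.mk_surjective a
    rw [hmemQ'] at ha
    have h1 : (a⁻¹ * (x * a * x⁻¹)) ∈ Z := by
      rw [← QuotientGroup.eq]; exact hxa.symm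
    -- surjectivity of the commutator map on Z
    have hinj : Function.Injective (fun z : Z => (⟨z⁻¹ * (x * z * x⁻¹), 
        Z.mul_mem (Z.inv_mem z.2) (hZn.conj_mem _ z.2 x)⟩ : Z)) := by
      intro z w hzw
      have e : (z : G)⁻¹ * (x * z * x⁻¹) = (w : G)⁻¹ * (x * w * x⁻¹) := congrArg Subtype.val hzw
      have hzw' : ((z : G) * (w : G)⁻¹) = 1 := by
        apply hfp _ (Q.mul_mem z.2.1 (Q.inv_mem w.2.1))
        have hcm : (z : G) * (w : G)⁻¹ = (w : G)⁻¹ * z :=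
          hZQ _ (Z.inv_mem w.2) _ z.2.1
        have hcm2 : (x * w * x⁻¹)⁻¹ * (w : G) = (w : G) * (x * w * x⁻¹)⁻¹ :=
          hZQ _ w.2 _ (Q.inv_mem (hQn.conj_mem _ w.2.1 x))
        calc x * ((z : G) * (w : G)⁻¹) * x⁻¹ = z * ((z : G)⁻¹ * (x * z * x⁻¹)) * (x * w * x⁻¹)⁻¹ := by group
          _ = z * ((w : G)⁻¹ * (x * w * x⁻¹)) * (x * w * x⁻¹)⁻¹ := by rw [e]
          _ = z * (w : G)⁻¹ := by group
      apply Subtype.ext
      exact mul_inv_eq_one.mp hzw'
    obtain ⟨w, hw⟩ := (Finite.injective_iff_surjective.mp hinj) ⟨_, Z.inv_mem h1⟩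
    have hw' : (w : G)⁻¹ * (x * w * x⁻¹) = (a⁻¹ * (x * a * x⁻¹))⁻¹ := congrArg Subtype.val hw
    have h2 : a * w = 1 := by
      apply hfp _ (Q.mul_mem ha w.2.1)
      have hcm : (w : G) * ((w : G)⁻¹ * (x * w * x⁻¹)) = ((w : G)⁻¹ * (x * w * x⁻¹)) * w := by
        have := hZQ ((w : G)⁻¹ * (x * w * x⁻¹)) (Z.mul_mem (Z.inv_mem w.2) (hZn.conj_mem _ w.2 x)) w w.2.1
        exact this
      calc x * (a * w) * x⁻¹ = a * (a⁻¹ * (x * a * x⁻¹)) * (w * ((w : G)⁻¹ * (x * w * x⁻¹))) := by group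
        _ = a * (a⁻¹ * (x * a * x⁻¹)) * (((w : G)⁻¹ * (x * w * x⁻¹)) * w) := by rw [hcm]
        _ = a * w := by rw [hw']; group
    have h3 : a = (w : G)⁻¹ := eq_inv_of_mul_eq_one_left h2
    rw [QuotientGroup.eq_one_iff, h3]
    exact Z.inv_mem w.2
  have hx' : (x : G ⧸ Z) * (x : G ⧸ Z) * (x : G ⧸ Z) = 1 := by
    rw [← QuotientGroup.mk_mul, ← QuotientGroup.mk_mul, hx]; rfl
  have hcomm' := ih (Nat.card (G ⧸ Z)) hlt (G ⧸ Z) π' hπ' Q' hQ'n hker' hQ'p (x : G ⧸ Z) hx' hx1 hfp' rfl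
  -- modules
  haveI : IsMulCommutative Q' := ⟨⟨fun a b => Subtype.ext (hcomm' a a.2 b b.2)⟩⟩
  haveI : IsMulCommutative Z := ⟨⟨fun a b => Subtype.ext (hZQ b b.2 a a.2.1)⟩⟩
  have hcQ' : ∀ q, π' q = 1 → ∀ a ∈ Q', q * a = a * q := fun q hq a ha =>
    hcomm' q ((hker' q).mp hq) a ha
  have hcZ : ∀ q, π q = 1 → ∀ a ∈ Z, q * a = a * q := fun q hq a ha => hZQ a ha q ((hker q).mp hq)
  have p := pack_of π' hπ' Q' hcQ' hs hbig hQ'p (x : G ⧸ Z) hx' hx1 hfp'
  have q := pack_of π hπ Z hcZ hs hbig (hQ.to_le inf_le_left) x hx hx1 (fun a ha => hfp a ha.1)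
  have hcmZ : ∀ a ∈ Q, ∀ b ∈ Q, cmt a b ∈ Z := by
    intro a ha b hb
    have h1 := hcomm' (a : G ⧸ Z) ((hmemQ' a).mpr ha) (b : G ⧸ Z) ((hmemQ' b).mpr hb)
    rw [← QuotientGroup.eq_one_iff]
    have : ((cmt a b : G) : G ⧸ Z) = cmt (a : G ⧸ Z) (b : G ⧸ Z) := rfl
    rw [this, cmt_eq_one]
    exact h1
  have hcl : ∀ a ∈ Q, ∀ b ∈ Q, ∀ c ∈ Q, cmt (a * b) c = cmt a c * cmt b c := by
    intro a ha b hb c hc
    exact cmt_mul_left (hZQ _ (hcmZ b hb c hc) a ha).symm (hZQ _ (hcmZ a ha c hc) _ (hcmZ b hb c hc).1)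
  have hcr : ∀ a ∈ Q, ∀ b ∈ Q, ∀ c ∈ Q, cmt a (b * c) = cmt a b * cmt a c := by
    intro a ha b hb c hc
    have := hcl b hb c hc a ha
    have h2 := congrArg (fun t => t⁻¹) this
    simp only [_root_.mul_inv_rev, cmt_inv] at h2
    rw [h2]
    exact hZQ _ (hcmZ a ha b hb) _ (hcmZ a ha c hc).1
  have hcz : ∀ a ∈ Q, ∀ z ∈ Z, cmt a z = 1 := fun a ha z hz => cmt_eq_one.mpr (hZQ z hz a ha)
  have hzc : ∀ a ∈ Q, ∀ z ∈ Z, cmt z a = 1 := fun a ha z hz => cmt_eq_one.mpr (hZQ z hz a ha).symm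
  -- lifts
  have hlift : ∀ m : Additive Q', ∃ a : G, a ∈ Q ∧ (a : G ⧸ Z) = (m.toMul : G ⧸ Z) := by
    intro m
    obtain ⟨a, ha, hab⟩ := m.toMul.2
    exact ⟨a, ha, hab⟩
  choose l hlQ hl using hlift
  let β : Additive Q' → Additive Q' → Additive Z := fun m m' =>
    Additive.ofMul ⟨cmt (l m) (l m'), hcmZ _ (hlQ m) _ (hlQ m')⟩
  have hβ : ∀ (m m' : Additive Q') (a b : G) (_ : a ∈ Q) (_ : b ∈ Q), (a : G ⧸ Z) = (m.toMul : G ⧸ Z) →
      (b : G ⧸ Z) = (m'.toMul : G ⧸ Z) → (((β m m').toMul : Z) : G) = cmt a b := by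
    intro m m' a b ha hb hma hmb
    show cmt (l m) (l m') = cmt a b
    have e1 : a⁻¹ * l m ∈ Z := by rw [← QuotientGroup.eq, hma, hl]
    have e2 : b⁻¹ * l m' ∈ Z := by rw [← QuotientGroup.eq, hmb, hl]
    have f1 : l m = a * (a⁻¹ * l m) := by group
    have f2 : l m' = b * (b⁻¹ * l m') := by group
    rw [f1, f2, hcl _ ha _ e1.1 _ (Q.mul_mem hb e2.1), hcr _ ha _ hb _ e2.1, hcz _ ha _ e2,
      hzc _ (Q.mul_mem hb e2.1) _ e1, mul_one, mul_one]
  have hβ0 := p.form_zero q β ?_ ?_ ?_ ?_ ?_ ?_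
  · intro a ha b hb
    have h1 := hβ (Additive.ofMul ⟨(a : G ⧸ Z), (hmemQ' a).mpr ha⟩) (Additive.ofMul ⟨(b : G ⧸ Z), (hmemQ' b).mpr hb⟩)
      a b ha hb rfl rfl
    rw [hβ0] at h1
    rw [← cmt_eq_one, ← h1]; rfl
  · intro a b c
    apply Additive.toMul.injective
    apply Subtype.ext
    rw [hβ (a + b) c (l a * l b) (l c) (Q.mul_mem (hlQ a) (hlQ b)) (hlQ c) (by
      rw [QuotientGroup.mk_mul, hl, hl]; rfl) (hl c), hcl _ (hlQ a) _ (hlQ b) _ (hlQ c)]
    rfl
  · intro a b c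
    apply Additive.toMul.injective
    apply Subtype.ext
    rw [hβ a (b + c) (l a) (l b * l c) (hlQ a) (Q.mul_mem (hlQ b) (hlQ c)) (hl a) (by
      rw [QuotientGroup.mk_mul, hl, hl]; rfl), hcr _ (hlQ a) _ (hlQ b) _ (hlQ c)]
    rfl
  · intro a b
    apply Additive.toMul.injective
    apply Subtype.ext
    show cmt (l a) (l b) = (cmt (l b) (l a))⁻¹
    rw [cmt_inv]
  all_goals
    have key : ∀ (g : G ⧸ Z) (h : G), (h : G ⧸ Z) = g → ∀ a b : Additive Q',
        β (conjEnd Q' g a) (conjEnd Q' g b) = conjEnd Z h (β a b) := by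
      intro g h hgh a b
      apply Additive.toMul.injective
      apply Subtype.ext
      rw [hβ _ _ (h * l a * h⁻¹) (h * l b * h⁻¹) (hQn.conj_mem _ (hlQ a) h) (hQn.conj_mem _ (hlQ b) h) (by
        rw [QuotientGroup.mk_mul, QuotientGroup.mk_mul, QuotientGroup.mk_inv, hl, hgh]; rfl) (by
        rw [QuotientGroup.mk_mul, QuotientGroup.mk_mul, QuotientGroup.mk_inv, hl, hgh]; rfl), cmt_conj]
      rfl
    have key2 : ∀ (s : SpecialLinearGroup (Fin 2) K) (a b : Additive Q'),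
        β (act π' hπ' Q' hcQ' s a) (act π' hπ' Q' hcQ' s b) = act π hπ Z hcZ s (β a b) := by
      intro s a b
      obtain ⟨h, rfl⟩ := hπ s
      have e1 : π h = π' (h : G ⧸ Z) := rfl
      rw [act_eq]
      rw [e1, act_eq]
      exact key _ _ rfl a b
    first
      | exact fun k a b => key2 _ a b
      | exact fun a b => key2 _ a b

/-- the normal 2-subgroup is abelian -/
theorem comm_of (hs : ∀ x : K, ∃ y : K, y ^ 2 = x) (hbig : ∃ a b c : Kˣ, (c : K) = a + b)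
    {G : Type u} [Group G] [Finite G] (π : G →* SpecialLinearGroup (Fin 2) K) (hπ : Function.Surjective π)
    (Q : Subgroup G) [hQn : Q.Normal] (hker : ∀ q, π q = 1 ↔ q ∈ Q) (hQ : IsPGroup 2 Q) (x : G)
    (hx : x * x * x = 1) (hx1 : π x ≠ 1) (hfp : ∀ a ∈ Q, x * a * x⁻¹ = a → a = 1) :
    ∀ a ∈ Q, ∀ b ∈ Q, a * b = b * a :=
  comm_aux hs hbig (Nat.card G) G π hπ Q hQn hker hQ x hx hx1 hfp rfl

end comm

end Cfsg.Agent.BT.SLT
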