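import Mathlib
import Cfsg.Prelude.Def_BaumannBlocks
import Cfsg.Agent.BT.SLTwoE

/-! Conclusion: direct product of natural modules. -/

set_option autoImplicit false

namespace Cfsg.Agent.BT.SLT

open Matrix
open scoped IsMulCommutative

universe u v

variable {G : Type u} [Group G] [Finite G] {K : Type v} [Field K] [CharP K 2]

/-- subgroup of elements with vanishing coordinates outside a set -/
def vsub (Q : Subgroup G) [IsMulCommutative Q] {k : ℕ} (Θ : Additive Q ≃+ (Fin k → Fin 2 → K)) (S : Set (Fin k)) :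
    Subgroup G :=
  Subgroup.map Q.subtype
    { carrier := {v : Q | ∀ j ∉ S, Θ (Additive.ofMul v) j = 0}
      one_mem' := fun j _ => by
        show Θ (Additive.ofMul 1) j = 0
        rw [ofMul_one, map_zero]; rfl
      mul_mem' := fun {a b} ha hb j hj => by
        show Θ (Additive.ofMul (a * b)) j = 0
        rw [ofMul_mul, map_add, Pi.add_apply, ha j hj, hb j hj, add_zero]
      inv_mem' := fun {a} ha j hj => by
        show Θ (Additive.ofMul a⁻¹) j = 0
        rw [ofMul_inv, map_neg, Pi.neg_apply, ha j hj, neg_zero] }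

theorem mem_vsub {Q : Subgroup G} [IsMulCommutative Q] {k : ℕ} {Θ : Additive Q ≃+ (Fin k → Fin 2 → K)}
    {S : Set (Fin k)} {g : G} : g ∈ vsub Q Θ S ↔ ∃ h : g ∈ Q, ∀ j ∉ S, Θ (Additive.ofMul ⟨g, h⟩) j = 0 := by
  constructor
  · rintro ⟨v, hv, rfl⟩
    exact ⟨v.2, hv⟩
  · rintro ⟨h, h2⟩
    exact ⟨⟨g, h⟩, h2, rfl⟩

theorem natural_sum (hs : ∀ x : K, ∃ y : K, y ^ 2 = x) (hbig : ∃ a b c : Kˣ, (c : K) = a + b)
    (π : G →* SpecialLinearGroup (Fin 2) K) (hπ : Function.Surjective π)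
    (Q : Subgroup G) [hQn : Q.Normal] (hker : ∀ q, π q = 1 ↔ q ∈ Q) (hQ : IsPGroup 2 Q) (x : G)
    (hx : x * x * x = 1) (hx1 : π x ≠ 1) (hfp : ∀ a ∈ Q, x * a * x⁻¹ = a → a = 1) :
    Cfsg.IsElementaryAbelian 2 Q ∧
      ∃ (k : ℕ) (V : Fin k → Subgroup G), (∀ i, V i ≤ Q ∧ (V i).Normal ∧
        Cfsg.ActsAsSL2OnSection K ⊤ ⊤ (V i) ⊥) ∧ iSupIndep V ∧ ⨆ i, V i = Q := by
  have hcomm := comm_of hs hbig π hπ Q hker hQ x hx hx1 hfp
  haveI : IsMulCommutative Q := ⟨⟨fun a b => Subtype.ext (hcomm a a.2 b b.2)⟩⟩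
  have hc : ∀ q, π q = 1 → ∀ a ∈ Q, q * a = a * q := fun q hq a ha => hcomm q ((hker q).mp hq) a ha
  have p := pack_of π hπ Q hc hs hbig hQ x hx hx1 hfp
  refine ⟨⟨inferInstance, ?_⟩, ?_⟩
  · intro a ha
    have h := p.two (Additive.ofMul ⟨a, ha⟩)
    have h2 : (2 : ℕ) • (Additive.ofMul (⟨a, ha⟩ : Q)) = 0 := by
      rw [← h]; norm_cast
    exact congrArg (fun w : Additive Q => ((w.toMul : Q) : G)) h2
  obtain ⟨k, Θ, hU, hH, hW⟩ := p.coord
  have heq : ∀ (s : SpecialLinearGroup (Fin 2) K) m i, Θ (act π hπ Q hc s m) i = s.1.mulVec (Θ m i) := by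
    intro s
    refine sl_induction (P := fun s => ∀ m i, Θ (act π hπ Q hc s m) i = s.1.mulVec (Θ m i)) ?_ ?_ ?_ ?_ s
    · intro a b ha hb m i
      rw [map_mul, Module.End.mul_apply, ha, hb, Matrix.SpecialLinearGroup.coe_mul, Matrix.mulVec_mulVec]
    · intro a m i
      exact hU a m i
    · intro a m i
      exact hH a m i
    · intro m i
      exact hW m i
  have hconj : ∀ (g : G) (v : Q) i, Θ (Additive.ofMul ⟨g * v * g⁻¹, hQn.conj_mem _ v.2 g⟩) i =
      (π g).1.mulVec (Θ (Additive.ofMul v) i) := by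
    intro g v i
    rw [← heq, act_eq]; rfl
  have hVQ : ∀ S, vsub Q Θ S ≤ Q := fun S g hg => (mem_vsub.mp hg).1
  have hVn : ∀ S, (vsub Q Θ S).Normal := by
    intro S
    refine ⟨fun v hv g => ?_⟩
    rw [mem_vsub] at hv ⊢
    obtain ⟨h1, h2⟩ := hv
    refine ⟨hQn.conj_mem _ h1 g, fun j hj => ?_⟩
    rw [hconj g ⟨v, h1⟩, h2 j hj, Matrix.mulVec_zero]
  refine ⟨k, fun i => vsub Q Θ {i}, fun i => ⟨hVQ _, hVn _, ?_⟩, ?_, ?_⟩
  · refine ⟨?_, bot_le, π.comp (Subgroup.subtype ⊤), ?_, ?_, ?_, ?_, ?_⟩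
    · rw [top_le_iff]
      haveI := hVn {i}
      exact Subgroup.normalizer_eq_top _
    · exact
        { toFun := fun u => Multiplicative.ofAdd (Θ (Additive.ofMul ⟨u, hVQ _ u.2⟩) i)
          map_one' := by
            have : (⟨((1 : vsub Q Θ {i}) : G), hVQ _ (1 : vsub Q Θ {i}).2⟩ : Q) = 1 := rfl
            rw [this, ofMul_one, map_zero]; rfl
          map_mul' := fun a b => by
            have : (⟨((a * b : vsub Q Θ {i}) : G), hVQ _ (a * b : vsub Q Θ {i}).2⟩ : Q) =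
              ⟨a, hVQ _ a.2⟩ * ⟨b, hVQ _ b.2⟩ := rfl
            rw [this, ofMul_mul, map_add]; rfl }
    · rw [MonoidHom.range_eq_top]
      intro s
      obtain ⟨g, hg⟩ := hπ s
      exact ⟨⟨g, trivial⟩, hg⟩
    · intro c
      have hm : (((Θ.symm (Pi.single i (Multiplicative.toAdd c))).toMul : Q) : G) ∈ vsub Q Θ {i} := by
        rw [mem_vsub]
        refine ⟨(Additive.toMul (Θ.symm (Pi.single i (Multiplicative.toAdd c)))).2, fun j hj => ?_⟩
        show Θ (Θ.symm _) j = 0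
        rw [AddEquiv.apply_symm_apply, Pi.single_eq_of_ne hj]
      refine ⟨⟨_, hm⟩, ?_⟩
      show Multiplicative.ofAdd (Θ (Θ.symm _) i) = c
      rw [AddEquiv.apply_symm_apply, Pi.single_eq_same]; rfl
    · intro w
      constructor
      · intro h
        have h1 : Θ (Additive.ofMul ⟨w, hVQ _ w.2⟩) i = 0 := h
        have h2 : Θ (Additive.ofMul ⟨w, hVQ _ w.2⟩) = 0 := by
          funext j
          by_cases hj : j = i
          · rw [hj, h1]; rfl
          · exact (mem_vsub.mp w.2).2 j hj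
        rw [map_eq_zero_iff _ Θ.injective] at h2
        rw [Subgroup.mem_bot]
        exact congrArg (fun w : Additive Q => ((w.toMul : Q) : G)) h2
      · intro h
        rw [Subgroup.mem_bot] at h
        show Multiplicative.ofAdd (Θ (Additive.ofMul ⟨w, hVQ _ w.2⟩) i) = 1
        have : (⟨(w : G), hVQ _ w.2⟩ : Q) = 1 := Subtype.ext h
        rw [this, ofMul_one, map_zero]; rfl
    · intro e w
      refine ⟨⟨e * w * (e : G)⁻¹, (hVn _).conj_mem _ w.2 e⟩, rfl, ?_⟩
      show Θ (Additive.ofMul ⟨e * w * (e : G)⁻¹, _⟩) i = (π e).1.mulVec (Θ (Additive.ofMul ⟨w, _⟩) i)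
      exact hconj e ⟨w, hVQ _ w.2⟩ i
  · intro i
    have h1 : (⨆ j, ⨆ (_ : j ≠ i), vsub Q Θ {j}) ≤ vsub Q Θ {j | j ≠ i} := by
      refine iSup₂_le fun j hj g hg => ?_
      rw [mem_vsub] at hg ⊢
      refine ⟨hg.1, fun l hl => hg.2 l ?_⟩
      rintro rfl
      exact hl hj
    refine Disjoint.mono_right h1 ?_
    rw [Subgroup.disjoint_def]
    intro g hg1 hg2
    rw [mem_vsub] at hg1 hg2
    obtain ⟨hgQ, h3⟩ := hg1
    obtain ⟨_, h4⟩ := hg2
    have h5 : Θ (Additive.ofMul ⟨g, hgQ⟩) = 0 := by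
      funext j
      by_cases hj : j = i
      · exact h4 j (by simpa using hj)
      · exact h3 j hj
    rw [map_eq_zero_iff _ Θ.injective] at h5
    exact congrArg (fun w : Additive Q => ((w.toMul : Q) : G)) h5
  · apply le_antisymm
    · exact iSup_le fun i => hVQ _
    · intro g hg
      let T : AddSubgroup (Additive Q) :=
        { carrier := {v | ((v.toMul : Q) : G) ∈ ⨆ i, vsub Q Θ {i}}
          zero_mem' := by
            show (((1 : Q) : G)) ∈ ⨆ i, vsub Q Θ {i}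
            exact Subgroup.one_mem _
          add_mem' := fun {a b} ha hb => by
            show (((a.toMul * b.toMul : Q)) : G) ∈ ⨆ i, vsub Q Θ {i}
            exact Subgroup.mul_mem _ ha hb
          neg_mem' := fun {a} ha => by
            show (((a.toMul)⁻¹ : Q) : G) ∈ ⨆ i, vsub Q Θ {i}
            exact Subgroup.inv_mem _ ha }
      have h1 : Additive.ofMul (⟨g, hg⟩ : Q) ∈ T := by
        have h2 : Additive.ofMul (⟨g, hg⟩ : Q) = ∑ i, Θ.symm (Pi.single i (Θ (Additive.ofMul ⟨g, hg⟩) i)) := by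
          rw [← map_sum, Finset.univ_sum_single, AddEquiv.symm_apply_apply]
        rw [h2]
        refine sum_mem fun i _ => ?_
        refine Subgroup.mem_iSup_of_mem i ?_
        rw [mem_vsub]
        refine ⟨(Additive.toMul (Θ.symm (Pi.single i (Θ (Additive.ofMul ⟨g, hg⟩) i)))).2, fun j hj => ?_⟩
        show Θ (Θ.symm _) j = 0
        rw [AddEquiv.apply_symm_apply, Pi.single_eq_of_ne hj]
      exact h1

end Cfsg.Agent.BT.SLT
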