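import Cfsg.Agent.BT.CaseTwo2

/-!
`C(P) = P` when an exceptional character has degree `< p`.
-/

set_option autoImplicit false

open scoped ComplexConjugate

namespace Cfsg.Agent.BT

open Cfsg Subgroup Cfsg.Agent.BR
open Cfsg.Agent.CharBase (oneIrr)

universe u

section

variable {G : Type u} [Group G] [Fintype G] {p : ℕ} [hp : Fact p.Prime] {P : Subgroup G}

theorem cent_eq_of (hP : Sp p P)
    (hv1 : ∀ v ∈ centralizer (P : Set G), ¬ p ∣ orderOf v → v = 1) :
    centralizer (P : Set G) = P := by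
  have hPcyc : IsCyclic P := isCyclic_of_prime_card hP.card
  have hPle : P ≤ centralizer (P : Set G) := by
    intro x hx
    rw [Subgroup.mem_centralizer_iff]
    intro y hy
    have hcomm : IsMulCommutative P := IsCyclic.isMulCommutative
    have := mul_comm' (⟨y, hy⟩ : P) ⟨x, hx⟩
    exact congrArg Subtype.val this
  have hCp : IsPGroup p (centralizer (P : Set G)) := by
    rw [IsPGroup.iff_card]
    refine ⟨_, Nat.eq_prime_pow_of_unique_prime_dvd Nat.card_pos.ne' ?_⟩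
    intro q hq hqd
    by_contra hqp
    have : Fact q.Prime := ⟨hq⟩
    obtain ⟨v, hv⟩ := exists_prime_orderOf_dvd_card' q hqd
    have hv' : orderOf (v : G) = q := by rw [Subgroup.orderOf_coe]; exact hv
    have h1 := hv1 v v.2 (by
      rw [hv']
      intro h
      exact hqp ((Nat.prime_dvd_prime_iff_eq hp.out hq).mp h).symm)
    rw [h1, orderOf_one] at hv'
    exact hq.one_lt.ne hv'
  obtain ⟨Q, hQ⟩ := hP.exists_sylow
  have h5 := Q.3 hCp (by rw [hQ]; exact hPle)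
  rw [h5, hQ]

/-- nonexceptional characters modulo `p` on the centralizer. -/
theorem val_X_mod (B : Data p P) (hP : Sp p P) {χ : IrrCharacter G} (hχ : χ ∈ B.X) {v : G}
    (hv : v ∈ centralizer (P : Set G)) (hvp : ¬ p ∣ orderOf v) :
    ∃ w : ℂ, IsIntegral ℤ w ∧ (χ : G → ℂ) v = (p : ℂ) * w - (p - 1) * B.δ χ := by
  classical
  have := Fintype.ofFinite P
  set L := normalizer (P : Set G) with hL
  have := Fintype.ofFinite L
  have := Fintype.ofFinite (P.subgroupOf L)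
  have hvL : v ∈ L := centralizer_le_normalizer' P hv
  have hχL : IsCharacter L (fun l : L => (χ : G → ℂ) l) :=
    CharBase.isCharacter_restrict (CharBase.irr_isCharacter χ) L
  have e : ∑ x : P, (χ : G → ℂ) (x * v) =
      ∑ x : P.subgroupOf L, (χ : G → ℂ) (((x : L) * ⟨v, hvL⟩ : L) : G) := by
    refine Fintype.sum_equiv
      (Subgroup.subgroupOfEquivOfLe (Subgroup.le_normalizer (H := P))).symm.toEquiv _ _ ?_
    intro x
    rfl
  have hcard : (Nat.card (P.subgroupOf L) : ℂ) = p := by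
    rw [Nat.card_congr (Subgroup.subgroupOfEquivOfLe (Subgroup.le_normalizer (H := P))).toEquiv,
      hP.card]
  have hp0 : (p : ℂ) ≠ 0 := by exact_mod_cast hp.out.ne_zero
  have h1 := Char.avgN_isCharacter (P.subgroupOf L) hχL
  have h2 : ∑ x : P, (χ : G → ℂ) (x * v) = (χ : G → ℂ) v + (p - 1) * B.δ χ := by
    rw [sum_P_split (fun x : P => (χ : G → ℂ) (x * v)), Subgroup.coe_one, one_mul]
    congr 1
    rw [Finset.sum_congr rfl (g := fun _ => (B.δ χ : ℂ))]
    · rw [Finset.sum_const, Finset.card_erase_of_mem (Finset.mem_univ _), Finset.card_univ,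
        ← Nat.card_eq_fintype_card, hP.card, nsmul_eq_mul, Nat.cast_sub hp.out.one_lt.le,
        Nat.cast_one]
    · intro x hx
      exact B.val χ hχ x x.2 (fun h => (Finset.mem_erase.mp hx).1 (Subtype.ext h)) v hv hvp
  refine ⟨Char.avgN (P.subgroupOf L) (fun l : L => (χ : G → ℂ) l) ⟨v, hvL⟩,
    CharBase.isIntegral_of_isCharacter h1 _, ?_⟩
  rw [Char.avgN_apply, ← e, hcard, h2, ← mul_assoc, mul_inv_cancel₀ hp0, one_mul]
  ring

/-- exceptional characters modulo `p` on the centralizer. -/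
theorem val_Y_mod (B : Data p P) (hP : Sp p P) {ψ : IrrCharacter G} (hψ : ψ ∈ B.Y) {v : G}
    (hv : v ∈ centralizer (P : Set G)) (hvp : ¬ p ∣ orderOf v) :
    ∃ w : ℂ, IsIntegral ℤ w ∧ (ψ : G → ℂ) v = dg ψ + (p : ℂ) * w := by
  classical
  have h1 : ∀ χ : IrrCharacter G, ∃ w : ℂ, IsIntegral ℤ w ∧
      (χ ∈ B.X → (χ : G → ℂ) v = dg χ + (p : ℂ) * w) := by
    intro χ
    by_cases hχ : χ ∈ B.X
    · obtain ⟨w, hw, h2⟩ := val_X_mod B hP hχ hv hvp
      obtain ⟨w', hw', h3⟩ := val_X_mod B hP hχ (Subgroup.one_mem _) not_dvd_orderOf_one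
      rw [dg_eq] at h3
      refine ⟨w - w', hw.sub hw', fun _ => ?_⟩
      rw [h2, h3]
      ring
    · exact ⟨0, isIntegral_zero, fun h => absurd h hχ⟩
  choose w hw hw2 using h1
  have h2 := B.reg v hvp ψ hψ
  have h3 := B.reg 1 not_dvd_orderOf_one ψ hψ
  rw [dg_eq] at h3
  have hδ : (B.δ₀ : ℂ) * B.δ₀ = 1 := by
    rcases B.sgn₀ with h | h <;> rw [h] <;> norm_num
  refine ⟨-(B.δ₀ : ℂ) * ∑ χ ∈ B.X, (B.δ χ : ℂ) * w χ, ?_, ?_⟩
  · refine IsIntegral.mul ?_ (IsIntegral.sum _ fun χ _ => ?_)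
    · exact (isIntegral_algebraMap (R := ℤ) (A := ℂ) (x := B.δ₀)).neg
    · exact (isIntegral_algebraMap (R := ℤ) (A := ℂ) (x := B.δ χ)).mul (hw χ)
  · have h4 : ∑ χ ∈ B.X, (B.δ χ : ℂ) * (χ : G → ℂ) v = ∑ χ ∈ B.X, (B.δ χ : ℂ) * (χ : G → ℂ) 1 +
        (p : ℂ) * ∑ χ ∈ B.X, (B.δ χ : ℂ) * w χ := by
      rw [Finset.mul_sum, ← Finset.sum_add_distrib]
      refine Finset.sum_congr rfl fun χ hχ => ?_
      rw [hw2 χ hχ, dg_eq]
      ring
    have h5 : (B.δ₀ : ℂ) * ((B.δ₀ : ℂ) * (ψ : G → ℂ) v) = (B.δ₀ : ℂ) * (B.δ₀ * dg ψ -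
        (p : ℂ) * ∑ χ ∈ B.X, (B.δ χ : ℂ) * w χ) := by
      congr 1
      linear_combination h2 - h3 - h4
    rw [← mul_assoc, hδ, one_mul, mul_sub, ← mul_assoc, hδ, one_mul] at h5
    rw [h5]
    ring

/-- small exceptional characters have `C(P) ∩ p'` in the kernel. -/
theorem val_of_small (B : Data p P) (hP : Sp p P) {ψ : IrrCharacter G} (hψ : ψ ∈ B.Y)
    (hd : dg ψ < p) {v : G} (hv : v ∈ centralizer (P : Set G)) (hvp : ¬ p ∣ orderOf v) :
    (ψ : G → ℂ) v = (ψ : G → ℂ) 1 := by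
  classical
  have := Fintype.ofFinite (zpowers v)
  obtain ⟨m, hm⟩ := H79.sum_subgroup_eq (CharBase.irr_isCharacter ψ) (zpowers v)
  have hA : Nat.card (zpowers v) = orderOf v := Nat.card_zpowers v
  have hmem : ∀ a : zpowers v, (a : G) ∈ centralizer (P : Set G) := by
    intro a
    exact (Subgroup.zpowers_le.mpr hv) a.2
  have hreg : ∀ a : zpowers v, ¬ p ∣ orderOf (a : G) := by
    intro a h
    have h1 : orderOf (a : G) ∣ Nat.card (zpowers v) := by
      rw [Subgroup.orderOf_coe]; exact orderOf_dvd_natCard a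
    rw [hA] at h1
    exact hvp (h.trans h1)
  choose w hw hw2 using fun a : zpowers v => val_Y_mod B hP hψ (hmem a) (hreg a)
  have hnorm : ∀ g : G, ‖(ψ : G → ℂ) g‖ ≤ dg ψ := by
    intro g
    obtain ⟨n, hn1, hn2⟩ := CharBase.norm_le_of_isCharacter (CharBase.irr_isCharacter ψ) g
    rw [dg_eq] at hn1
    have : dg ψ = n := by exact_mod_cast hn1
    rw [this]; exact hn2
  have hApos : 0 < Nat.card (zpowers v) := Nat.card_pos
  -- `m ≤ n`
  have hmn : m ≤ dg ψ := by
    have h1 : ‖∑ a : zpowers v, (ψ : G → ℂ) a‖ ≤ Nat.card (zpowers v) * dg ψ := by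
      refine (norm_sum_le _ _).trans ?_
      have := Finset.sum_le_card_nsmul (Finset.univ : Finset (zpowers v))
        (fun a => ‖(ψ : G → ℂ) a‖) (dg ψ) (fun a _ => hnorm a)
      rwa [nsmul_eq_mul, Finset.card_univ, ← Nat.card_eq_fintype_card] at this
    rw [hm, norm_mul, Complex.norm_natCast, Complex.norm_natCast] at h1
    have h2 : Nat.card (zpowers v) * m ≤ Nat.card (zpowers v) * dg ψ := by exact_mod_cast h1
    exact Nat.le_of_mul_le_mul_left h2 hApos
  -- `p ∣ n - m`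
  have hpd : (p : ℤ) ∣ (m : ℤ) - dg ψ := by
    have h1 : ((((m : ℤ) - dg ψ) * Nat.card (zpowers v) : ℤ) : ℂ) / (p : ℂ) =
        ∑ a : zpowers v, w a := by
      have hp0 : (p : ℂ) ≠ 0 := by exact_mod_cast hp.out.ne_zero
      rw [div_eq_iff hp0]
      have h2 : ∑ a : zpowers v, (ψ : G → ℂ) a = Nat.card (zpowers v) * (dg ψ : ℂ) +
          (p : ℂ) * ∑ a : zpowers v, w a := by
        rw [Finset.sum_congr rfl (fun a _ => hw2 a), Finset.sum_add_distrib, Finset.sum_const,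
          Finset.card_univ, ← Nat.card_eq_fintype_card, nsmul_eq_mul, Finset.mul_sum]
      rw [hm] at h2
      push_cast
      linear_combination h2
    obtain h2 := Char.DZ.int_dvd_of_isIntegral_div (b := p) hp.out.ne_zero
      (by rw [h1]; exact IsIntegral.sum _ fun a _ => hw a)
    rcases (Nat.prime_iff_prime_int.mp hp.out).dvd_mul.mp h2 with h | h
    · exact h
    · exfalso
      rw [hA] at h
      exact hvp (by exact_mod_cast h)
  have hme : m = dg ψ := by
    obtain ⟨k, hk⟩ := hpd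
    have hp0 : (0 : ℤ) < p := by exact_mod_cast hp.out.pos
    have h1 : k ≤ 0 := by
      by_contra hlt
      have : (p : ℤ) * 1 ≤ p * k := mul_le_mul_of_nonneg_left (by omega) hp0.le
      omega
    have h2 : 0 ≤ k := by
      by_contra hlt
      have : (p : ℤ) * k ≤ p * (-1) := mul_le_mul_of_nonneg_left (by omega) hp0.le
      omega
    have : k = 0 := by omega
    rw [this, mul_zero] at hk
    omega
  rw [hme] at hm
  -- equality in the triangle inequality
  have h1 : ∑ a : zpowers v, ((dg ψ : ℝ) - ((ψ : G → ℂ) a).re) = 0 := by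
    rw [Finset.sum_sub_distrib, Finset.sum_const, Finset.card_univ, ← Nat.card_eq_fintype_card,
      nsmul_eq_mul, ← Complex.re_sum, hm]
    simp
  have h2 : ∀ a ∈ (Finset.univ : Finset (zpowers v)), 0 ≤ (dg ψ : ℝ) - ((ψ : G → ℂ) a).re := by
    intro a _
    have := (Complex.re_le_norm ((ψ : G → ℂ) a)).trans (hnorm a)
    linarith
  have h3 := (Finset.sum_eq_zero_iff_of_nonneg h2).mp h1 ⟨v, mem_zpowers v⟩ (Finset.mem_univ _)
  have h4 : ((ψ : G → ℂ) v).re = dg ψ := by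
    have : (dg ψ : ℝ) - ((ψ : G → ℂ) v).re = 0 := h3
    linarith
  have h5 : ((ψ : G → ℂ) v).im = 0 := by
    have h6 := hnorm v
    have h7 : ‖(ψ : G → ℂ) v‖ ^ 2 = ((ψ : G → ℂ) v).re ^ 2 + ((ψ : G → ℂ) v).im ^ 2 := by
      rw [← Complex.normSq_eq_norm_sq, Complex.normSq_apply]; ring
    have h8 : ‖(ψ : G → ℂ) v‖ ^ 2 ≤ (dg ψ : ℝ) ^ 2 := by
      exact pow_le_pow_left₀ (norm_nonneg _) h6 2
    rw [h7, h4] at h8
    have h9 : ((ψ : G → ℂ) v).im ^ 2 ≤ 0 := by linarith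
    nlinarith [sq_nonneg ((ψ : G → ℂ) v).im]
  rw [dg_eq]
  apply Complex.ext
  · rw [h4]; simp
  · rw [h5]; simp

theorem self_cent_of_small (B : Data p P) (hP : Sp p P) {ψ : IrrCharacter G} (hψ : ψ ∈ B.Y)
    (hd : dg ψ < p) (hf : ∀ g : G, (ψ : G → ℂ) g = (ψ : G → ℂ) 1 → g = 1) :
    centralizer (P : Set G) = P :=
  cent_eq_of hP fun _ hv hvp => hf _ (val_of_small B hP hψ hd hv hvp)

end

end Cfsg.Agent.BT
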