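import Cfsg.Agent.BT.Small
import Cfsg.Agent.BT.Prod
import Cfsg.Agent.BT.CaseTwo2
import Cfsg.Agent.BT.CaseOne2
import Cfsg.Agent.BT.E2b
import Cfsg.Agent.BT.TwoPrimeRow
import Cfsg.Agent.BT.Kernel

/-!
Simple groups of order `p q^b g₀`, `g₀ < p - 1` (S0997).
-/

set_option autoImplicit false

open scoped ComplexConjugate

namespace Cfsg.Agent.BT

open Cfsg Subgroup Cfsg.Agent.BR
open Cfsg.Agent.CharBase (oneIrr)

universe u

section

variable {G : Type u} [Group G] [Fintype G] {p : ℕ} [hp : Fact p.Prime] {P : Subgroup G}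

/-- `2 ψ(1) ≥ p - 1`. -/
theorem Ex.two_dg_ge (st : Ex p P) (hperf : commutator G = ⊤) {ψ : IrrCharacter G}
    (hψ : ψ ∈ st.B.Y) (hd : (st.B.δ₀ = -1 ∧ dg ψ = ind P) ∨ (st.B.δ₀ = 1 ∧ dg ψ + ind P = p))
    (he : 2 * ind P + 1 ≤ p) (h1 : dg ψ ≠ 1) : p ≤ 2 * dg ψ + 1 := by
  classical
  have := Fintype.ofFinite (IrrCharacter G)
  have := Fintype.ofFinite P
  obtain ⟨m, hm, hsum⟩ := CharBase.exists_mult_of_isCharacter (pr_isCharacter ψ ψ)
  obtain ⟨-, h2⟩ := st.sum_ell_pr hψ hd hm hsum
  have hp0 := hp.out.pos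
  have hp3 := st.hp3
  have h3 : 0 ≤ ∑ χ : IrrCharacter G, (m χ : ℤ) * st.ell χ := by
    refine Finset.sum_nonneg fun χ _ => mul_nonneg (by positivity) ?_
    by_cases hχ : χ ∈ st.B.X
    · by_cases hχ1 : χ = oneIrr G
      · rw [hχ1, st.ell_one]
      · obtain ⟨k, hk⟩ := st.B.congr_X st.hP hχ
        have hk' : (dg χ : ℤ) = k * p + st.B.δ χ := by linarith
        rw [st.ell_X hχ hχ1 hk']
        have hpos := dg_pos χ
        have hne1 : dg χ ≠ 1 := fun h => hχ1 (eq_one_of_perfect hperf h)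
        have hk1 : 1 ≤ k := by
          by_contra hcon
          have hk0 : k ≤ 0 := by omega
          have h5 : k * (p : ℤ) ≤ 0 := mul_nonpos_of_nonpos_of_nonneg hk0 (by positivity)
          rcases st.B.sgn χ hχ with h | h <;> rw [h] at hk' <;> omega
        refine mul_nonneg ?_ (by omega)
        rcases st.B.sgn χ hχ with h | h <;> rw [h] <;> omega
    · by_cases hχ' : χ ∈ st.B.Y
      · have h4 := st.fx_Y hχ'
        rw [st.B.dg_Y hχ' hψ] at h4
        rw [st.ell_Y hχ', st.B.dg_Y hχ' hψ]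
        rcases hd with ⟨h5, h6⟩ | ⟨h5, h6⟩
        · rw [h5, h6] at h4
          have h7 : (st.fx χ : ℤ) = 0 := by
            have h8 : (p : ℤ) * st.fx χ = p * 0 := by rw [h4]; ring
            exact mul_left_cancel₀ (by exact_mod_cast hp.out.ne_zero) h8
          rw [h7]
          have := dg_pos ψ
          omega
        · rw [h5] at h4
          have h7 : (st.fx χ : ℤ) = 1 := by
            have h8 : (p : ℤ) * st.fx χ = p * 1 := by rw [h4]; omega
            exact mul_left_cancel₀ (by exact_mod_cast hp.out.ne_zero) h8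
          rw [h7]
          omega
      · rw [st.ell_out hχ hχ']
        exact mul_nonneg (by omega) (by positivity)
  rw [h2] at h3
  have h4 : (0 : ℤ) < dg ψ - 1 := by
    have := dg_pos ψ
    omega
  have h5 := nonneg_of_mul_nonneg_left h3 h4
  omega

end

section

variable {G : Type u} [Group G] [Finite G] [IsSimpleGroup G]

/-- simple groups of order `p q^b g₀`, `g₀ < p - 1`. -/
theorem small_cof (hG : ¬ IsCyclic G) {p q b g₀ : ℕ} [hp : Fact p.Prime] (hq : q.Prime)
    (hpq : p ≠ q) (hG' : Nat.card G = p * q ^ b * g₀) (hg : g₀ < p - 1) :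
    (∃ (m : ℕ) (F : Type) (_ : Field F) (_ : Fintype F), Fintype.card F = p ∧
      (p = 2 ^ m + 1 ∨ p = 2 ^ m - 1) ∧
      Nonempty (G ≃* Matrix.ProjectiveSpecialLinearGroup (Fin 2) F)) ∨
    (∃ (m : ℕ) (F : Type) (_ : Field F) (_ : Fintype F), Fintype.card F = 2 ^ m ∧ p = 2 ^ m + 1 ∧
      3 < p ∧ Nonempty (G ≃* Matrix.ProjectiveSpecialLinearGroup (Fin 2) F)) := by
  classical
  have := Fintype.ofFinite G
  have hnc : ¬ IsMulCommutative G := by
    intro h
    apply hG
    have : ∀ a b : G, a * b = b * a := fun a b => h.is_comm.comm a b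
    letI : CommGroup G := { (inferInstance : Group G) with mul_comm := this }
    infer_instance
  have hperf := perfect_of_simple hnc
  have hcard0 : 0 < Nat.card G := Nat.card_pos
  have hg0 : g₀ ≠ 0 := by
    rintro rfl
    rw [mul_zero] at hG'
    omega
  obtain ⟨c, g₁, hg1, hgc⟩ := Nat.exists_eq_pow_mul_and_not_dvd hg0 q hq.ne_one
  have hg1pos : 0 < g₁ := Nat.pos_of_ne_zero (by rintro rfl; simp at hg1)
  have hg1le : g₁ ≤ g₀ := by
    rw [hgc]
    exact Nat.le_mul_of_pos_left _ (Nat.pow_pos hq.pos)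
  obtain ⟨d, hd⟩ : ∃ d, d = b + c := ⟨_, rfl⟩
  have hG1 : Nat.card G = p * q ^ d * g₁ := by rw [hG', hgc, hd, pow_add]; ring
  have hpg1 : ¬ p ∣ g₁ := fun h => by
    have := Nat.le_of_dvd hg1pos h
    omega
  have hpq' : ¬ p ∣ q ^ d := fun h =>
    hpq ((Nat.prime_dvd_prime_iff_eq hp.out hq).mp (hp.out.dvd_of_dvd_pow h))
  have hm : ¬ p ∣ q ^ d * g₁ := fun h => by
    rcases (hp.out.dvd_mul).mp h with h | h
    · exact hpq' h
    · exact hpg1 h
  have hG2 : Nat.card G = q ^ d * g₁ * p := by rw [hG1]; ring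
  obtain ⟨S⟩ : Nonempty (Sylow p G) := inferInstance
  have hP := sp_of_order hG2 hm S
  obtain ⟨P, hPS⟩ : ∃ P : Subgroup G, P = (S : Subgroup G) := ⟨_, rfl⟩
  rw [← hPS] at hP
  clear hPS S
  obtain ⟨B⟩ := CycG.nonempty_data hP
  have hp3 := three_le hP hperf
  have he2 := two_le_ind hP hperf
  have hele := ind_le hP
  -- nonprincipal characters of `X` have degree divisible by `q`
  have hdvd1 : ∀ n : ℕ, n ∣ p * q ^ d * g₁ → ¬ p ∣ n → n ∣ q ^ d * g₁ := by
    intro n h1 h2
    have h3 : n.Coprime p := ((hp.out.coprime_iff_not_dvd).mpr h2).symm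
    rw [mul_assoc] at h1
    exact h3.dvd_of_dvd_mul_left h1
  have hdvd2 : ∀ n : ℕ, n ∣ p * q ^ d * g₁ → ¬ p ∣ n → ¬ q ∣ n → n ∣ g₁ := by
    intro n h1 h2 h3
    have h4 := hdvd1 n h1 h2
    have h5 : n.Coprime (q ^ d) := Nat.Coprime.pow_right d ((hq.coprime_iff_not_dvd).mpr h3).symm
    exact h5.dvd_of_dvd_mul_left h4
  have hdvdG : ∀ χ : IrrCharacter G, dg χ ∣ p * q ^ d * g₁ := fun χ => by
    rw [← hG1]; exact BlkC.charDegree_dvd_card χ
  have hXp : ∀ χ ∈ B.X, ¬ p ∣ dg χ := by
    intro χ hχ h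
    have h1 := B.congr_X hP hχ
    have h2 : (p : ℤ) ∣ (dg χ : ℤ) := by exact_mod_cast h
    have h3 : (p : ℤ) ∣ B.δ χ := by
      have := dvd_sub h2 h1
      simpa using this
    have h4 : (p : ℤ) ∣ 1 := by
      rcases B.sgn χ hχ with h | h <;> rw [h] at h3
      · exact h3
      · simpa using h3
    have := Int.le_of_dvd (by norm_num) h4
    omega
  -- degree `≡ ±1`, less than `p - 1`
  have hXsmall : ∀ χ ∈ B.X, dg χ < p - 1 → χ = oneIrr G := by
    intro χ hχ h
    apply eq_one_of_perfect hperf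
    obtain ⟨k, hk⟩ := B.congr_X hP hχ
    have hpos := dg_pos χ
    rcases B.sgn χ hχ with h1 | h1 <;> rw [h1] at hk
    · have hk0 : k = 0 := by
        rcases lt_trichotomy k 0 with h2 | h2 | h2
        · exfalso
          have : (p : ℤ) * k ≤ (p : ℤ) * (-1) := mul_le_mul_of_nonneg_left (by omega) (by positivity)
          omega
        · exact h2
        · exfalso
          have : (p : ℤ) * 1 ≤ (p : ℤ) * k := mul_le_mul_of_nonneg_left (by omega) (by positivity)
          omega
      rw [hk0, mul_zero] at hk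
      omega
    · exfalso
      rcases lt_trichotomy k 0 with h2 | h2 | h2
      · have : (p : ℤ) * k ≤ (p : ℤ) * (-1) := mul_le_mul_of_nonneg_left (by omega) (by positivity)
        omega
      · rw [h2, mul_zero] at hk
        omega
      · have : (p : ℤ) * 1 ≤ (p : ℤ) * k := mul_le_mul_of_nonneg_left (by omega) (by positivity)
        omega
  have hXq : ∀ χ ∈ B.X, χ ≠ oneIrr G → q ∣ dg χ := by
    intro χ hχ h1
    by_contra h2
    have h3 := hdvd2 _ (hdvdG χ) (hXp χ hχ) h2
    have h4 := Nat.le_of_dvd hg1pos h3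
    exact h1 (hXsmall χ hχ (by omega))
  obtain ⟨ψ, hψ⟩ := B.Y_nonempty hp.out.two_le
  have hψ1 : ψ ≠ oneIrr G := by
    rintro rfl
    exact Finset.disjoint_left.mp B.disj B.one_mem hψ
  have hdψ1 : dg ψ ≠ 1 := fun h => hψ1 (eq_one_of_perfect hperf h)
  have hdeg := B.degEq hψ
  rw [← Finset.add_sum_erase _ _ B.one_mem, B.δ_one hP, dg_one] at hdeg
  have hqsum : (q : ℤ) ∣ ∑ χ ∈ B.X.erase (oneIrr G), B.δ χ * (dg χ : ℤ) := by
    refine Finset.dvd_sum fun χ hχ => Dvd.dvd.mul_left ?_ _
    exact_mod_cast hXq χ (Finset.mem_erase.mp hχ).2 (Finset.mem_erase.mp hχ).1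
  have hqψ : ¬ q ∣ dg ψ := by
    intro h
    have h1 : (q : ℤ) ∣ B.δ₀ * (dg ψ : ℤ) := Dvd.dvd.mul_left (by exact_mod_cast h) _
    have h2 : (q : ℤ) ∣ 1 := by
      have h3 := dvd_add hqsum h1
      have h4 : (1 : ℤ) = -(∑ χ ∈ B.X.erase (oneIrr G), B.δ χ * (dg χ : ℤ) +
        B.δ₀ * (dg ψ : ℤ)) := by
        push_cast at hdeg
        linarith
      rw [h4]
      exact (dvd_neg).mpr h3
    have := Int.le_of_dvd (by norm_num) h2
    have := hq.two_le
    omega
  have hcY := B.congr_Y hP hψ
  have hpψ : ¬ p ∣ dg ψ := by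
    intro h
    have h1 : (p : ℤ) ∣ B.δ₀ * (ind P : ℤ) := by
      have h2 : (p : ℤ) ∣ (dg ψ : ℤ) := by exact_mod_cast h
      have := dvd_sub hcY h2
      simpa using this
    have h2 : (p : ℤ) ∣ (ind P : ℤ) := by
      rcases B.sgn₀ with h | h <;> rw [h] at h1
      · simpa using h1
      · simpa using h1
    have h3 : p ∣ ind P := by exact_mod_cast h2
    have := Nat.le_of_dvd (by omega) h3
    omega
  have hψg : dg ψ ∣ g₁ := hdvd2 _ (hdvdG ψ) hpψ hqψ
  have hψlt : dg ψ < p - 1 := (Nat.le_of_dvd hg1pos hψg).trans_lt (hg1le.trans_lt hg)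
  have hfaith : ∀ g : G, (ψ : G → ℂ) g = (ψ : G → ℂ) 1 → g = 1 :=
    fun g hg => faithful_of_simple hψ1 hg
  have hC := self_cent_of_small B hP hψ (by omega) hfaith
  let st : Ex p P := ⟨hP, hC, B, hp3⟩
  -- the two cases
  have hd2 : (st.B.δ₀ = -1 ∧ dg ψ = ind P) ∨ (st.B.δ₀ = 1 ∧ dg ψ + ind P = p) := by
    obtain ⟨k, hk⟩ := hcY
    have hpos := dg_pos ψ
    have hbd1 : k < 2 := by
      by_contra hcon
      have : (p : ℤ) * 2 ≤ (p : ℤ) * k := mul_le_mul_of_nonneg_left (by omega) (by positivity)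
      rcases B.sgn₀ with h | h <;> rw [h] at hk <;> omega
    have hbd2 : -1 < k := by
      by_contra hcon
      have : (p : ℤ) * k ≤ (p : ℤ) * (-1) := mul_le_mul_of_nonneg_left (by omega) (by positivity)
      rcases B.sgn₀ with h | h <;> rw [h] at hk <;> omega
    have hk01 : k = 0 ∨ k = 1 := by omega
    rcases B.sgn₀ with h | h <;> rw [h] at hk
    · right
      refine ⟨h, ?_⟩
      rcases hk01 with rfl | rfl
      · exfalso; omega
      · omega
    · left
      refine ⟨h, ?_⟩
      rcases hk01 with rfl | rfl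
      · omega
      · exfalso
        omega
  -- `e ≤ (p - 1)/2`
  have het : B.Y.card * ind P = p - 1 := B.cardY
  have hene : ind P ≠ p - 1 := by
    intro h
    rcases hd2 with ⟨-, h1⟩ | ⟨-, h1⟩
    · omega
    · omega
  have ht2 : 2 ≤ B.Y.card := by
    have h1 : B.Y.card ≠ 0 := by
      intro h
      rw [h, zero_mul] at het
      omega
    have h2 : B.Y.card ≠ 1 := by
      intro h
      rw [h, one_mul] at het
      exact hene het
    omega
  have hehalf : 2 * ind P + 1 ≤ p := by
    have : 2 * ind P ≤ B.Y.card * ind P := Nat.mul_le_mul_right _ ht2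
    omega
  obtain ⟨n, hD⟩ := exists_index hP
  have hn1 := one_le_n hP hperf hD
  have hGe : Nat.card G = p * (ind P * (normalizer (P : Set G)).index) := by
    have := st.card_G
    rw [this, mul_assoc]
  rcases hd2 with ⟨hδ, hdψ⟩ | ⟨hδ, hdψ⟩
  · -- Case I
    have h1 := st.two_dg_ge hperf hψ (Or.inl ⟨hδ, hdψ⟩) hehalf hdψ1
    have h2 : 2 * dg ψ + 1 = p := by omega
    have h2' : 2 * ind P + 1 = p := by rw [← hdψ]; exact h2
    obtain ⟨j, hj⟩ := hψg
    have hj1 : j = 1 := by
      rcases Nat.lt_or_ge j 2 with h | h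
      · have : j ≠ 0 := by rintro rfl; omega
        omega
      · exfalso
        have : dg ψ * 2 ≤ dg ψ * j := Nat.mul_le_mul_left _ h
        omega
    rw [hj1, mul_one] at hj
    have hdY : ∀ ψ' ∈ st.B.Y, dg ψ' = ind P := fun ψ' hψ' => by
      rw [st.B.dg_Y hψ' hψ]; exact hdψ
    obtain ⟨hXp', hXm', hcard, -, -⟩ := st.case1 hperf hδ hdY h2'
    have hcX := st.card_X_split
    obtain ⟨χ₁, hχ₁⟩ : st.Xp.Nonempty := Finset.card_pos.mp (by omega)
    obtain ⟨χ₂, hχ₂⟩ : st.Xm.Nonempty := Finset.card_pos.mp (by omega)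
    have hq2 : q = 2 := by
      have h3 : q ∣ p + 1 := by
        rw [← hXp' χ₁ hχ₁]
        exact hXq χ₁ (st.mem_Xp.mp hχ₁).1 (st.mem_Xp.mp hχ₁).2.1
      have h4 : q ∣ dg χ₂ := by
        refine hXq χ₂ (st.mem_Xm.mp hχ₂).1 ?_
        rintro rfl
        have h5 := (st.mem_Xm.mp hχ₂).2
        rw [st.B.δ_one st.hP] at h5
        norm_num at h5
      have h5 := Nat.dvd_sub h3 h4
      have h6 : p + 1 - dg χ₂ = 2 := by
        have := hXm' χ₂ hχ₂
        omega
      rw [h6] at h5
      exact (Nat.prime_dvd_prime_iff_eq hq Nat.prime_two).mp h5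
    subst hq2
    have hG3 : Nat.card G = p * 2 ^ d * ind P := by rw [hG1, hj, hdψ]
    have hidx := st.case1_index hperf hδ hdY h2' hG3
    have hfin := (cent_concl hperf hP hidx (fun hT => by
      have := third_le hp.out.one_lt.le hT
      omega) hC).psl
    rcases hfin with ⟨F, hF, hF', h3, h4, h5⟩ | h
    · left
      refine ⟨d, F, hF, hF', h3, Or.inr ?_, h5⟩
      have h6 : (p * ind P) * 2 ^ d = (p * ind P) * (1 + 1 * p) := by
        rw [← hidx]
        calc (p * ind P) * 2 ^ d = Nat.card G := by rw [hG3]; ring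
          _ = _ := by rw [hGe]; ring
      have h7 := Nat.eq_of_mul_eq_mul_left (Nat.mul_pos hp.out.pos (by omega)) h6
      omega
    · right
      exact h
  · -- Case II
    obtain ⟨j, hj⟩ := hψg
    have hj1 : j = 1 := by
      rcases Nat.lt_or_ge j 2 with h | h
      · have : j ≠ 0 := by rintro rfl; omega
        omega
      · exfalso
        have : dg ψ * 2 ≤ dg ψ * j := Nat.mul_le_mul_left _ h
        omega
    rw [hj1, mul_one] at hj
    -- `e` is a power of `q`
    have hcop : (ind P).Coprime (dg ψ) := by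
      have h1 : (ind P).Coprime p := ((hp.out.coprime_iff_not_dvd).mpr (fun h => by
        have := Nat.le_of_dvd (by omega) h
        omega)).symm
      rw [← hdψ] at h1
      simpa using h1
    have hedvd : ind P ∣ q ^ d := by
      have h1 : ind P ∣ q ^ d * dg ψ := by
        have h2 : p * (ind P * (normalizer (P : Set G)).index) = p * (q ^ d * dg ψ) := by
          rw [← hGe, hG1, hj]; ring
        have h3 := Nat.eq_of_mul_eq_mul_left hp.out.pos h2
        rw [← h3]
        exact Dvd.intro _ rfl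
      exact hcop.dvd_of_dvd_mul_right h1
    obtain ⟨a, had, hea⟩ := (Nat.dvd_prime_pow hq).mp hedvd
    have ha0 : a ≠ 0 := by
      rintro rfl
      rw [pow_zero] at hea
      omega
    have hqe : q ∣ ind P := by rw [hea]; exact dvd_pow_self q ha0
    have hq2 : q = 2 := by
      have h1 : q ∣ p - 1 := by rw [← het]; exact Dvd.dvd.mul_left hqe _
      have h2 : (q : ℤ) ∣ (p : ℤ) + 1 := by
        have h3 : (p : ℤ) + 1 = -(∑ χ ∈ B.X.erase (oneIrr G), B.δ χ * (dg χ : ℤ)) + ind P := by
          have h4 : B.δ₀ = 1 := hδ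
          rw [h4] at hdeg
          push_cast at hdeg
          have h5 : (dg ψ : ℤ) + ind P = p := by exact_mod_cast hdψ
          linarith
        rw [h3]
        refine dvd_add ((dvd_neg).mpr hqsum) ?_
        exact_mod_cast hqe
      have h3 : q ∣ p + 1 := by exact_mod_cast h2
      have h4 : q ∣ 2 := by
        have h5 := Nat.dvd_sub h3 h1
        have h6 : p + 1 - (p - 1) = 2 := by omega
        rwa [h6] at h5
      exact (Nat.prime_dvd_prime_iff_eq hq Nat.prime_two).mp h4
    subst hq2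
    by_cases ha1 : a = 1
    · -- `e = 2`
      right
      have he : ind P = 2 := by rw [hea, ha1, pow_one]
      have hp5 : 5 ≤ p := by
        have h1 : dg ψ + 2 = p := by rw [← he]; exact hdψ
        have h2 := dg_pos ψ
        have h3 : p ≠ 4 := by
          intro h
          have := hp.out
          rw [h] at this
          revert this
          decide
        omega
      have hE : E2 p P := ⟨st, he, hδ, fun ψ' hψ' => by
        rw [st.B.dg_Y hψ' hψ, ← he]; exact hdψ, fun ψ' hψ' g hg => by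
        refine faithful_of_simple ?_ hg
        rintro rfl
        exact Finset.disjoint_left.mp B.disj B.one_mem hψ', hp5⟩
      obtain ⟨m, F, hF, hF', h1, h2, h3, ⟨e1⟩⟩ := hE.ident
      obtain ⟨e2⟩ := sl_equiv_psl (F := F) (m := m) (by omega) h3
      exact ⟨m, F, hF, hF', h3, h2, by omega, ⟨e1.trans e2⟩⟩
    · -- `4 ∣ e`
      have h4e : 4 ∣ ind P := by
        rw [hea]
        exact (Nat.pow_dvd_pow_iff_le_right (by norm_num : 1 < 2)).mpr (by omega : 2 ≤ a)
      have h4p : 4 ∣ p - 1 := by rw [← het]; exact Dvd.dvd.mul_left h4e _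
      -- a character with degree not divisible by `4`
      obtain ⟨χ, hχ, hχ1, hχ4⟩ : ∃ χ ∈ B.X, χ ≠ oneIrr G ∧ ¬ 4 ∣ dg χ := by
        by_contra hcon
        push Not at hcon
        have h1 : (4 : ℤ) ∣ ∑ χ ∈ B.X.erase (oneIrr G), B.δ χ * (dg χ : ℤ) := by
          refine Finset.dvd_sum fun χ hχ => Dvd.dvd.mul_left ?_ _
          exact_mod_cast hcon χ (Finset.mem_erase.mp hχ).2 (Finset.mem_erase.mp hχ).1
        have h4 : B.δ₀ = 1 := hδ
        rw [h4] at hdeg
        push_cast at hdeg
        omega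
      have hχ2 := hXq χ hχ hχ1
      obtain ⟨r, hr⟩ := hχ2
      have hr2 : ¬ 2 ∣ r := by
        rintro ⟨s, rfl⟩
        apply hχ4
        rw [hr]
        exact ⟨s, by ring⟩
      have hrd : r ∣ dg ψ := by
        have h1 := hdvd1 _ (hdvdG χ) (hXp χ hχ)
        rw [hr, hj] at h1
        have h2 : r ∣ 2 ^ d * dg ψ := (Dvd.intro_left _ rfl).trans h1
        have h3 : r.Coprime (2 ^ d) :=
          Nat.Coprime.pow_right d ((Nat.prime_two.coprime_iff_not_dvd).mpr hr2).symm
        exact h3.dvd_of_dvd_mul_left h2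
      obtain ⟨i, hi⟩ := hrd
      have hi1 : i = 1 := by
        rcases Nat.lt_or_ge i 2 with h | h
        · have : i ≠ 0 := by
            rintro rfl
            have := dg_pos ψ
            omega
          omega
        · exfalso
          have h1 : r * 2 ≤ r * i := Nat.mul_le_mul_left _ h
          exact hχ1 (hXsmall χ hχ (by omega))
      rw [hi1, mul_one] at hi
      have hdχ : (dg χ : ℤ) = 2 * (p - ind P) := by
        rw [hr, ← hi]
        push_cast
        have h5 : (dg ψ : ℤ) + ind P = p := by exact_mod_cast hdψ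
        linarith
      have he1 : 2 * ind P + 1 = p := by
        obtain ⟨k, hk⟩ := B.congr_X hP hχ
        rw [hdχ] at hk
        have hk1 : (p : ℤ) * (2 - k) = 2 * ind P + B.δ χ := by linarith
        have h6 : 2 - k = 1 := by
          rcases lt_trichotomy (2 - k) 1 with h7 | h7 | h7
          · exfalso
            have : (p : ℤ) * (2 - k) ≤ (p : ℤ) * 0 :=
              mul_le_mul_of_nonneg_left (by omega) (by positivity)
            rcases B.sgn χ hχ with h | h <;> rw [h] at hk1 <;> omega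
          · exact h7
          · exfalso
            have : (p : ℤ) * 2 ≤ (p : ℤ) * (2 - k) :=
              mul_le_mul_of_nonneg_left (by omega) (by positivity)
            rcases B.sgn χ hχ with h | h <;> rw [h] at hk1 <;> omega
        rw [h6, mul_one] at hk1
        rcases B.sgn χ hχ with h | h <;> rw [h] at hk1
        · omega
        · exfalso
          omega
      have hidx := st.case2_index hperf hδ (fun ψ' hψ' => by
        rw [st.B.dg_Y hψ' hψ]; exact hdψ) he1 hXq ha0 hea
        (b := d) (by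
          rw [hG1, hj]
          have : dg ψ = ind P + 1 := by omega
          rw [this])
      have hfin := (cent_concl hperf hP hidx (fun hT => by
        have := third_le hp.out.one_lt.le hT
        omega) hC).psl
      rcases hfin with ⟨F, hF, hF', h1, h2, h3⟩ | h
      · left
        refine ⟨a + 1, F, hF, hF', h1, Or.inl ?_, h3⟩
        rw [pow_succ, ← hea]
        omega
      · right
        exact h

end

end Cfsg.Agent.BT
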