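import Cfsg.Agent.BT.Kernel
import Cfsg.Agent.Blk.Orth
import Cfsg.Agent.Blk.Prin
import Cfsg.Agent.Glaub.PGroup
import Cfsg.Agent.Char.DefectZero
import Cfsg.Agent.BlkC.Basic

/-!
Simple groups of order `p^a q^b r`: no element of order `pr` (S0904, S1001).
-/

set_option autoImplicit false

open scoped ComplexConjugate

namespace Cfsg.Agent.BT

open Cfsg Subgroup Cfsg.Agent.BR
open Cfsg.Agent.CharBase (oneIrr)
open Cfsg.Agent.Blk

universe u

section

variable {G : Type u} [Group G] [Finite G] [IsSimpleGroup G]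

omit [IsSimpleGroup G] in
theorem exists_mem_principal {p : ℕ} (hp : p.Prime) {M : Ideal AlgInt} (hM : IsPModular p M)
    {q : ℕ} (hq : q.Prime) {y : G} (hy : p ∣ orderOf y) :
    ∃ χ ∈ principalBlock M G, χ ≠ oneIrr G ∧ ¬ q ∣ dg χ ∧ (χ : G → ℂ) y ≠ 0 := by
  classical
  have := Fintype.ofFinite G
  have hMp : M.IsPrime := hM.2.1.isPrime
  have := Fintype.ofFinite (IrrCharacter G)
  by_contra hcon
  push Not at hcon
  have hx := weak_block_orthogonality hM (Blk.isPBlock_principalBlock (M := M) (G := G))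
    (x := 1) (y := y) (by rw [orderOf_one]; exact hp.one_lt.ne' ∘ Nat.dvd_one.1) hy
  have hone : oneIrr G ∈ principalBlock M G := oneIrr_mem_principalBlock
  rw [finsum_mem_eq_sum_ite, ← Finset.add_sum_erase _ _ (Finset.mem_univ (oneIrr G)),
    if_pos hone] at hx
  have h7 : ∀ χ : IrrCharacter G, ∃ z : ℂ, IsIntegral ℤ z ∧ (χ ≠ oneIrr G →
      (if χ ∈ principalBlock M G then (χ : G → ℂ) 1 * conj ((χ : G → ℂ) y) else 0) =
        (q : ℂ) * z) := by
    intro χ
    by_cases hχ : χ ∈ principalBlock M G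
    · by_cases hne : χ ≠ oneIrr G
      · by_cases hqd : q ∣ dg χ
        · obtain ⟨m, hm⟩ := hqd
          refine ⟨(m : ℂ) * (χ : G → ℂ) y⁻¹, ?_, ?_⟩
          · exact (isIntegral_natCast m).mul (CharBase.irr_isIntegral χ _)
          · intro _
            rw [if_pos hχ, ← CharBase.irr_inv, dg_eq, hm]
            push_cast; ring
        · refine ⟨0, isIntegral_zero, fun _ => ?_⟩
          rw [if_pos hχ, hcon χ hχ hne hqd, map_zero, mul_zero, mul_zero]
      · exact ⟨0, isIntegral_zero, fun h => absurd h hne⟩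
    · exact ⟨0, isIntegral_zero, fun _ => by rw [if_neg hχ, mul_zero]⟩
  choose z hz1 hz2 using h7
  rw [Finset.sum_congr rfl (fun χ hχ => hz2 χ (Finset.ne_of_mem_erase hχ)), ← Finset.mul_sum] at hx
  set w := ∑ χ ∈ Finset.univ.erase (oneIrr G), z χ with hw
  have hwi : IsIntegral ℤ w := IsIntegral.sum _ fun χ _ => hz1 χ
  rw [CharBase.oneIrr_apply, CharBase.oneIrr_apply, map_one, mul_one] at hx
  have hq0 : (q : ℂ) ≠ 0 := by exact_mod_cast hq.ne_zero
  have h9 : ((-1 : ℤ) : ℂ) / (q : ℂ) = w := by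
    rw [div_eq_iff hq0]
    push_cast
    linear_combination -hx
  obtain ⟨n, hn⟩ := Char.DZ.int_dvd_of_isIntegral_div (a := -1) hq.ne_zero (by rw [h9]; exact hwi)
  have h10 : (q : ℤ) ∣ 1 := ⟨-n, by linarith⟩
  have h11 : q ∣ 1 := by exact_mod_cast h10
  exact hq.one_lt.ne' (Nat.dvd_one.mp h11)

/-- in a nonabelian simple group no nonprincipal character of the principal `p`-block has
`p`-power degree. -/
theorem not_pow_degree {p : ℕ} [hp : Fact p.Prime] (hnc : ¬ IsMulCommutative G)
    (hpG : p ∣ Nat.card G) {M : Ideal AlgInt}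
    (hM : IsPModular p M) {χ : IrrCharacter G} (hχ : χ ∈ principalBlock M G) (h1 : χ ≠ oneIrr G)
    {i : ℕ} (hi : dg χ = p ^ i) : False := by
  have := Fintype.ofFinite G
  have hMp : M.IsPrime := hM.2.1.isPrime
  obtain ⟨S⟩ : Nonempty (Sylow p G) := inferInstance
  -- a central element of `S`
  have hnt : Nontrivial S := by
    rw [← Finite.one_lt_card_iff_nontrivial]
    have h2 := Sylow.dvd_card_of_dvd_card S hpG
    exact hp.out.one_lt.trans_le (Nat.le_of_dvd Nat.card_pos h2)
  have hcn : Nontrivial (center S) := S.2.center_nontrivial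
  obtain ⟨z, hz1⟩ := exists_ne (1 : center S)
  have hz1' : ((z : S) : G) ≠ 1 := by
    intro h
    apply hz1
    apply Subtype.ext
    exact Subtype.ext h
  have hle : (S : Subgroup G) ≤ centralizer ({((z : S) : G)} : Set G) := by
    intro s hs
    rw [Subgroup.mem_centralizer_iff]
    intro y hy
    rw [Set.mem_singleton_iff.mp hy]
    have := Subgroup.mem_center_iff.mp z.2 ⟨s, hs⟩
    exact (congrArg Subtype.val this).symm
  have hidx : ¬ p ∣ (centralizer ({((z : S) : G)} : Set G)).index := by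
    intro h
    exact S.not_dvd_index (h.trans (Subgroup.index_dvd_of_le hle))
  have hcen : center G = ⊥ := by
    rcases (inferInstance : (center G).Normal).eq_bot_or_eq_top with h | h
    · exact h
    · exfalso
      apply hnc
      refine ⟨⟨fun a b => ?_⟩⟩
      have : a ∈ center G := by rw [h]; trivial
      exact (Subgroup.mem_center_iff.mp this b).symm
  have h0 : (χ : G → ℂ) ((z : S) : G) = 0 := by
    apply eq_zero_of_coprime (fun g hg => faithful_of_simple h1 hg)
    · rw [hcen, Subgroup.mem_bot]; exact hz1'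
    · rw [hi]
      exact Nat.Coprime.pow_left _ (hp.out.coprime_iff_not_dvd.mpr hidx)
  have h2 := hχ ((z : S) : G)
  unfold centralChar at h2
  rw [h0, mul_zero, zero_div, sub_zero, mul_one, div_one, mli_natCast_iff hM] at h2
  exact hidx h2

theorem no_pr {p q r a b : ℕ} (hp : p.Prime) (hq : q.Prime) (hr : r.Prime) (hpq : p ≠ q)
    (hpr : p ≠ r) (hqr : q ≠ r) (hnc : ¬ IsMulCommutative G) (hG : Nat.card G = p ^ a * q ^ b * r)
    {y : G} (h1 : p ∣ orderOf y) (h2 : r ∣ orderOf y) : False := by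
  have hpf : Fact p.Prime := ⟨hp⟩
  have := Fintype.ofFinite G
  obtain ⟨M, hM⟩ := Cfsg.Agent.Glaub.exists_isPModular hp
  obtain ⟨χ, hχ, hne, hqd, hy⟩ := exists_mem_principal hp hM hq h1
  -- `r` does not divide the degree
  have hrd : ¬ r ∣ dg χ := by
    intro h
    apply hy
    refine Char.DZ.eq_zero_of_defect_zero r 1 hr ?_ χ.2 (dg_eq χ) (by rwa [pow_one]) y h2
    intro h3
    rw [hG, show (1 + 1) = 2 from rfl, pow_two] at h3
    have h4 := Nat.dvd_of_mul_dvd_mul_right hr.pos h3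
    rcases (hr.dvd_mul).mp h4 with h5 | h5
    · exact hpr ((Nat.prime_dvd_prime_iff_eq hr hp).mp (hr.dvd_of_dvd_pow h5)).symm
    · exact hqr ((Nat.prime_dvd_prime_iff_eq hr hq).mp (hr.dvd_of_dvd_pow h5)).symm
  have h3 : dg χ ∣ Nat.card G := BlkC.charDegree_dvd_card χ
  rw [hG] at h3
  have h4 : (dg χ).Coprime r := ((Nat.Prime.coprime_iff_not_dvd hr).mpr hrd).symm
  have h5 : (dg χ).Coprime (q ^ b) :=
    Nat.Coprime.pow_right b ((Nat.Prime.coprime_iff_not_dvd hq).mpr hqd).symm
  have h6 := h5.dvd_of_dvd_mul_right (h4.dvd_of_dvd_mul_right h3)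
  obtain ⟨i, -, hi⟩ := (Nat.dvd_prime_pow hp).mp h6
  exact not_pow_degree hnc (h1.trans (orderOf_dvd_natCard y)) hM hχ hne hi

end

end Cfsg.Agent.BT
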